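import Groth.Agent.ProperComp7.Main
import Groth.Agent.H23.GeomConnGamma
import Groth.Agent.LocalCrit.Completion
import Mathlib.RingTheory.AdicCompletion.AsTensorProduct
import Mathlib.AlgebraicGeometry.Morphisms.Flat

/-!
# Proper schemes with constant global functions: base change and connected fibres
-/

set_option linter.style.haveILetI false

universe u

open CategoryTheory CategoryTheory.Limits AlgebraicGeometry IsLocalRing

namespace Groth.Agent.ModX56

variable {A : Type u} [CommRing A] {X : Scheme.{u}} (p : X ⟶ Spec (CommRingCat.of A))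

/-- Flat base change of `Γ(X, O) = A`. -/
theorem bijective_appTop_baseChange [QuasiCompact p] [QuasiSeparated p] (hp : Function.Bijective p.appTop)
    {B : Type u} [CommRing B] (φ : A →+* B) (hφ : φ.Flat) :
    Function.Bijective (pullback.snd p (Spec.map (CommRingCat.ofHom φ))).appTop := by
  set t := Spec.map (CommRingCat.ofHom φ) with ht
  haveI : Flat t := (Flat.SpecMap_iff (f := CommRingCat.ofHom φ)).mpr hφ
  have : CompactSpace X := (quasiCompact_iff_compactSpace p).mp inferInstance
  have : QuasiSeparatedSpace X := (quasiSeparated_iff_quasiSeparatedSpace p).mp inferInstance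
  have hiso := isIso_pushoutSection_of_isQuasiSeparated_of_flat_right (IsPullback.of_hasPullback p t)
    (US := ⊤) (UT := ⊤) (UX := ⊤) (UY := ⊤) le_top le_top (by simp) (isAffineOpen_top _) (isAffineOpen_top _)
    isCompact_univ isQuasiSeparated_univ
  replace hiso := (isIso_pushoutSection_iff ..).1 hiso
  have e : ∀ {V W : Scheme.{u}} (h : V ⟶ W), h.appLE ⊤ ⊤ le_top = h.appTop := fun h => by
    simp [Scheme.Hom.appLE]
    try rfl
  have hvi : IsIso (p.appLE ⊤ ⊤ le_top) := by
    rw [e]
    exact (ConcreteCategory.isIso_iff_bijective _).mpr hp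
  have hw := hiso.isIso_inr_of_isIso hvi
  rw [e] at hw
  exact ConcreteCategory.bijective_of_isIso _

/-- A proper scheme over a non-zero complete Noetherian ring with constant global functions has
connected closed fibre. -/
theorem connectedSpace_fibre_of_complete [IsNoetherianRing A] [Nontrivial A] [IsProper p]
    (hp : Function.Bijective p.appTop) (hA : ∀ e : A, IsIdempotentElem e → e = 0 ∨ e = 1)
    (I : Ideal A) [IsAdicComplete I A] :
    ConnectedSpace ↥(pullback p (Spec.map (CommRingCat.ofHom (Ideal.Quotient.mk I)))) := by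
  let ψ : CommRingCat.of A ⟶ Γ(X, ⊤) := (Scheme.ΓSpecIso _).inv ≫ p.appTop
  have hψ : Function.Bijective ψ.hom := by
    exact hp.comp (ConcreteCategory.bijective_of_isIso (Scheme.ΓSpecIso (CommRingCat.of A)).inv)
  let e : A ≃+* Γ(X, ⊤) := RingEquiv.ofBijective ψ.hom hψ
  haveI : Nontrivial Γ(X, ⊤) := e.injective.nontrivial
  haveI : ConnectedSpace X := H23.GeomConnGamma.connectedSpace_of_idem fun x hx => by
    have hx' : IsIdempotentElem (e.symm x) := by
      show e.symm x * e.symm x = e.symm x
      rw [← map_mul, hx]
    rcases hA _ hx' with h0 | h0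
    · exact Or.inl (e.symm.injective (by rw [h0, map_zero]))
    · exact Or.inr (e.symm.injective (by rw [h0, map_one]))
  have h := ProperComp7.bijective_closedFibre (I := I) p
  set P := pullback p (Spec.map (CommRingCat.ofHom (Ideal.Quotient.mk I)))
  have hne : Nonempty P := by
    obtain ⟨x⟩ := (inferInstance : Nonempty X)
    obtain ⟨c, -⟩ := h.2 (x : _root_.ConnectedComponents X)
    obtain ⟨q, -⟩ := ConnectedComponents.surjective_coe c
    exact ⟨q⟩
  haveI : Subsingleton (_root_.ConnectedComponents ↥P) := h.1.subsingleton
  haveI : PreconnectedSpace ↥P := preconnectedSpace_iff_connectedComponent.2 fun x =>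
    Set.eq_univ_of_forall fun y => ConnectedComponents.coe_eq_coe'.1 (Subsingleton.elim _ _)
  exact ⟨hne⟩

/-- For a proper `p` with constant global functions, fibres over residue maps of complete local flat
algebras are connected. -/
theorem connectedSpace_pullback_of_flat_complete [IsProper p] (hp : Function.Bijective p.appTop)
    {B : Type u} [CommRing B] [IsNoetherianRing B] [IsLocalRing B] [IsAdicComplete (maximalIdeal B) B]
    (φ : A →+* B) (hφ : φ.Flat) :
    ConnectedSpace ↥(pullback p (Spec.map (CommRingCat.ofHom ((residue B).comp φ)))) := by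
  let t := Spec.map (CommRingCat.ofHom φ)
  have h := connectedSpace_fibre_of_complete (pullback.snd p t) (bijective_appTop_baseChange p hp φ hφ)
    (fun e he => (IsLocalRing.isUnit_or_isUnit_one_sub_self e).symm.imp
      (fun h => h.mul_left_cancel (by rw [mul_zero, sub_mul, one_mul, he.eq, sub_self]))
      (fun h => h.mul_left_cancel (by rw [mul_one]; exact he.eq))) (maximalIdeal B)
  have ec : Spec.map (CommRingCat.ofHom ((residue B).comp φ)) =
      Spec.map (CommRingCat.ofHom (residue B)) ≫ t := by rw [← Spec.map_comp]; rfl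
  haveI : ConnectedSpace ↥(pullback (pullback.snd p t) (Spec.map (CommRingCat.ofHom (residue B)))) := h
  rw [ec]
  exact (pullbackLeftPullbackSndIso p t _).hom.homeomorph.surjective.connectedSpace
    (pullbackLeftPullbackSndIso p t _).hom.continuous

/-- Connectedness of the closed fibre. -/
theorem connectedSpace_closedFibre [IsNoetherianRing A] [IsLocalRing A] [IsProper p]
    (hp : Function.Bijective p.appTop) :
    ConnectedSpace ↥(pullback p (Spec.map (CommRingCat.ofHom (residue A)))) := by
  haveI := LocalCrit.isNoetherianRing_completion (A := A) (C := A)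
    (by rw [Algebra.algebraMap_self, Ideal.map_id])
  let Â := AdicCompletion (maximalIdeal A) A
  let φ := algebraMap A Â
  haveI := connectedSpace_pullback_of_flat_complete p hp φ (RingHom.flat_algebraMap_iff.mpr inferInstance)
  let ι := IsLocalRing.ResidueField.map φ
  have hι : Function.Bijective ι := AdicCompletion.residueField_map_bijective_of_fg (IsNoetherian.noetherian _)
  have ec : Spec.map (CommRingCat.ofHom ((residue Â).comp φ)) =
      Spec.map (CommRingCat.ofHom ι) ≫ Spec.map (CommRingCat.ofHom (residue A)) := by
    rw [← Spec.map_comp]; rfl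
  haveI : IsIso (CommRingCat.ofHom ι) := (ConcreteCategory.isIso_iff_bijective _).mpr hι
  let q : pullback p (Spec.map (CommRingCat.ofHom ((residue Â).comp φ))) ⟶
      pullback p (Spec.map (CommRingCat.ofHom (residue A))) :=
    pullback.map p _ p _ (𝟙 _) (Spec.map (CommRingCat.ofHom ι)) (𝟙 _) (by simp) (by simpa using ec)
  exact q.homeomorph.surjective.connectedSpace q.continuous

/-- Fibres at residue fields of flat Noetherian local algebras are connected. -/
theorem connectedSpace_pullback_of_flat_surjective [IsProper p] (hp : Function.Bijective p.appTop)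
    {B : Type u} [CommRing B] [IsNoetherianRing B] [IsLocalRing B] (φ : A →+* B) (hφ : φ.Flat)
    {K : Type u} [Field K] (ψ : B →+* K) (hψ : Function.Surjective ψ) :
    ConnectedSpace ↥(pullback p (Spec.map (CommRingCat.ofHom (ψ.comp φ)))) := by
  let t := Spec.map (CommRingCat.ofHom φ)
  have hker : RingHom.ker ψ = maximalIdeal B :=
    IsLocalRing.eq_maximalIdeal (RingHom.ker_isMaximal_of_surjective ψ hψ)
  let ι : ResidueField B →+* K := Ideal.Quotient.lift _ ψ fun a ha => RingHom.mem_ker.1 (hker ▸ ha)
  have hι : Function.Bijective ι := ⟨ι.injective, fun x => by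
    obtain ⟨b, rfl⟩ := hψ x
    exact ⟨residue B b, rfl⟩⟩
  haveI := connectedSpace_closedFibre (pullback.snd p t) (bijective_appTop_baseChange p hp φ hφ)
  have ec : Spec.map (CommRingCat.ofHom ι) ≫ Spec.map (CommRingCat.ofHom (residue B)) ≫ t =
      Spec.map (CommRingCat.ofHom (ψ.comp φ)) := by
    rw [← Spec.map_comp, ← Spec.map_comp]; rfl
  haveI : IsIso (CommRingCat.ofHom ι) := (ConcreteCategory.isIso_iff_bijective _).mpr hι
  let q₁ := (pullbackLeftPullbackSndIso p t (Spec.map (CommRingCat.ofHom (residue B)))).hom
  let q₂ : pullback p (Spec.map (CommRingCat.ofHom (residue B)) ≫ t) ⟶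
      pullback p (Spec.map (CommRingCat.ofHom (ψ.comp φ))) :=
    pullback.map p _ p _ (𝟙 _) (inv (Spec.map (CommRingCat.ofHom ι))) (𝟙 _) (by simp)
      (by rw [← ec]; simp)
  exact (q₁ ≫ q₂).homeomorph.surjective.connectedSpace (q₁ ≫ q₂).continuous

end Groth.Agent.ModX56
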