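import Groth.Prelude.Def_Models
import Groth.Prelude.Def_Coh
import Mathlib.AlgebraicGeometry.Morphisms.Proper
import Mathlib.AlgebraicGeometry.Morphisms.QuasiCompact
import Mathlib.RingTheory.IntegralClosure.IntegrallyClosed
import Mathlib.RingTheory.Flat.TorsionFree

/-!
# Basic facts on models over a discrete valuation ring
-/

set_option linter.style.haveILetI false

universe u

open CategoryTheory CategoryTheory.Limits AlgebraicGeometry TopologicalSpace

namespace Groth.Agent.ModX56

variable (R : Type u) [CommRing R] [IsDomain R] [IsDiscreteValuationRing R]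

/-- The fraction field of a DVR is the localization at a uniformizer. -/
theorem isLocalizationAway_fractionRing {ϖ : R} (hϖ : Irreducible ϖ) :
    IsLocalization.Away ϖ (FractionRing R) := by
  have hle : Submonoid.powers ϖ ≤ nonZeroDivisors R := by
    rintro _ ⟨n, rfl⟩
    exact pow_mem (mem_nonZeroDivisors_of_ne_zero hϖ.ne_zero) n
  refine (IsLocalization.iff_of_le_of_exists_dvd (Submonoid.powers ϖ) (nonZeroDivisors R) hle ?_).mpr
    inferInstance
  intro n hn
  obtain ⟨m, v, rfl⟩ := IsDiscreteValuationRing.eq_unit_mul_pow_irreducible (nonZeroDivisors.ne_zero hn) hϖ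
  exact ⟨ϖ ^ m, ⟨m, rfl⟩, (v.isUnit.mul_left_dvd).mpr dvd_rfl⟩

/-- The inclusion of the generic point. -/
noncomputable abbrev genIncl : Spec (CommRingCat.of (FractionRing R)) ⟶ Spec (CommRingCat.of R) :=
  Spec.map (CommRingCat.ofHom (algebraMap R (FractionRing R)))

theorem isOpenImmersion_genIncl : IsOpenImmersion (genIncl R) := by
  obtain ⟨ϖ, hϖ⟩ := IsDiscreteValuationRing.exists_irreducible R
  haveI := isLocalizationAway_fractionRing R hϖ
  exact IsOpenImmersion.of_isLocalization ϖ

theorem range_genIncl {ϖ : R} (hϖ : Irreducible ϖ) :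
    Set.range (genIncl R) = (PrimeSpectrum.basicOpen ϖ : Set (PrimeSpectrum R)) := by
  haveI := isLocalizationAway_fractionRing R hϖ
  exact PrimeSpectrum.localization_away_comap_range (FractionRing R) ϖ

theorem range_genIncl_eq_compl :
    Set.range (genIncl R) = ({IsLocalRing.closedPoint R} : Set (PrimeSpectrum R))ᶜ := by
  obtain ⟨ϖ, hϖ⟩ := IsDiscreteValuationRing.exists_irreducible R
  rw [range_genIncl R hϖ]
  ext q
  simp only [SetLike.mem_coe, PrimeSpectrum.mem_basicOpen, Set.mem_compl_iff, Set.mem_singleton_iff]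
  constructor
  · intro h hq
    exact h (hq ▸ show ϖ ∈ IsLocalRing.maximalIdeal R from hϖ.not_isUnit)
  · intro h hq
    refine h (PrimeSpectrum.ext (((IsLocalRing.maximalIdeal.isMaximal R).eq_of_le q.isPrime.ne_top ?_)).symm)
    rw [(IsDiscreteValuationRing.irreducible_iff_uniformizer ϖ).1 hϖ, Ideal.span_le]
    simpa using hq

variable {R} {X : Scheme.{u}} (p : X ⟶ Spec (CommRingCat.of R))

theorem preimage_basicOpen_toGlobal (a : R) :
    p ⁻¹ᵁ (PrimeSpectrum.basicOpen a : (Spec (CommRingCat.of R)).Opens) = X.basicOpen (Coh.toGlobal p a) := by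
  have h : p ⁻¹ᵁ (Spec (CommRingCat.of R)).basicOpen ((Scheme.ΓSpecIso (CommRingCat.of R)).inv a) =
      X.basicOpen (Coh.toGlobal p a) := Scheme.preimage_basicOpen p _
  rw [← h, basicOpen_eq_of_affine]

/-- Non-zero constants are regular on sections of a flat scheme over `R`. -/
theorem toGlobal_mul_eq_zero [Flat p] {a : R} (ha : a ≠ 0) {U : X.Opens} {s : Γ(X, U)}
    (h : X.presheaf.map (homOfLE (le_top : U ≤ ⊤)).op (Coh.toGlobal p a) * s = 0) : s = 0 := by
  have key : ∀ x : U, ∃ V : X.Opens, x.1 ∈ V ∧ IsAffineOpen V ∧ V ≤ U := fun x => by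
    obtain ⟨_, ⟨V, hV, rfl⟩, hx, hle⟩ := X.isBasis_affineOpens.exists_subset_of_mem_open x.2 U.2
    exact ⟨V, hx, hV, hle⟩
  choose V hx hV hle using key
  refine X.sheaf.eq_of_locally_eq' V U (fun x => homOfLE (hle x))
    (fun y hy => Opens.mem_iSup.mpr ⟨⟨y, hy⟩, hx ⟨y, hy⟩⟩) _ _ fun x => ?_
  show X.presheaf.map (homOfLE (hle x)).op s = X.presheaf.map (homOfLE (hle x)).op 0
  rw [map_zero]
  have h1 := congrArg (X.presheaf.map (homOfLE (hle x)).op) h
  rw [map_mul, map_zero] at h1
  let ψ : CommRingCat.of R ⟶ Γ(X, V x) :=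
    (Scheme.ΓSpecIso (CommRingCat.of R)).inv ≫ p.appTop ≫ X.presheaf.map (homOfLE le_top).op
  have hflat : ψ.hom.Flat := by
    have h2 : (p.appLE ⊤ (V x) le_top).hom.Flat :=
      HasRingHomProperty.appLE @Flat p inferInstance ⟨⊤, isAffineOpen_top _⟩ ⟨V x, hV x⟩ le_top
    have : ψ = (Scheme.ΓSpecIso (CommRingCat.of R)).inv ≫ p.appLE ⊤ (V x) le_top := rfl
    rw [this, CommRingCat.hom_comp]
    exact RingHom.Flat.comp (RingHom.Flat.of_bijective
      (ConcreteCategory.bijective_of_isIso (Scheme.ΓSpecIso (CommRingCat.of R)).inv)) h2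
  letI := ψ.hom.toAlgebra
  haveI : Module.Flat R Γ(X, V x) := hflat
  refine Module.Flat.isSMulRegular_of_nonZeroDivisors (M := Γ(X, V x)) (mem_nonZeroDivisors_of_ne_zero ha)
    (show a • _ = a • (0 : Γ(X, V x)) from ?_)
  rw [smul_zero, Algebra.smul_def]
  refine Eq.trans ?_ h1
  refine congrArg (· * X.presheaf.map (homOfLE (hle x)).op s) ?_
  show X.presheaf.map (homOfLE le_top).op (Coh.toGlobal p a) = _
  exact RingHom.congr_fun (congrArg CommRingCat.Hom.hom
    (X.presheaf.map_comp (homOfLE (le_top : U ≤ ⊤)).op (homOfLE (hle x)).op)) (Coh.toGlobal p a)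

variable {C : Scheme.{u}} {g : C ⟶ X} {f : C ⟶ Spec (CommRingCat.of (FractionRing R))}
  (hg : IsPullback g f p (genIncl R))

include hg

theorem isOpenImmersion_genericFibre : IsOpenImmersion g :=
  haveI := isOpenImmersion_genIncl R
  MorphismProperty.of_isPullback (P := @IsOpenImmersion) hg.flip inferInstance

theorem range_genericFibre : Set.range g = (p ⁻¹' {IsLocalRing.closedPoint R})ᶜ := by
  have h : g = hg.isoPullback.hom ≫ pullback.fst p (genIncl R) := (hg.isoPullback_hom_fst).symm
  rw [h]
  simp only [Scheme.Hom.comp_base, TopCat.coe_comp]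
  rw [Set.range_comp, hg.isoPullback.hom.surjective.range_eq, Set.image_univ, Scheme.Pullback.range_fst,
    range_genIncl_eq_compl]
  rfl

theorem opensRange_genericFibre {ϖ : R} (hϖ : Irreducible ϖ) :
    haveI := isOpenImmersion_genericFibre p hg
    g.opensRange = X.basicOpen (Coh.toGlobal p ϖ) := by
  haveI := isOpenImmersion_genericFibre p hg
  rw [← preimage_basicOpen_toGlobal]
  refine TopologicalSpace.Opens.ext ?_
  show Set.range g = p ⁻¹' (PrimeSpectrum.basicOpen ϖ : Set (PrimeSpectrum R))
  rw [range_genericFibre p hg, ← range_genIncl R hϖ, range_genIncl_eq_compl]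
  rfl

/-- Sections of a flat model restrict injectively to the generic fibre. -/
theorem injective_appTop_genericFibre [Flat p] [QuasiCompact p] : Function.Injective g.appTop := by
  haveI := isOpenImmersion_genericFibre p hg
  have : CompactSpace X := (quasiCompact_iff_compactSpace p).mp inferInstance
  obtain ⟨ϖ, hϖ⟩ := IsDiscreteValuationRing.exists_irreducible R
  refine (injective_iff_map_eq_zero _).2 fun s hs => ?_
  have e : g.opensRange = X.basicOpen (Coh.toGlobal p ϖ) := opensRange_genericFibre p hg hϖ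
  have h1 : X.presheaf.map (homOfLE (le_top : g.opensRange ≤ ⊤)).op s = 0 := by
    haveI : IsIso (g.app g.opensRange) := g.isIso_app _ le_rfl
    refine (ConcreteCategory.bijective_of_isIso (g.app g.opensRange)).1 ?_
    rw [map_zero, ← ConcreteCategory.comp_apply, g.naturality, ConcreteCategory.comp_apply]
    rw [show g.app ⊤ s = 0 from hs, map_zero]
  obtain ⟨n, hn⟩ := exists_pow_mul_eq_zero_of_res_basicOpen_eq_zero_of_isCompact X
    (U := ⊤) isCompact_univ s (Coh.toGlobal p ϖ) (by
      have key : ∀ (W : X.Opens), W = g.opensRange → X.presheaf.map (homOfLE (le_top : W ≤ ⊤)).op s = 0 := by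
        rintro W rfl; exact h1
      exact key _ e.symm)
  refine toGlobal_mul_eq_zero p (pow_ne_zero n hϖ.ne_zero) (U := ⊤) ?_
  rw [show (homOfLE (le_top : (⊤ : X.Opens) ≤ ⊤)).op = 𝟙 _ from rfl, X.presheaf.map_id, map_pow]
  exact hn

/-- A proper flat model of a curve with `H⁰ = K` has `H⁰ = R`. -/
theorem bijective_appTop [Flat p] [IsProper p] (hH0 : IsIso f.appTop) : Function.Bijective p.appTop := by
  have hsq : p.appTop ≫ g.appTop = (genIncl R).appTop ≫ f.appTop := by
    rw [← Scheme.Hom.comp_appTop, ← Scheme.Hom.comp_appTop, hg.w]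
  let eK := (Scheme.ΓSpecIso (CommRingCat.of (FractionRing R))).symm ≪≫ asIso f.appTop
  let θ : Γ(X, ⊤) →+* FractionRing R := eK.inv.hom.comp g.appTop.hom
  have hθinj : Function.Injective θ :=
    (ConcreteCategory.bijective_of_isIso eK.inv).1.comp (injective_appTop_genericFibre p hg)
  let ρ : R →+* Γ(X, ⊤) := Coh.toGlobal p
  have hθρ : θ.comp ρ = algebraMap R (FractionRing R) := by
    have h2 : (Scheme.ΓSpecIso (CommRingCat.of R)).inv ≫ p.appTop ≫ g.appTop =
        CommRingCat.ofHom (algebraMap R (FractionRing R)) ≫ eK.hom := by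
      rw [hsq]
      simp only [eK, Iso.trans_hom, Iso.symm_hom, asIso_hom]
      rw [← Category.assoc, ← Scheme.ΓSpecIso_inv_naturality, Category.assoc]
    have h3 := congrArg (fun φ => φ ≫ eK.inv) h2
    simp only [Category.assoc, Iso.hom_inv_id, Category.comp_id] at h3
    exact congrArg CommRingCat.Hom.hom h3
  have hρint : ρ.IsIntegral := by
    apply RingHom.IsIntegral.trans
    · exact RingHom.isIntegral_of_surjective _ (ConcreteCategory.bijective_of_isIso
        (Scheme.ΓSpecIso (CommRingCat.of R)).inv).2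
    · exact isIntegral_appTop_of_universallyClosed p
  have hρinj : Function.Injective ρ := fun a b hab =>
    IsFractionRing.injective R (FractionRing R) (by rw [← hθρ]; exact congrArg θ hab)
  have hρsurj : Function.Surjective ρ := fun s => by
    obtain ⟨P, hP, hPs⟩ := hρint s
    have : _root_.IsIntegral R (θ s) := ⟨P, hP, by rw [← hθρ, ← Polynomial.hom_eval₂, hPs, map_zero]⟩
    obtain ⟨r, hr⟩ := IsIntegrallyClosed.isIntegral_iff.1 this
    exact ⟨r, hθinj (by rw [← RingHom.comp_apply, hθρ, hr])⟩
  have hi := ConcreteCategory.bijective_of_isIso (Scheme.ΓSpecIso (CommRingCat.of R)).inv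
  exact (Function.Bijective.of_comp_iff _ hi).1 ⟨hρinj, hρsurj⟩

end Groth.Agent.ModX56
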