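import Groth.Agent.ArSurfX.Comp
import Groth.Agent.DimFormula.Criteria
import Groth.Agent.DimFormula.QuasiSection
import Groth.Agent.FlatLoc6.RegCM
import Groth.Agent.S0603
import Groth.Agent.ModX56.Model
import Groth.Agent.ModX56.Gamma
import Groth.Prelude.Def_Curve

/-!
# Regular models of curves as surfaces
-/

universe u

set_option linter.style.haveILetI false
set_option backward.isDefEq.respectTransparency false
set_option backward.isDefEq.respectTransparency.types false

open CategoryTheory CategoryTheory.Limits AlgebraicGeometry IsLocalRing Order TopologicalSpace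

namespace Groth.Agent.ModX56

variable {R : Type u} [CommRing R] [IsDomain R] [IsDiscreteValuationRing R] {X : Scheme.{u}}
  (p : X ⟶ Spec (CommRingCat.of R))

theorem isUniversallyCatenary_stalk_dvr (y : Spec (CommRingCat.of R)) :
    CAlg.IsUniversallyCatenary ((Spec (CommRingCat.of R)).presheaf.stalk y) := by
  haveI := FlatLoc6.isCM_of_isRegularRing R
  have hR : CAlg.IsUniversallyCatenary R := S0603.result R
  letI : Algebra R ((Spec (CommRingCat.of R)).presheaf.stalk y) := StructureSheaf.stalkAlgebra R y
  haveI : IsLocalization.AtPrime ((Spec (CommRingCat.of R)).presheaf.stalk y) y.asIdeal :=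
    StructureSheaf.IsLocalization.to_stalk (CommRingCat.of R) y
  exact DimFormula.isUniversallyCatenary_localization hR y.asIdeal.primeCompl _

theorem eq_closedPoint_or_eq_bot (y : Spec (CommRingCat.of R)) :
    y = closedPoint R ∨ y.asIdeal = ⊥ := by
  by_cases h : y.asIdeal = ⊥
  · exact Or.inr h
  · exact Or.inl (PrimeSpectrum.ext (IsLocalRing.eq_maximalIdeal (y.2.isMaximal h)))

variable {C : Scheme.{u}} {f : C ⟶ Spec (CommRingCat.of (FractionRing R))} {g : C ⟶ X}
  (hg : IsPullback g f p (genIncl R))

include hg

theorem isGenericPoint_genericFibre [Flat p] [IrreducibleSpace C] :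
    IsGenericPoint (g (genericPoint C)) (Set.univ : Set X) := by
  refine Set.eq_univ_of_forall fun x => ?_
  obtain ⟨z, hzx, hz⟩ := Flat.generalizingMap p
    (b := (⟨⊥, Ideal.isPrime_bot⟩ : PrimeSpectrum R)) (a := x)
    ((PrimeSpectrum.le_iff_specializes (⟨⊥, Ideal.isPrime_bot⟩ : PrimeSpectrum R) (p x)).1 bot_le)
  have hmem : z ∈ Set.range g := by
    rw [range_genericFibre p hg]
    intro h
    have h' : p z = closedPoint R := h
    rw [h'] at hz
    exact IsDiscreteValuationRing.not_a_field R (congrArg PrimeSpectrum.asIdeal hz)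
  obtain ⟨c, rfl⟩ := hmem
  exact specializes_iff_mem_closure.1 ((((genericPoint_spec C).specializes (Set.mem_univ c)).map g.continuous).trans hzx)

theorem irreducibleSpace_model [Flat p] [IrreducibleSpace C] : IrreducibleSpace X :=
  haveI : Nonempty X := ⟨g (genericPoint C)⟩
  (irreducibleSpace_def _).2 (isGenericPoint_genericFibre p hg).isIrreducible

theorem apply_genericFibre (c : C) : (p (g c)).asIdeal = ⊥ := by
  refine (eq_closedPoint_or_eq_bot (p (g c))).resolve_left fun h => ?_
  have : g c ∈ Set.range g := Set.mem_range_self c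
  rw [range_genericFibre p hg] at this
  exact this h

omit hg in
theorem isIntegral_of_regular [IrreducibleSpace X] (hreg : Models.IsRegularScheme X) : IsIntegral X := by
  haveI : ∀ x : X, _root_.IsReduced (X.presheaf.stalk x) := fun x => by
    haveI := hreg x
    haveI := RegLoc6.isDomain_of_isRegularLocalRing (X.presheaf.stalk x)
    infer_instance
  haveI : IsReduced X := isReduced_of_isReduced_stalk X
  exact isIntegral_of_irreducibleSpace_of_isReduced X

variable [Flat p] [LocallyOfFiniteType p] [IsIntegral C] (hdim : topologicalKrullDim C = 1)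

include hdim

/-- The relative dimension of a model of a curve is one. -/
theorem rd_genericPoint :
    haveI := irreducibleSpace_model p hg
    FibDim.rd p (genericPoint X) = 1 := by
  haveI := irreducibleSpace_model p hg
  haveI := isOpenImmersion_genericFibre p hg
  haveI : IrreducibleSpace (Spec (CommRingCat.of R)) := inferInstanceAs (IrreducibleSpace (PrimeSpectrum R))
  have hη : genericPoint X = g (genericPoint C) := (genericPoint_spec X).eq (isGenericPoint_genericFibre p hg)
  have hpη : p (genericPoint X) = (⟨⊥, Ideal.isPrime_bot⟩ : PrimeSpectrum R) := by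
    rw [hη]
    exact PrimeSpectrum.ext (apply_genericFibre p hg _)
  haveI : IsDominant p := by
    refine ⟨fun y => ?_⟩
    have : p (genericPoint X) ⤳ y := by
      rw [hpη]
      exact (PrimeSpectrum.le_iff_specializes (⟨⊥, Ideal.isPrime_bot⟩ : PrimeSpectrum R) y).1 bot_le
    exact closure_mono (Set.singleton_subset_iff.2 (Set.mem_range_self _)) this.mem_closure
  obtain ⟨h1, h2⟩ := DimFormula.generic_fibre_dim p
  rw [← h1, hpη] at h2
  let η₀ : Spec (CommRingCat.of R) := (⟨⊥, Ideal.isPrime_bot⟩ : PrimeSpectrum R)
  have hr : Set.range g = Set.range (p.fiberι η₀) := by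
    rw [Scheme.Hom.range_fiberι, range_genericFibre p hg]
    ext x
    simp only [Set.mem_compl_iff, Set.mem_preimage, Set.mem_singleton_iff]
    constructor
    · intro h
      exact PrimeSpectrum.ext ((eq_closedPoint_or_eq_bot (p x)).resolve_left h)
    · intro h e
      rw [h] at e
      exact IsDiscreteValuationRing.not_a_field R (congrArg PrimeSpectrum.asIdeal e).symm
  have e1 : C ≃ₜ ↥(p.fiber η₀) :=
    (g.isEmbedding.toHomeomorph).trans ((Homeomorph.setCongr hr).trans (p.fiberι η₀).isEmbedding.toHomeomorph.symm)
  have h3 : topologicalKrullDim C = topologicalKrullDim ↥(p.fiber η₀) := e1.isHomeomorph.topologicalKrullDim_eq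
  rw [hdim, h2] at h3
  have h4 : (1 : ℕ∞) = (FibDim.rd p (genericPoint X) : ℕ∞) := WithBot.coe_inj.1 h3
  exact_mod_cast h4.symm

theorem coheight_add_rd {x : X} (hx : p x = closedPoint R) :
    coheight x + (FibDim.rd p x : ℕ∞) = 2 := by
  haveI := irreducibleSpace_model p hg
  haveI : IsLocallyNoetherian X := LocallyOfFiniteType.isLocallyNoetherian p
  have hsp : genericPoint X ⤳ x := genericPoint_specializes x
  obtain ⟨-, h2⟩ := DimFormula.cd_formula p hsp
  have h := h2 (isUniversallyCatenary_stalk_dvr (p x))
  rw [rd_genericPoint p hg hdim] at h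
  have hη : genericPoint X = g (genericPoint C) := (genericPoint_spec X).eq (isGenericPoint_genericFibre p hg)
  have hbase : DimFormula.cd (p (genericPoint X)) (p x) = 1 := by
    haveI : IsLocallyNoetherian (Spec (CommRingCat.of R)) := inferInstance
    have hne : p (genericPoint X) ≠ p x := fun e => by
      rw [hx, hη] at e
      have := apply_genericFibre p hg (genericPoint C)
      rw [e] at this
      exact IsDiscreteValuationRing.not_a_field R this
    have h0 : DimFormula.cd (p (genericPoint X)) (p x) ≠ 0 := fun e =>
      hne ((DimFormula.cd_eq_zero_iff (hsp.map p.continuous)).1 e)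
    have h1 := DimFormula.cd_le_codim (hsp.map p.continuous)
    have hle : coheight (p x) ≤ 1 := by
      have hk : ringKrullDim R = 1 := IsDiscreteValuationRing.ringKrullDim_eq_one R
      have := Order.coheight_le_krullDim (p x)
      rw [← Order.krullDim_eq_of_orderIso (irreducibleSetEquivPoints (α := Spec (CommRingCat.of R)))] at this
      have e : topologicalKrullDim (Spec (CommRingCat.of R)) = 1 := by
        rw [← hk]; exact PrimeSpectrum.topologicalKrullDim_eq_ringKrullDim R
      rw [show Order.krullDim (IrreducibleCloseds (Spec (CommRingCat.of R))) =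
        topologicalKrullDim (Spec (CommRingCat.of R)) from rfl, e] at this
      exact WithBot.coe_le_coe.1 this
    rw [← DimFormula.coe_codim] at hle
    have : DimFormula.codim (p x) ≤ 1 := by exact_mod_cast hle
    omega
  rw [hbase] at h
  have hc : (DimFormula.cd (genericPoint X) x : ℕ∞) = coheight x := by
    apply WithBot.coe_injective
    rw [coheight_eq_krullDim_Ici,
      ← show Set.Icc x (genericPoint X) = Set.Ici x from
        Set.ext fun z => ⟨fun hz => hz.1, fun hz => ⟨hz, genericPoint_specializes z⟩⟩]
    exact (DimFormula.coe_cd hsp).symm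
  rw [← hc, ← Nat.cast_add, h]
  norm_num

theorem coheight_of_isClosed_model {x : X} (hx : p x = closedPoint R)
    (hc : IsClosed ({x} : Set X)) : coheight x = 2 := by
  have h := coheight_add_rd p hg hdim hx
  rwa [DimFormula.rd_eq_zero_of_closed p (fun x' _ hs => hs.mem_closed hc rfl), Nat.cast_zero, add_zero] at h

/-- In a model of a curve the generic point of a vertical component has a one-dimensional local ring. -/
theorem coheight_genPtOf_model (Γ : ArSurf.VertComp R (Over.mk p)) :
    coheight (Models.genPtOf R (Over.mk p) Γ : X) = 1 := by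
  haveI := irreducibleSpace_model p hg
  haveI : IrreducibleSpace (Over.mk p).left := irreducibleSpace_model p hg
  haveI : IsLocallyNoetherian X := LocallyOfFiniteType.isLocallyNoetherian p
  obtain ⟨a, hac⟩ : ∃ a : Γ.curve.left, IsClosed ({a} : Set Γ.curve.left) := by
    have hd := Γ.dim_eq
    rw [topologicalKrullDim, Order.krullDim_eq_of_orderIso (irreducibleSetEquivPoints (α := Γ.curve.left))] at hd
    have hne : Nonempty (LTSeries Γ.curve.left) := ⟨RelSeries.singleton _ (genericPoint Γ.curve.left)⟩
    obtain ⟨l, hl⟩ : ∃ l : LTSeries Γ.curve.left, l.length = 1 := by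
      haveI : Nonempty Γ.curve.left := ⟨genericPoint Γ.curve.left⟩
      exact Order.le_krullDim_iff.1 (le_of_eq hd.symm)
    refine ⟨l.head, ArSurfX.isClosed_singleton_of_forall fun y hy => ?_⟩
    by_contra hne
    have hlt : y < l.head := lt_iff_le_not_ge.2 ⟨hy, fun h => hne (Specializes.antisymm h hy).eq⟩
    have := LTSeries.length_le_krullDim (l.cons y hlt)
    rw [hd, RelSeries.cons_length, hl] at this
    norm_cast at this
  let a' : X := Γ.ι.base a
  have haX : IsClosed ({a'} : Set X) := by
    have := Γ.ι.isClosedEmbedding.isClosedMap _ hac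
    rwa [Set.image_singleton] at this
  have hs : (Models.genPtOf R (Over.mk p) Γ : X) ⤳ a' := (genericPoint_specializes a).map Γ.ι.continuous
  have h2 := coheight_of_isClosed_model p hg hdim (x := a') (ArSurfX.comp_apply_eq_closedPoint Γ a) haX
  have hne : (Models.genPtOf R (Over.mk p) Γ : X) ≠ a' := fun e =>
    ArSurfX.not_isClosed_genPtOf Γ (by rw [show (Models.genPtOf R (Over.mk p) Γ : X) = a' from e]; exact haX)
  have hlt : a' < (Models.genPtOf R (Over.mk p) Γ : X) :=
    lt_iff_le_not_ge.2 ⟨hs, fun h => hne (hs.antisymm h).eq⟩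
  have h3 := Order.coheight_add_one_le hlt
  rw [h2, show (2 : ℕ∞) = 1 + 1 by norm_num] at h3
  refine le_antisymm ((ENat.add_le_add_iff_right ENat.one_ne_top).1 h3) ?_
  rw [Order.one_le_iff_pos, Order.coheight_pos, not_isMax_iff]
  refine ⟨genericPoint X, lt_iff_le_not_ge.2 ⟨genericPoint_specializes _, fun h => ?_⟩⟩
  have e : (Models.genPtOf R (Over.mk p) Γ : X) = genericPoint X :=
    (Specializes.antisymm h (genericPoint_specializes _)).eq
  have h5 := ArSurfX.comp_apply_eq_closedPoint Γ (genericPoint Γ.curve.left)
  have hη : genericPoint X = g (genericPoint C) := (genericPoint_spec X).eq (isGenericPoint_genericFibre p hg)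
  have h6 := apply_genericFibre p hg (genericPoint C)
  rw [← hη, ← e, show p (Models.genPtOf R (Over.mk p) Γ) = closedPoint R from h5] at h6
  exact IsDiscreteValuationRing.not_a_field R h6

theorem topologicalKrullDim_model [IsProper p] : topologicalKrullDim X = 2 := by
  haveI := irreducibleSpace_model p hg
  haveI : IsLocallyNoetherian X := LocallyOfFiniteType.isLocallyNoetherian p
  haveI : CompactSpace X := QuasiCompact.compactSpace_of_compactSpace p
  haveI : Nonempty X := ⟨genericPoint X⟩
  rw [topologicalKrullDim, Order.krullDim_eq_of_orderIso (irreducibleSetEquivPoints (α := X)),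
    Order.krullDim_eq_iSup_coheight_of_nonempty]
  have hcp : ∀ x : X, IsClosed ({x} : Set X) → coheight x = 2 := fun x hx => by
    refine coheight_of_isClosed_model p hg hdim ?_ hx
    have h := p.isClosedMap _ hx
    rw [Set.image_singleton] at h
    exact PrimeSpectrum.ext (IsLocalRing.eq_maximalIdeal ((PrimeSpectrum.isClosed_singleton_iff_isMaximal _).1 h))
  refine congrArg WithBot.some (le_antisymm (iSup_le fun x => ?_) ?_)
  · obtain ⟨y, hy, hyc⟩ := (isClosed_closure (s := {x})).exists_closed_singleton
      ⟨x, subset_closure rfl⟩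
    exact (Order.coheight_anti (show y ≤ x from specializes_iff_mem_closure.2 hy)).trans_eq (hcp y hyc)
  · obtain ⟨y, -, hyc⟩ := (isClosed_univ (X := X)).exists_closed_singleton ⟨genericPoint X, trivial⟩
    exact le_iSup_of_le y (hcp y hyc).ge

omit hg hdim [Flat p] [LocallyOfFiniteType p] [IsIntegral C] in
/-- A regular proper model of a smooth proper curve is a regular proper surface. -/
theorem isSurf_of_model (hC : Curve.IsSmoothProperCurve (FractionRing R) C f)
    (hX : Models.IsRegularProperModel R X p C f) : ArSurfX.IsSurf (Over.mk p) := by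
  obtain ⟨⟨hflat, hlft, hqc, g', hg'⟩, hp, hreg⟩ := hX
  haveI := hC.2.2.1
  haveI := irreducibleSpace_model p hg'
  haveI : IrreducibleSpace (Over.mk p).left := irreducibleSpace_model p hg'
  exact ⟨isIntegral_of_regular hreg, hp, hflat, hreg, topologicalKrullDim_model p hg' hC.2.2.2⟩

end Groth.Agent.ModX56

namespace Groth.Agent.ModX56

/-- The special fibre of a regular proper model of a curve with `H⁰ = K` is connected. -/
theorem isConnected_specialFibreSet {R : Type u} [CommRing R] [IsDomain R] [IsDiscreteValuationRing R]
    {C X : Scheme.{u}} {f : C ⟶ Spec (CommRingCat.of (FractionRing R))} {p : X ⟶ Spec (CommRingCat.of R)}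
    (hH0 : IsIso f.appTop) (hX : Models.IsRegularProperModel R X p C f) :
    _root_.IsConnected (Models.specialFibreSet R (Over.mk p)) := by
  obtain ⟨⟨hflat, hlft, hqc, g, hg⟩, hp, -⟩ := hX
  haveI := connectedSpace_closedFibre p (bijective_appTop p hg hH0)
  have h := isConnected_range
    (pullback.fst p (Spec.map (CommRingCat.ofHom (residue R)))).continuous
  rw [Scheme.Pullback.range_fst] at h
  have e : Set.range (Spec.map (CommRingCat.ofHom (residue R))) = ({closedPoint R} : Set (PrimeSpectrum R)) := by
    refine Set.eq_singleton_iff_unique_mem.2 ⟨?_, by rintro _ ⟨q, rfl⟩; exact ArSurfX.base_residue q⟩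
    obtain ⟨b⟩ : Nonempty (Spec (CommRingCat.of (ResidueField R))) :=
      inferInstanceAs (Nonempty (PrimeSpectrum (ResidueField R)))
    exact ⟨b, ArSurfX.base_residue b⟩
  rw [e] at h
  exact h

end Groth.Agent.ModX56
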