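import Groth.Agent.ArSurfX.InterSum
import Groth.Agent.ArSurfX.Fibre
import Groth.Agent.SurfInt.Divisor
import Groth.Agent.AmpleX.Locus
import Groth.Agent.QCoh.Qcqs
import Groth.Agent.InvX.GenLocusPull
import Groth.Agent.ModX56.SurfBridge

/-!
# Vertical divisors and invertible modules trivial on the generic fibre
-/

universe u

set_option linter.style.haveILetI false
set_option backward.isDefEq.respectTransparency false
set_option backward.isDefEq.respectTransparency.types false

open CategoryTheory CategoryTheory.Limits AlgebraicGeometry IsLocalRing Order TopologicalSpace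
open Groth.Agent.H23.PicMul

namespace Groth.Agent.ModX56

open Groth.Agent Groth.Agent.AModX Groth.Agent.ArSurfX

section General

variable {X : Scheme.{u}}

theorem cl_multiTwist {n : ℕ} (L : Fin n → X.Modules) (a : Fin n → ℕ) :
    PicF.cl (FGA.multiTwist L a) = ∏ i, PicF.cl (L i) ^ a i := by
  have key : ∀ l : List X.Modules, PicF.cl (FGA.tensorList l) = (l.map PicF.cl).prod := by
    intro l
    induction l with
    | nil => rfl
    | cons A l ih => rw [List.map_cons, List.prod_cons, ← ih, ← cl_tensor]; rfl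
  rw [FGA.multiTwist, key, List.map_map, Fin.prod_univ_def]
  exact congrArg List.prod (List.map_congr_left fun i _ => cl_tensorPow (L i) (a i))

theorem cl_idealMod_pow {D : X.IdealSheafData} (hD : BlowUp.IsEffCartierIdeal D) :
    ∀ n : ℕ, PicF.cl (ClSub.idealMod (D ^ n)) = PicF.cl (ClSub.idealMod D) ^ n
  | 0 => by
    rw [pow_zero, pow_zero, one_def]
    exact (cl_eq_iff.2 nonempty_idealMod_one).symm
  | n + 1 => by
    rw [pow_succ, pow_succ, ← cl_idealMod_pow hD n, ← cl_tensor]
    exact (cl_eq_iff.2 (nonempty_idealMod_mul (isEffCartier_pow hD n) hD)).symm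

theorem cl_idealMod_prod {ι : Type*} (s : Finset ι) (D : ι → X.IdealSheafData)
    (hD : ∀ i, BlowUp.IsEffCartierIdeal (D i)) (e : ι → ℕ) :
    PicF.cl (ClSub.idealMod (∏ i ∈ s, D i ^ e i)) = ∏ i ∈ s, PicF.cl (ClSub.idealMod (D i)) ^ e i := by
  classical
  induction s using Finset.induction_on with
  | empty =>
    rw [Finset.prod_empty, Finset.prod_empty, one_def]
    exact (cl_eq_iff.2 nonempty_idealMod_one).symm
  | @insert a s ha ih =>
    rw [Finset.prod_insert ha, Finset.prod_insert ha, ← cl_idealMod_pow (hD a), ← ih, ← cl_tensor]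
    exact (cl_eq_iff.2 (nonempty_idealMod_mul (isEffCartier_pow (hD a) _)
      (isEffCartier_prod s (fun i => D i ^ e i) fun i _ => isEffCartier_pow (hD i) _))).symm

/-- An effective divisor with trivial module is cut out by one global function. -/
theorem exists_global_gen {D : X.IdealSheafData} (hD : BlowUp.IsEffCartierIdeal D)
    (h : Nonempty (Coh.structureModule X ≅ ClSub.idealMod D)) :
    ∃ t : Γ(X, ⊤), ∀ x : X, ∃ (U : X.affineOpens) (_ : x ∈ U.1), IsGen D U (resR le_top t) := by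
  obtain ⟨e⟩ := h
  let one : Γ(Coh.structureModule X, ⊤) := (show Γ(Coh.structureModule X, ⊤) from (1 : Γ(X, ⊤)))
  let k₀ : Γ(ClSub.idealMod D, ⊤) := e.hom.app ⊤ one
  have hk₀ : InvX.IsFrame k₀ := InvX.IsFrame.map_iso e (InvX.isFrame_one _)
  refine ⟨OmegaSh.idealSect D ⊤ k₀, fun x => ?_⟩
  obtain ⟨U, hxU, g, hg⟩ := exists_isGen hD x
  obtain ⟨k, hk, hkf⟩ := exists_frame_of_isGen hg
  refine ⟨U, hxU, ?_⟩
  obtain ⟨c, hc⟩ := hkf.exists_coord le_rfl (AModX.res (ClSub.idealMod D) (le_top : U.1 ≤ ⊤) k₀)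
  obtain ⟨d, hd⟩ := (hk₀.res (le_top : U.1 ≤ ⊤)).exists_coord le_rfl k
  rw [AModX.res_self] at hc hd
  have hcu : IsUnit c := IsUnit.of_mul_eq_one_right d (hkf.coord_unique le_rfl (by
    rw [AModX.res_self, one_smul, mul_smul, ← hc, ← hd]))
  have he : resR (le_top : U.1 ≤ ⊤) (OmegaSh.idealSect D ⊤ k₀) = c * g := by
    have h1 := congrArg (OmegaSh.idealSect D U.1) hc
    rw [OmegaLib.idealSect_smul, hk, show OmegaSh.idealSect D U.1 (AModX.res _ _ k₀) = _ from
      OmegaLib.idealSect_map D (le_top : U.1 ≤ ⊤) k₀] at h1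
    exact h1
  refine ⟨?_, ?_⟩
  · rw [he]
    exact mul_mem (IsUnit.mem_nonZeroDivisors hcu) hg.1
  · rw [he, hg.2, Ideal.span_singleton_mul_left_unit hcu]

end General

variable {R : Type u} [CommRing R] [IsDomain R] [IsDiscreteValuationRing R]

/-- An invertible module trivial on the generic fibre has a global section generating it there. -/
theorem exists_section_of_trivial {C X : Scheme.{u}} (p : X ⟶ Spec (CommRingCat.of R))
    {f : C ⟶ Spec (CommRingCat.of (FractionRing R))} {g : C ⟶ X} (hg : IsPullback g f p (genIncl R))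
    [QuasiCompact p] [QuasiSeparated p] {M : X.Modules} (hM : PicF.IsInvertible M)
    (htriv : Nonempty ((Scheme.Modules.pullback g).obj M ≅ Coh.structureModule C)) :
    ∃ s : Γ(M, ⊤), Set.range g ⊆ ((AmpleX.locus s : X.Opens) : Set X) := by
  haveI := isOpenImmersion_genericFibre p hg
  haveI : CompactSpace X := QuasiCompact.compactSpace_of_compactSpace p
  haveI : QuasiSeparatedSpace X := quasiSeparatedSpace_of_quasiSeparated p
  obtain ⟨ϖ, hϖ⟩ := IsDiscreteValuationRing.exists_irreducible R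
  obtain ⟨e⟩ := htriv
  let e' : Coh.structureModule C ≅ M.restrict g :=
    e.symm ≪≫ ((Scheme.Modules.restrictFunctorIsoPullback g).app M).symm
  have hσ : InvX.IsFrame (M := M.restrict g)
      (e'.hom.app ⊤ (show Γ(Coh.structureModule C, ⊤) from (1 : Γ(C, ⊤)))) :=
    InvX.IsFrame.map_iso e' (InvX.isFrame_one _)
  have key : ∀ W : X.Opens, W = g.opensRange → ∃ σ : Γ(M, W), InvX.IsFrame σ := by
    intro W hW
    obtain rfl : W = g ''ᵁ ⊤ := hW.trans (Scheme.Hom.image_top_eq_opensRange g).symm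
    exact ⟨_, (AmpleX.isFrame_restrict_iff g _).1 hσ⟩
  obtain ⟨σ, hσf⟩ := key _ (opensRange_genericFibre p hg hϖ).symm
  obtain ⟨n, t, ht⟩ := QCoh.exists_pow_smul_eq_map_of_isQuasiSeparated (ZeroSchX.isQCoh_inv hM)
    isCompact_univ isQuasiSeparated_univ (Coh.toGlobal p ϖ) σ
  refine ⟨t, ?_⟩
  have hu : IsUnit (X.presheaf.map (homOfLE (X.basicOpen_le (Coh.toGlobal p ϖ))).op (Coh.toGlobal p ϖ) ^ n) :=
    (AModX.isUnit_resR _ _ le_rfl).pow n
  have hle : X.basicOpen (Coh.toGlobal p ϖ) ≤ AmpleX.locus t := by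
    refine AmpleX.le_locus t (X.basicOpen_le _) ?_
    rw [show AModX.res M (X.basicOpen_le _) t = _ from ht]
    exact hσf.isUnit_smul hu
  exact fun x hx => hle ((opensRange_genericFibre p hg hϖ).le hx)

section Surf

variable {X : Over (Spec (CommRingCat.of R))}

theorem stk_ker_ne {n : ℕ} {Γc : Fin n → ArSurf.VertComp R X} (hX : IsSurf X)
    (hΓ : Models.IsComponentList R X Γc) {i j : Fin n} (hij : j ≠ i) (U : X.left.affineOpens)
    (hξ : Models.genPtOf R X (Γc i) ∈ U.1) : CDivEq.stk (Γc j).ι.ker U hξ = ⊤ := by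
  by_contra hne
  refine hX.genPtOf_notMem_of_ne (Γc i) (Γc j) (fun h => hij (hΓ.1 h).symm) ?_
  exact (CDivEq.mem_support_iff _ U hξ).2 hne

theorem stk_prod_genPtOf {n : ℕ} {Γc : Fin n → ArSurf.VertComp R X} (hX : IsSurf X)
    (hΓ : Models.IsComponentList R X Γc) (e : Fin n → ℕ) (i : Fin n) (U : X.left.affineOpens)
    (hξ : Models.genPtOf R X (Γc i) ∈ U.1) :
    CDivEq.stk (∏ j, (Γc j).ι.ker ^ e j) U hξ =
      maximalIdeal (X.left.presheaf.stalk (Models.genPtOf R X (Γc i))) ^ e i := by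
  rw [stk_prod_pow, Finset.prod_eq_single_of_mem i (Finset.mem_univ i) fun j _ hj => ?_, hX.stk_ker_genPtOf]
  rw [stk_ker_ne hX hΓ hj U hξ, ← Ideal.one_eq_top, one_pow]

/-- Vertical effective divisors determine their multiplicities. -/
theorem prod_inj {n : ℕ} {Γc : Fin n → ArSurf.VertComp R X} (hX : IsSurf X)
    (hΓ : Models.IsComponentList R X Γc) {e e' : Fin n → ℕ}
    (h : ∏ j, (Γc j).ι.ker ^ e j = ∏ j, (Γc j).ι.ker ^ e' j) : e = e' := by
  funext i
  obtain ⟨_, ⟨U, hU, rfl⟩, hξ, -⟩ := X.left.isBasis_affineOpens.exists_subset_of_mem_open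
    (Set.mem_univ (Models.genPtOf R X (Γc i))) isOpen_univ
  have h1 := congrArg (fun D => CDivEq.stk D ⟨U, hU⟩ hξ) h
  simp only [stk_prod_genPtOf hX hΓ] at h1
  obtain ⟨_, _⟩ := hX.isDVR_genPtOf (Γc i)
  exact (Ideal.pow_right_strictAnti (maximalIdeal (X.left.presheaf.stalk (Models.genPtOf R X (Γc i))))
    (IsDiscreteValuationRing.not_a_field _) (maximalIdeal.isMaximal _).ne_top).injective h1

/-- An effective divisor supported in the special fibre is a sum of components. -/
theorem exists_eq_prod {n : ℕ} {Γc : Fin n → ArSurf.VertComp R X} (hX : IsSurf X)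
    (hΓ : Models.IsComponentList R X Γc) {D : X.left.IdealSheafData} (hD : BlowUp.IsEffCartierIdeal D)
    (hs : (D.support : Set X.left) ⊆ Models.specialFibreSet R X) :
    ∃ e : Fin n → ℕ, D = ∏ j, (Γc j).ι.ker ^ e j := by
  classical
  have hk : ∀ i, ∃ k : ℕ, ∀ (U : X.left.affineOpens) (hξ : Models.genPtOf R X (Γc i) ∈ U.1),
      CDivEq.stk D U hξ = maximalIdeal (X.left.presheaf.stalk (Models.genPtOf R X (Γc i))) ^ k := by
    intro i
    obtain ⟨U, hξ, a, ha⟩ := exists_isGen hD (Models.genPtOf R X (Γc i))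
    obtain ⟨_, _⟩ := hX.isDVR_genPtOf (Γc i)
    obtain ⟨π, hπ⟩ := IsDiscreteValuationRing.exists_irreducible
      (X.left.presheaf.stalk (Models.genPtOf R X (Γc i)))
    obtain ⟨k, hk⟩ := IsDiscreteValuationRing.associated_pow_irreducible
      (nonZeroDivisors.ne_zero (ha.germ_nzd hξ)) hπ
    refine ⟨k, fun V hV => ?_⟩
    rw [CDivEq.stk_congr D V U hV hξ, CDivEq.stk, ha.2, Ideal.map_span, Set.image_singleton,
      hπ.maximalIdeal_eq, Ideal.span_singleton_pow, Ideal.span_singleton_eq_span_singleton]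
    exact hk
  choose e he using hk
  refine ⟨e, hX.eq_of_stk_codim_one hD
    (isEffCartier_prod _ _ fun i _ => isEffCartier_pow (hX.isEffCartier_ker (Γc i)) _) fun z U hz hz1 => ?_⟩
  by_cases hzs : X.hom.base z = closedPoint R
  · obtain ⟨i, hi⟩ := hX.exists_mem_range hΓ hzs
    have hzi : z = Models.genPtOf R X (Γc i) := by
      have h1 : Models.genPtOf R X (Γc i) ⤳ z := by
        rw [specializes_iff_mem_closure, closure_genPtOf]; exact hi
      by_contra hne
      have hlt : z < Models.genPtOf R X (Γc i) := lt_iff_le_not_ge.2 ⟨h1, fun h => hne (h.antisymm h1).symm⟩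
      have h2 := (Order.coheight_add_one_le hlt).trans hz1
      rw [(hX.coheight_genPtOf (Γc i)).1] at h2
      norm_num at h2
    subst hzi
    rw [he i U hz, stk_prod_genPtOf hX hΓ]
  · have h1 : CDivEq.stk D U hz = ⊤ := by
      by_contra hne
      exact hzs (hs ((CDivEq.mem_support_iff _ U hz).2 hne))
    rw [h1, stk_prod_pow, Finset.prod_eq_one fun i _ => ?_, Ideal.one_eq_top]
    have h2 : CDivEq.stk (Γc i).ι.ker U hz = ⊤ := by
      by_contra hne
      refine hzs (range_subset_specialFibreSet (Γc i) ?_)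
      rw [← support_ker]
      exact (CDivEq.mem_support_iff _ U hz).2 hne
    rw [h2, ← Ideal.one_eq_top, one_pow]

/-- If only constants are global functions, the principal vertical divisors are the multiples of the
special fibre. -/
theorem exists_eq_smul_mult {n : ℕ} {Γc : Fin n → ArSurf.VertComp R X} (hX : IsSurf X)
    (hΓ : Models.IsComponentList R X Γc) (hbij : Function.Bijective X.hom.appTop) {e : Fin n → ℕ}
    (h : Nonempty (Coh.structureModule X.left ≅ ClSub.idealMod (∏ j, (Γc j).ι.ker ^ e j))) :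
    ∃ k : ℕ, ∀ i, e i = k * Models.mult R X (Γc i) := by
  have hD := isEffCartier_prod Finset.univ (fun j => (Γc j).ι.ker ^ e j)
    fun i _ => isEffCartier_pow (hX.isEffCartier_ker (Γc i)) _
  obtain ⟨t, ht⟩ := exists_global_gen hD h
  obtain ⟨ϖ, hϖ⟩ := IsDiscreteValuationRing.exists_irreducible R
  obtain ⟨r, hr⟩ : ∃ r : R, Coh.toGlobal X.hom r = t := by
    obtain ⟨y, hy⟩ := hbij.2 t
    obtain ⟨r, rfl⟩ := (ConcreteCategory.bijective_of_isIso (Scheme.ΓSpecIso (CommRingCat.of R)).inv).2 y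
    exact ⟨r, hy⟩
  have hr0 : r ≠ 0 := by
    rintro rfl
    letI := hX.isIntegral
    obtain ⟨U, hxU, hU⟩ := ht (genericPoint X.left)
    have := nonZeroDivisors.ne_zero (hU.germ_nzd hxU)
    rw [← hr, map_zero, map_zero, map_zero] at this
    exact this rfl
  obtain ⟨k, v, rfl⟩ := IsDiscreteValuationRing.eq_unit_mul_pow_irreducible hr0 hϖ
  have hF : ∏ j, (Γc j).ι.ker ^ e j = Models.specialFibreIdeal R X ^ k := by
    refine hX.eq_of_stk_codim_one hD (isEffCartier_pow hX.isEffCartier_specialFibreIdeal k) fun z U hz _ => ?_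
    obtain ⟨V, hzV, hV⟩ := ht z
    rw [CDivEq.stk_congr _ U V hz hzV, CDivEq.stk_congr (Models.specialFibreIdeal R X ^ k) U V hz hzV]
    have h1 : CDivEq.stk (Models.specialFibreIdeal R X ^ k) V hzV =
        CDivEq.stk (Models.specialFibreIdeal R X) V hzV ^ k := by
      have := stk_prod_pow (fun _ : Fin 1 => Models.specialFibreIdeal R X) (fun _ => k) V hzV
      simpa using this
    rw [h1, CDivEq.stk, hV.2, CDivEq.stk, specialFibreIdeal_ideal hϖ V, Ideal.map_span, Ideal.map_span,
      Set.image_singleton, Set.image_singleton, Ideal.span_singleton_pow, ← hr]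
    erw [germ_res_toGlobal, germ_res_toGlobal]
    rw [map_mul, map_pow, Ideal.span_singleton_mul_left_unit (v.isUnit.map _)]
  refine ⟨k, fun i => ?_⟩
  rw [hX.specialFibreIdeal_eq_prod hΓ, ← Finset.prod_pow] at hF
  simp only [← pow_mul] at hF
  exact (congrFun (prod_inj hX hΓ hF) i).trans (mul_comm _ _)

theorem isUnit_cl_component {n : ℕ} {Γc : Fin n → ArSurf.VertComp R X} {L : Fin n → X.left.Modules}
    (hL : ∀ i, ClSub.IsInverseOf (L i) (ClSub.idealMod (Γc i).ι.ker)) (i : Fin n) : IsUnit (PicF.cl (L i)) :=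
  IsUnit.of_mul_eq_one (PicF.cl (ClSub.idealMod (Γc i).ι.ker)) (cl_eq_iff.2 (hL i))

theorem cl_multiTwist_mul_idealMod {n : ℕ} {Γc : Fin n → ArSurf.VertComp R X} (hX : IsSurf X)
    {L : Fin n → X.left.Modules} (hL : ∀ i, ClSub.IsInverseOf (L i) (ClSub.idealMod (Γc i).ι.ker)) (e : Fin n → ℕ) :
    PicF.cl (FGA.multiTwist L e) * PicF.cl (ClSub.idealMod (∏ j, (Γc j).ι.ker ^ e j)) = 1 := by
  rw [cl_multiTwist, cl_idealMod_prod _ _ (fun i => hX.isEffCartier_ker (Γc i)), ← Finset.prod_mul_distrib]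
  refine Finset.prod_eq_one fun i _ => ?_
  rw [← mul_pow, show PicF.cl (L i) * PicF.cl (ClSub.idealMod (Γc i).ι.ker) = 1 from cl_eq_iff.2 (hL i), one_pow]

end Surf

/-- An invertible module trivial on the generic fibre is the module of a vertical divisor. -/
theorem exists_twist_of_trivial {C X : Scheme.{u}} {p : X ⟶ Spec (CommRingCat.of R)}
    {f : C ⟶ Spec (CommRingCat.of (FractionRing R))} {g : C ⟶ X} (hg : IsPullback g f p (genIncl R))
    (hX : IsSurf (Over.mk p)) [Nonempty C] {n : ℕ} {Γc : Fin n → ArSurf.VertComp R (Over.mk p)}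
    (hΓ : Models.IsComponentList R (Over.mk p) Γc) {L : Fin n → X.Modules}
    (hL : ∀ i, ClSub.IsInverseOf (L i) (ClSub.idealMod (Γc i).ι.ker)) {M : X.Modules} (hM : PicF.IsInvertible M)
    (htriv : Nonempty ((Scheme.Modules.pullback g).obj M ≅ Coh.structureModule C)) :
    ∃ b : Fin n → ℕ, Nonempty (M ≅ FGA.multiTwist L b) := by
  haveI : IsProper p := hX.isProper
  haveI : IsIntegral X := hX.isIntegral
  obtain ⟨s, hs⟩ := exists_section_of_trivial p hg hM htriv
  obtain ⟨c⟩ : Nonempty C := inferInstance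
  have hs0 : InvX.ofSect s ≠ 0 := by
    intro h0
    have h1 : s = 0 := by rw [← InvX.one_ofSect s, h0]; rfl
    have h2 := (AmpleX.isFrame_res_locus s) (AmpleX.locus s) le_rfl
    haveI : Nonempty (AmpleX.locus s : X.Opens) := ⟨⟨g c, hs (Set.mem_range_self c)⟩⟩
    refine one_ne_zero (α := Γ(X, AmpleX.locus s)) (h2.1 ?_)
    simp [h1]
  obtain ⟨hD, hi⟩ := SurfInt.isInverseOf_zeroScheme hM (InvX.ofSect s) hs0
  obtain ⟨e, he⟩ := exists_eq_prod hX hΓ hD (by
    intro x hx
    by_contra hxs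
    have hxg : x ∈ Set.range g := by rw [range_genericFibre p hg]; exact hxs
    obtain ⟨W, hxW, fr, hfr⟩ := InvX.exists_frame hM x
    obtain ⟨_, ⟨V, hV, rfl⟩, hxV, hVW⟩ := X.isBasis_affineOpens.exists_subset_of_mem_open hxW W.isOpen
    obtain ⟨a, ha⟩ := (hfr.res hVW).exists_coord le_rfl (AModX.res M (le_top : V ≤ ⊤) s)
    rw [AModX.res_self] at ha
    have h2 : x ∈ X.basicOpen a := by
      rw [← AmpleX.locus_inf s le_top (hfr.res hVW) ha]
      exact ⟨hs hxg, hxV⟩
    replace hx : x ∈ (PicF2.zeroScheme M (InvX.ofSect s)).support := hx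
    rw [Scheme.IdealSheafData.mem_support_iff_of_mem (U := ⟨V, hV⟩) hxV, ZeroSchX.ideal_zeroScheme hM,
      ZeroSchX.zeroIdealOn_eq_span (InvX.ofSect s) (hfr.res hVW) (c := a) ?_, Scheme.zeroLocus_span,
      Scheme.mem_zeroLocus_iff] at hx
    · exact hx a rfl h2
    · refine Eq.trans (ZeroSchX.res_sv (InvX.ofSect s) (le_top : V ≤ ⊤)).symm ?_
      show AModX.res M _ (InvX.one (InvX.ofSect s)) = _
      rw [InvX.one_ofSect, ha])
  refine ⟨e, cl_eq_iff.1 ?_⟩
  rw [he] at hi
  exact ((IsUnit.of_mul_eq_one _ ((mul_comm _ _).trans (cl_multiTwist_mul_idealMod hX hL e))).mul_right_cancel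
    ((cl_eq_iff.2 hi).trans (cl_multiTwist_mul_idealMod hX hL e).symm))

/-- Twists by components agree exactly when they differ by a multiple of the special fibre. -/
theorem multiTwist_iso_iff {X : Over (Spec (CommRingCat.of R))} (hX : IsSurf X)
    (hbij : Function.Bijective X.hom.appTop) {n : ℕ} {Γc : Fin n → ArSurf.VertComp R X}
    (hΓ : Models.IsComponentList R X Γc) {L : Fin n → X.left.Modules}
    (hL : ∀ i, ClSub.IsInverseOf (L i) (ClSub.idealMod (Γc i).ι.ker)) (a b : Fin n → ℕ) :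
    Nonempty (FGA.multiTwist L a ≅ FGA.multiTwist L b) ↔
      ∃ c : ℤ, ∀ i, (a i : ℤ) - (b i : ℤ) = c * (Models.mult R X (Γc i) : ℤ) := by
  classical
  set ℓ : Fin n → PicF.Cl X.left := fun i => PicF.cl (L i)
  have hℓ : ∀ i, IsUnit (ℓ i) := fun i => isUnit_cl_component hL i
  have hI : ∀ e : Fin n → ℕ, (∏ i, ℓ i ^ e i) * PicF.cl (ClSub.idealMod (∏ j, (Γc j).ι.ker ^ e j)) = 1 := fun e => by
    have := cl_multiTwist_mul_idealMod hX hL e
    rwa [cl_multiTwist] at this
  let m : Fin n → ℕ := fun i => Models.mult R X (Γc i)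
  have hm : ∀ k : ℕ, ∏ i, ℓ i ^ (k * m i) = 1 := fun k => by
    have h1 : ∏ i, ℓ i ^ m i = 1 := by
      have h2 := hI m
      rwa [← hX.specialFibreIdeal_eq_prod hΓ, ← cl_eq_iff.2 hX.nonempty_idealMod_specialFibre, ← one_def,
        mul_one] at h2
    rw [← one_pow k, ← h1, ← Finset.prod_pow]
    exact Finset.prod_congr rfl fun i _ => by rw [← pow_mul, mul_comm]
  rw [← cl_eq_iff, cl_multiTwist, cl_multiTwist]
  constructor
  · intro h
    let N : ℕ := ∑ i, b i
    have hle : ∀ i, b i ≤ a i + N * m i := fun i => by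
      have h1 : b i ≤ N := Finset.single_le_sum (fun j _ => Nat.zero_le _) (Finset.mem_univ i)
      have h2 : N * 1 ≤ N * m i := Nat.mul_le_mul_left _ (hX.mult_pos (Γc i))
      omega
    let e : Fin n → ℕ := fun i => a i + N * m i - b i
    have he : ∏ i, ℓ i ^ e i = 1 := by
      refine (IsUnit.prod_univ_iff.2 fun i => (hℓ i).pow (b i) : IsUnit (∏ i, ℓ i ^ b i)).mul_left_cancel ?_
      rw [mul_one, ← Finset.prod_mul_distrib]
      simp only [← pow_add]
      calc ∏ i, ℓ i ^ (b i + e i) = ∏ i, ℓ i ^ (a i + N * m i) :=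
            Finset.prod_congr rfl fun i _ => by rw [show b i + e i = a i + N * m i from by have := hle i; simp only [e]; omega]
        _ = (∏ i, ℓ i ^ a i) * ∏ i, ℓ i ^ (N * m i) := by simp only [pow_add, Finset.prod_mul_distrib]
        _ = ∏ i, ℓ i ^ b i := by rw [hm, mul_one, h]
    have h3 := hI e
    rw [he, one_mul] at h3
    obtain ⟨k, hk⟩ := exists_eq_smul_mult hX hΓ hbij (e := e) (cl_eq_iff.1 h3.symm)
    refine ⟨(k : ℤ) - N, fun i => ?_⟩
    have := hle i
    have hk' : a i + N * m i = k * m i + b i := by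
      have : e i = k * m i := hk i
      simp only [e] at this
      omega
    have hkz : (a i : ℤ) + N * m i = k * m i + b i := by exact_mod_cast hk'
    rw [sub_mul]
    linarith
  · rintro ⟨c, hc⟩
    obtain ⟨u, v, rfl⟩ : ∃ u v : ℕ, c = (u : ℤ) - v := ⟨c.toNat, (-c).toNat, by omega⟩
    calc ∏ i, ℓ i ^ a i = ∏ i, ℓ i ^ (a i + v * m i) := by
          simp only [pow_add, Finset.prod_mul_distrib, hm, mul_one]
      _ = ∏ i, ℓ i ^ (b i + u * m i) := Finset.prod_congr rfl fun i _ => by
          congr 1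
          have := hc i
          rw [sub_mul] at this
          have : (a i : ℤ) + v * m i = b i + u * m i := by linarith
          exact_mod_cast this
      _ = ∏ i, ℓ i ^ b i := by simp only [pow_add, Finset.prod_mul_distrib, hm, mul_one]

end Groth.Agent.ModX56
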