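import Groth.Agent.ModX56.Chi
import Groth.Agent.ModX56.Vertical
import Groth.Agent.ArSurfX.Form
import Groth.Agent.GeomField.GlobalFunctions
import Groth.Agent.H23.RedSub
import Groth.Agent.Lib.CurveRR

/-!
# Connected divisors inside the closed fibre with a field of global functions
-/

universe u

set_option linter.style.haveILetI false
set_option backward.isDefEq.respectTransparency false
set_option backward.isDefEq.respectTransparency.types false

open CategoryTheory CategoryTheory.Limits AlgebraicGeometry IsLocalRing Order TopologicalSpace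

namespace Groth.Agent.ModX56

open Groth.Agent Groth.Agent.ArSurfX

/-- Global functions restrict injectively along `Z ⊆ Z'` if the quotient map does. -/
theorem injective_inclusion_appTop {X : Scheme.{u}} {J D : X.IdealSheafData} (h : J ≤ D)
    (q : ClSub.quotMod J ⟶ ClSub.quotMod D) (hq : ClSub.toSubscheme J ≫ q = ClSub.toSubscheme D)
    (hinj : Function.Injective (q.app ⊤)) :
    Function.Injective (Scheme.IdealSheafData.inclusion h).appTop := by
  refine (injective_iff_map_eq_zero _).2 fun a ha => ?_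
  refine hinj ((?_ : q.app ⊤ (show Γ(ClSub.quotMod J, ⊤) from a) = 0).trans (map_zero _).symm)
  refine QCoh.eq_zero_of_locally _ _ fun x _ => ?_
  obtain ⟨_, ⟨W, hW, rfl⟩, hxW, -⟩ :=
    X.isBasis_affineOpens.exists_subset_of_mem_open (Set.mem_univ x) isOpen_univ
  refine ⟨W, homOfLE le_top, hxW, ?_⟩
  rw [← QCoh.map_app_comm]
  have hι := Scheme.IdealSheafData.inclusion_subschemeι h
  obtain ⟨r, hr⟩ := J.subschemeι_app_surjective ⟨W, hW⟩
    (J.subscheme.presheaf.map (homOfLE (le_top : J.subschemeι ⁻¹ᵁ W ≤ ⊤)).op a)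
  have h1 : (ClSub.toSubscheme J).app W r =
      (ClSub.quotMod J).presheaf.map (homOfLE (le_top : W ≤ ⊤)).op a := hr
  rw [← h1]
  have h2 : q.app W ((ClSub.toSubscheme J).app W r) = (ClSub.toSubscheme D).app W r := congr(($hq).app W r)
  rw [h2]
  have h3 : (Scheme.IdealSheafData.inclusion h).appLE (J.subschemeι ⁻¹ᵁ W) (D.subschemeι ⁻¹ᵁ W)
      (by rw [← hι, Scheme.Hom.comp_preimage]) (J.subschemeι.app W r) = D.subschemeι.app W r := by
    have e := Scheme.Hom.appLE_comp_appLE (Scheme.IdealSheafData.inclusion h) J.subschemeι W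
      (J.subschemeι ⁻¹ᵁ W) (D.subschemeι ⁻¹ᵁ W) le_rfl (by rw [← hι, Scheme.Hom.comp_preimage])
    have hc : ∀ (φ : D.subscheme ⟶ X) (_ : φ = D.subschemeι) (e' : D.subschemeι ⁻¹ᵁ W ≤ φ ⁻¹ᵁ W),
        φ.appLE W (D.subschemeι ⁻¹ᵁ W) e' r = D.subschemeι.app W r := by
      rintro φ rfl e'
      rw [Scheme.Hom.app_eq_appLE]
    rw [Scheme.Hom.appLE_eq_app] at e
    exact (ConcreteCategory.congr_hom e r).trans (hc _ hι _)
  refine (show (ClSub.toSubscheme D).app W r = D.subschemeι.app W r from rfl).trans (h3.symm.trans ?_)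
  rw [hr]
  have e2 := ConcreteCategory.congr_hom ((Scheme.IdealSheafData.inclusion h).map_appLE
    (show D.subschemeι ⁻¹ᵁ W ≤ (Scheme.IdealSheafData.inclusion h) ⁻¹ᵁ (J.subschemeι ⁻¹ᵁ W) by
      rw [← hι, Scheme.Hom.comp_preimage]) (homOfLE (le_top : J.subschemeι ⁻¹ᵁ W ≤ ⊤)).op) a
  refine e2.trans ?_
  have e3 := ConcreteCategory.congr_hom ((Scheme.IdealSheafData.inclusion h).appLE_map
    (le_rfl : (⊤ : D.subscheme.Opens) ≤ _) (homOfLE (le_top : D.subschemeι ⁻¹ᵁ W ≤ ⊤)).op) a
  refine e3.symm.trans ?_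
  show D.subscheme.presheaf.map _ ((Scheme.IdealSheafData.inclusion h).appLE ⊤ ⊤ le_rfl a) = 0
  rw [show (Scheme.IdealSheafData.inclusion h).appLE ⊤ ⊤ le_rfl a = 0 from
    (ConcreteCategory.congr_hom (Scheme.Hom.app_eq_appLE _).symm a).trans ha, map_zero]

/-- No sections in negative degree. -/
theorem subsingleton_sections_of_deg_neg (k : Type u) [Field k] {Y : Scheme.{u}}
    [Y.Over (Spec (CommRingCat.of k))] [IsProper (Y ↘ Spec (CommRingCat.of k))] [IsIntegral Y]
    (hdim : topologicalKrullDim Y = 1) {M : Y.Modules} (hM : PicF.IsInvertible M)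
    (hneg : ArSurf.curveDeg k Y M < 0) : Subsingleton Γ(M, ⊤) := by
  haveI := CurveCohLib.isNoetherian_of_proper (k := k) (X := Y)
  haveI := CurveCohLib.finite_HH (k := k) (CurveDeg.isCoh_of_isInvertible hM) 0
  have h0 : Module.finrank k (Coh.HH Y M 0) = 0 := by
    by_contra h
    obtain ⟨s, hs⟩ := CurveRR.exists_hom_ne_zero k (P := M) h
    have h1 := (CurveDeg.deg_le_and_isIso k hdim.le CurveDeg.isInvertible_structureModule hM s hs).1
    rw [CurveDeg.deg_structureModule, ← ArSurfX.curveDeg_eq k hdim.le (ZeroSchX.isQCoh_inv hM)] at h1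
    omega
  haveI : Subsingleton (Coh.HH Y M 0) := Module.finrank_zero_iff.1 h0
  exact (Sheaf.H.equiv₀ (Coh.toAb M) isTerminalTop).symm.toEquiv.subsingleton

/-- Degree zero cohomology of a push-forward. -/
theorem subsingleton_HH_push_zero {Y Z : Scheme.{u}} (i : Z ⟶ Y) {M : Z.Modules} [h : Subsingleton Γ(M, ⊤)] :
    Subsingleton (Coh.HH Y ((Scheme.Modules.pushforward i).obj M) 0) := by
  haveI : Subsingleton Γ((Scheme.Modules.pushforward i).obj M, ⊤) := h
  exact (Sheaf.H.equiv₀ (Coh.toAb ((Scheme.Modules.pushforward i).obj M)) isTerminalTop).toEquiv.subsingleton_congr.2 ‹_›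

/-- Left exactness at the quotient. -/
theorem injective_of_subsingleton {A : Type u} [CommRing A] {Y : Scheme.{u}} [Y.Over (Spec (CommRingCat.of A))]
    {S : ShortComplex Y.Modules} (hS : S.ShortExact) [Subsingleton (Coh.HH Y S.X₁ 0)] :
    Function.Injective (PnCoh.Finite.mapLin A S.g 0) ∧ Function.Injective (S.g.app ⊤) := by
  have hk : Function.Injective (PnCoh.Finite.mapLin A S.g 0) := by
    refine (injective_iff_map_eq_zero _).2 fun t ht => ?_
    obtain ⟨v, hv⟩ := (CurveCohLib.ker_mapLin_g A hS 0).le (LinearMap.mem_ker.2 ht)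
    rw [← hv, Subsingleton.elim v 0, map_zero]
  refine ⟨hk, (injective_iff_map_eq_zero _).2 fun a ha => ?_⟩
  let e := Sheaf.H.equiv₀ (Coh.toAb S.X₂) isTerminalTop
  have h0 : PnCoh.Finite.mapLin A S.g 0 (e.symm a) = 0 := by
    refine (Sheaf.H.equiv₀ (Coh.toAb S.X₃) isTerminalTop).injective ?_
    rw [map_zero]
    refine (Sheaf.H.equiv₀_naturality isTerminalTop ((QCoh.toAbFunctor Y).map S.g) (e.symm a)).symm.trans ?_
    exact (congrArg (S.g.app ⊤) (e.apply_symm_apply a)).trans ha
  have h1 : e.symm a = 0 := hk (h0.trans (map_zero _).symm)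
  exact (e.apply_symm_apply a).symm.trans ((congrArg e h1).trans (map_zero e))

variable {R : Type u} [CommRing R] [IsDomain R] [IsDiscreteValuationRing R]

namespace Surf

variable {X : Over (Spec (CommRingCat.of R))} (hX : IsSurf X)
  {n : ℕ} {Γc : Fin n → ArSurf.VertComp R X} (hΓ : Models.IsComponentList R X Γc)
include hX hΓ

theorem prod_le_specialFibre (a : Fin n → ℕ) (ha : ∀ j, a j ≤ Models.mult R X (Γc j)) :
    Models.specialFibreIdeal R X ≤ ∏ j, (Γc j).ι.ker ^ a j := by
  rw [hX.specialFibreIdeal_eq_prod hΓ]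
  intro U
  let φ : X.left.IdealSheafData →* Ideal Γ(X.left, U.1) :=
    { toFun := fun I => I.ideal U, map_one' := Ideal.one_eq_top.symm,
      map_mul' := fun I J => by rw [Scheme.IdealSheafData.ideal_mul, Pi.mul_apply] }
  show φ _ ≤ φ _
  rw [map_prod, map_prod]
  refine Finset.prod_le_prod' fun j _ => ?_
  rw [map_pow, map_pow]
  exact Ideal.pow_le_pow_right (ha j)

theorem support_prod_one : ((∏ i, (Γc i).ι.ker).support : Set X.left) = Models.specialFibreSet R X := by
  classical
  have key : ∀ s : Finset (Fin n),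
      ((∏ i ∈ s, (Γc i).ι.ker).support : Set X.left) = ⋃ i ∈ s, Set.range (Γc i).ι.base := by
    intro s
    induction s using Finset.induction_on with
    | empty =>
      rw [Finset.prod_empty]
      simp [show (1 : X.left.IdealSheafData) = ⊤ from rfl]
    | @insert a s ha ih =>
      rw [Finset.prod_insert ha, Scheme.IdealSheafData.support_mul, Closeds.coe_sup, ih, support_ker,
        Finset.set_biUnion_insert]
  rw [key]
  refine Set.Subset.antisymm (Set.iUnion₂_subset fun i _ => range_subset_specialFibreSet _) fun x hx => ?_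
  obtain ⟨i, hi⟩ := hX.exists_mem_range hΓ hx
  exact Set.mem_iUnion₂.2 ⟨i, Finset.mem_univ i, hi⟩

/-- The reduced closed fibre is the sum of the components. -/
theorem redFibreIdeal_eq_prod : Models.redFibreIdeal R X = ∏ i, (Γc i).ι.ker := by
  classical
  refine le_antisymm ?_ (Scheme.IdealSheafData.le_support_iff_le_vanishingIdeal.1
    (show (⟨Models.specialFibreSet R X, Models.isClosed_specialFibreSet R X⟩ : Closeds X.left) ≤
      (∏ i, (Γc i).ι.ker).support from (support_prod_one hX hΓ).ge))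
  have hJ := isEffCartier_prod Finset.univ (fun i => (Γc i).ι.ker) fun i _ => hX.isEffCartier_ker (Γc i)
  set I := Models.redFibreIdeal R X
  set J := ∏ i, (Γc i).ι.ker
  refine fun U => CDivEq.le_of_stk I J U fun x hx => ?_
  obtain ⟨W, hxW, b₀, hb₀⟩ := exists_isGen hJ x
  rw [CDivEq.stk_congr I U W hx hxW, CDivEq.stk_congr J U W hx hxW]
  obtain ⟨hdom, hufd⟩ := hX.ufd_stalk x
  letI := UniqueFactorizationMonoid.toGCDMonoid (X.left.presheaf.stalk x)
  set b := X.left.presheaf.germ W.1 x hxW b₀
  have hb : b ≠ 0 := nonZeroDivisors.ne_zero (hb₀.germ_nzd hxW)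
  show (I.ideal W).map _ ≤ (J.ideal W).map _
  rw [hb₀.2, Ideal.map_span, Set.image_singleton, Ideal.map_le_iff_le_comap]
  intro a₀ ha₀
  rw [Ideal.mem_comap, Ideal.mem_span_singleton]
  set a := X.left.presheaf.germ W.1 x hxW a₀
  show b ∣ a
  obtain ⟨a', b', c, hrp, hea, heb⟩ : ∃ a' b' c, IsRelPrime a' b' ∧ c * a' = a ∧ c * b' = b :=
    UniqueFactorizationMonoid.exists_reduced_factors' a b hb
  rw [← heb] at hb
  by_cases hb' : IsUnit b'
  · rw [← hea, ← heb]
    exact mul_dvd_mul_left c hb'.dvd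
  exfalso
  obtain ⟨π, hπ, hπb⟩ := WfDvdMonoid.exists_irreducible_factor hb' (right_ne_zero_of_mul hb)
  have hπ' : Prime π := UniqueFactorizationMonoid.irreducible_iff_prime.1 hπ
  haveI : IsNoetherianRing (X.left.presheaf.stalk x) := by haveI := hX.regular x; infer_instance
  haveI hQ : (Ideal.span {π}).IsPrime := (Ideal.span_singleton_prime hπ.ne_zero).2 hπ'
  obtain ⟨y, hyx, hyQ⟩ := H23.StalkPrimes.exists_point (Ideal.span {π})
  have hy1 : coheight y ≤ 1 := by
    rw [← CDiv6.height_primeOf hyx, hyQ]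
    exact Ideal.height_le_one_of_isPrincipal_of_mem_minimalPrimes (Ideal.span {π}) _
      (by rw [Ideal.minimalPrimes_eq_subsingleton_self]; rfl)
  have hyW : y ∈ W.1 := hyx.mem_open W.1.isOpen hxW
  set s := (X.left.presheaf.stalkSpecializes hyx).hom
  have hs : ∀ c₀ : Γ(X.left, W.1), X.left.presheaf.germ W.1 y hyW c₀ = s (X.left.presheaf.germ W.1 x hxW c₀) :=
    fun c₀ => (TopCat.Presheaf.germ_stalkSpecializes_apply X.left.presheaf _ _ _).symm
  have hle : CDivEq.stk I W hyW ≤ CDivEq.stk J W hyW := by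
    by_cases hys : X.hom.base y = closedPoint R
    · obtain ⟨i, hi⟩ := hX.exists_mem_range hΓ hys
      have hyi : y = Models.genPtOf R X (Γc i) := by
        have h1 : Models.genPtOf R X (Γc i) ⤳ y := by
          rw [specializes_iff_mem_closure, closure_genPtOf]; exact hi
        by_contra hne
        have hlt : y < Models.genPtOf R X (Γc i) := lt_iff_le_not_ge.2 ⟨h1, fun h => hne (h.antisymm h1).symm⟩
        have h2 := (Order.coheight_add_one_le hlt).trans hy1
        rw [(hX.coheight_genPtOf (Γc i)).1] at h2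
        norm_num at h2
      subst hyi
      have e : J = ∏ j, (Γc j).ι.ker ^ (1 : ℕ) := by simp [J]
      rw [e, stk_prod_genPtOf hX hΓ, pow_one]
      refine IsLocalRing.le_maximalIdeal fun htop => ?_
      have hmem : Models.genPtOf R X (Γc i) ∈ (I.support : Set X.left) := by
        simp only [I, Models.redFibreIdeal, Scheme.IdealSheafData.coe_support_vanishingIdeal]
        exact range_subset_specialFibreSet (Γc i) (genPtOf_mem_range (Γc i))
      exact ((CDivEq.mem_support_iff I W hyW).1 hmem) htop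
    · have h1 : CDivEq.stk J W hyW = ⊤ := by
        by_contra hne
        have := (CDivEq.mem_support_iff J W hyW).2 hne
        exact hys ((support_prod_one hX hΓ).le this)
      rw [h1]; exact le_top
  change (I.ideal W).map _ ≤ (J.ideal W).map _ at hle
  rw [hb₀.2, Ideal.map_span, Set.image_singleton] at hle
  obtain ⟨d, hd⟩ := Ideal.mem_span_singleton.1 (hle (Ideal.mem_map_of_mem _ ha₀))
  have hsc : s c ≠ 0 := by
    intro e
    have := nonZeroDivisors.ne_zero (hb₀.germ_nzd hyW) (M₀ := X.left.presheaf.stalk y)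
    rw [hs, show X.left.presheaf.germ W.1 x hxW b₀ = c * b' from heb.symm, map_mul, e, zero_mul] at this
    exact this rfl
  haveI := hX.isDomain_stalk y
  change X.left.presheaf.germ W.1 y hyW a₀ = X.left.presheaf.germ W.1 y hyW b₀ * d at hd
  rw [hs, hs, show X.left.presheaf.germ W.1 x hxW a₀ = c * a' from hea.symm,
    show X.left.presheaf.germ W.1 x hxW b₀ = c * b' from heb.symm, map_mul, map_mul, mul_assoc] at hd
  have hd' := mul_left_cancel₀ hsc hd
  have hb'Q : ¬ IsUnit (s b') :=
    (CDiv6.mem_primeOf hyx b').1 (hyQ ▸ Ideal.mem_span_singleton.2 hπb)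
  have ha'Q : a' ∈ (CDiv6.primeOf hyx).asIdeal := (CDiv6.mem_primeOf hyx a').2 fun hu => hb'Q
    (isUnit_of_mul_isUnit_left (show IsUnit (s b' * d) from hd' ▸ hu))
  rw [hyQ, Ideal.mem_span_singleton] at ha'Q
  exact hπ.not_isUnit (hrp ha'Q hπb)

/-- The predicate carried along the chain: a field of global functions, finite over `R`. -/
def FieldH0 (D : X.left.IdealSheafData) : Prop :=
  IsField ↑(Γ(D.subscheme, ⊤)) ∧
    ((D.subschemeι ≫ X.hom).appTop.hom.comp (Scheme.ΓSpecIso (CommRingCat.of R)).inv.hom).Finite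

omit hΓ in
theorem finite_toGlobal {D : X.left.IdealSheafData} (hle : Models.specialFibreIdeal R X ≤ D) :
    ∃ fD : D.subscheme ⟶ Spec (CommRingCat.of (ResidueField R)),
      IsProper fD ∧ (show ResidueField R →+* Γ(D.subscheme, ⊤) from Coh.toGlobal fD).Finite ∧
        ((D.subschemeι ≫ X.hom).appTop.hom.comp (Scheme.ΓSpecIso (CommRingCat.of R)).inv.hom).Finite := by
  haveI := hX.isProper
  obtain ⟨fD, hfD⟩ := exists_toField hle
  haveI hp := isProper_toField D.subschemeι fD hfD
  suffices hfin : (show ResidueField R →+* Γ(D.subscheme, ⊤) from Coh.toGlobal fD).Finite by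
    refine ⟨fD, hp, hfin, ?_⟩
    have e : (D.subschemeι ≫ X.hom).appTop.hom.comp (Scheme.ΓSpecIso (CommRingCat.of R)).inv.hom =
        (show ResidueField R →+* Γ(D.subscheme, ⊤) from Coh.toGlobal fD).comp (residue R) :=
      RingHom.ext fun r => RingHom.congr_fun (toGlobal_comp_residue D.subschemeι fD hfD) r
    rw [e]
    exact hfin.comp (RingHom.Finite.of_surjective _ residue_surjective)
  letI : D.subscheme.Over (Spec (CommRingCat.of (ResidueField R))) := ⟨fD⟩
  haveI : IsProper (D.subscheme ↘ Spec (CommRingCat.of (ResidueField R))) := hp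
  haveI : IsLocallyNoetherian D.subscheme := LocallyOfFiniteType.isLocallyNoetherian fD
  haveI := S0002.result (ResidueField R) D.subscheme (Coh.structureModule D.subscheme) QCoh.isCoh_structureModule' 0
  letI := GeomField.globalAlgebra (ResidueField R) D.subscheme
  refine RingHom.finite_algebraMap.2 (?_ : Module.Finite (ResidueField R) Γ(D.subscheme, ⊤))
  let e := Sheaf.H.equiv₀ (Coh.toAb (Coh.structureModule D.subscheme)) isTerminalTop
  refine Module.Finite.of_surjective
    ({ toFun := fun t => (show Γ(D.subscheme, ⊤) from e t)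
       map_add' := fun a b => map_add e a b
       map_smul' := fun a t => by
        refine (CurveCohLib.h0Equiv_smul (Coh.structureModule D.subscheme) a t).trans ?_
        refine congrArg (fun c : Γ(D.subscheme, ⊤) => c * _) ?_
        exact ConcreteCategory.congr_hom (D.subscheme.presheaf.map_id (Opposite.op ⊤)) _ } :
      Coh.HH D.subscheme (Coh.structureModule D.subscheme) 0 →ₗ[ResidueField R] Γ(D.subscheme, ⊤)) e.surjective

theorem fieldH0_redFibre (hconn : _root_.IsConnected (Models.specialFibreSet R X)) :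
    FieldH0 (∏ i, (Γc i).ι.ker ^ (1 : ℕ)) := by
  haveI := hX.isProper
  have e : ∏ i, (Γc i).ι.ker ^ (1 : ℕ) = Models.redFibreIdeal R X := by
    rw [redFibreIdeal_eq_prod hX hΓ]; simp
  have hle : Models.specialFibreIdeal R X ≤ Models.redFibreIdeal R X := e ▸
    prod_le_specialFibre hX hΓ _ fun j => hX.mult_pos (Γc j)
  set D := Models.redFibreIdeal R X
  obtain ⟨fD, hp, hfin, hcomp⟩ := finite_toGlobal hX hle
  rw [e]
  refine ⟨?_, ?_⟩
  · haveI : AlgebraicGeometry.IsReduced D.subscheme := H23.RedSub.isReduced_vanishingIdeal _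
    haveI : ConnectedSpace D.subscheme := by
      have h1 : _root_.IsConnected (Set.range D.subschemeι) := by
        rw [Scheme.IdealSheafData.range_subschemeι, show D = ∏ i, (Γc i).ι.ker from redFibreIdeal_eq_prod hX hΓ,
          support_prod_one hX hΓ]
        exact hconn
      rw [← Set.image_univ] at h1
      exact connectedSpace_iff_univ.2 ⟨h1.nonempty.of_image,
        D.subschemeι.isClosedEmbedding.isInducing.isPreconnected_image.1 h1.isPreconnected⟩
    letI : D.subscheme.Over (Spec (CommRingCat.of (ResidueField R))) := ⟨fD⟩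
    haveI : IsProper (D.subscheme ↘ Spec (CommRingCat.of (ResidueField R))) := hp
    exact GeomField.isField_globalFunctions (ResidueField R) D.subscheme
  · exact hcomp

omit hΓ in
/-- Sections of `O_{D+Γ}` restrict injectively to `D` when `I_D|_Γ` has negative degree. -/
theorem exists_injective_step (D : X.left.IdealSheafData) (Γ : ArSurf.VertComp R X)
    (hD : BlowUp.IsEffCartierIdeal D) (hneg : ArSurf.inter R X (ClSub.idealMod D) Γ < 0) :
    letI : X.left.Over (Spec (CommRingCat.of R)) := ⟨X.hom⟩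
    ∃ q : ClSub.quotMod (D * Γ.ι.ker) ⟶ ClSub.quotMod D,
      ClSub.toSubscheme (D * Γ.ι.ker) ≫ q = ClSub.toSubscheme D ∧
        Function.Injective (PnCoh.Finite.mapLin R q 0) ∧ Function.Injective (q.app ⊤) := by
  haveI := hX.isProper
  haveI := hX.isLocallyNoetherian
  letI : X.left.Over (Spec (CommRingCat.of R)) := ⟨X.hom⟩
  have hI := isInvertible_idealMod hD
  obtain ⟨b, q, w, hS, hq⟩ := exists_shortExact_mul D Γ.ι (ZeroSchX.isQCoh_inv hI)
  haveI : IsProper (Γ.curve.left ↘ Spec (CommRingCat.of (ResidueField R))) := ArSurfX.isProper_curve Γ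
  haveI := subsingleton_sections_of_deg_neg (ResidueField R) Γ.dim_eq (PicClLib.isInvertible_pullback Γ.ι hI) hneg
  have hs := subsingleton_HH_push_zero Γ.ι (M := (Scheme.Modules.pullback Γ.ι).obj (ClSub.idealMod D))
  obtain ⟨h1, h2⟩ := @injective_of_subsingleton R _ X.left _ _ hS hs
  exact ⟨q, hq, h1, h2⟩

omit hΓ in
/-- Adding a component of negative degree keeps the field property. -/
theorem fieldH0_mul (D : X.left.IdealSheafData) (Γ : ArSurf.VertComp R X)
    (hD : BlowUp.IsEffCartierIdeal D) (hle : Models.specialFibreIdeal R X ≤ D * Γ.ι.ker)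
    (hneg : ArSurf.inter R X (ClSub.idealMod D) Γ < 0) (hF : FieldH0 D) : FieldH0 (D * Γ.ι.ker) := by
  obtain ⟨q, hq, -, hinj⟩ := exists_injective_step hX D Γ hD hneg
  have hJD : D * Γ.ι.ker ≤ D := fun U => by
    rw [Scheme.IdealSheafData.ideal_mul, Pi.mul_apply]
    exact Ideal.mul_le_left
  have hφ := injective_inclusion_appTop hJD q hq hinj
  obtain ⟨fD, hp, hfin, hcomp⟩ := finite_toGlobal hX hle
  refine ⟨?_, ?_⟩
  · letI := hF.1.toField
    haveI : IsDomain Γ((D * Γ.ι.ker).subscheme, ⊤) :=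
      Function.Injective.isDomain (Scheme.IdealSheafData.inclusion hJD).appTop.hom hφ
    letI := (show ResidueField R →+* Γ((D * Γ.ι.ker).subscheme, ⊤) from Coh.toGlobal fD).toAlgebra
    haveI : Module.Finite (ResidueField R) Γ((D * Γ.ι.ker).subscheme, ⊤) := RingHom.finite_algebraMap.1 hfin
    exact isField_of_isIntegral_of_isField' (R := ResidueField R) (Field.toIsField _)
  · exact hcomp

/-- Below `D = Σ (m_i/d) Γ_i` some component can be added with negative degree. -/
theorem exists_step {L : Fin n → X.left.Modules}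
    (hL : ∀ j, ClSub.IsInverseOf (L j) (ClSub.idealMod (Γc j).ι.ker))
    (hconn : _root_.IsConnected (Models.specialFibreSet R X)) (a : Fin n → ℕ) (ha1 : ∀ j, 1 ≤ a j)
    (ha : ∀ j, a j ≤ Models.mult R X (Γc j) / Models.multGcd R X Γc)
    (hne : ∃ j, a j < Models.mult R X (Γc j) / Models.multGcd R X Γc) :
    ∃ i, a i < Models.mult R X (Γc i) / Models.multGcd R X Γc ∧
      ArSurf.inter R X (ClSub.idealMod (∏ j, (Γc j).ι.ker ^ a j)) (Γc i) < 0 := by
  classical
  haveI := hX.isProper
  let m : Fin n → ℕ := fun j => Models.mult R X (Γc j)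
  set d := Models.multGcd R X Γc
  obtain ⟨j₀, hj₀⟩ := hne
  have hdm : ∀ j, d ∣ m j := fun j => Finset.gcd_dvd (Finset.mem_univ j)
  have hdpos : 0 < d := Nat.pos_of_dvd_of_pos (hdm j₀) (hX.mult_pos (Γc j₀))
  let b : Fin n → ℕ := fun j => m j / d - a j
  have hD := isEffCartier_prod Finset.univ (fun j => (Γc j).ι.ker ^ a j)
    fun j _ => isEffCartier_pow (hX.isEffCartier_ker (Γc j)) _
  have hval : ∀ i, ArSurf.inter R X (ClSub.idealMod (∏ j, (Γc j).ι.ker ^ a j)) (Γc i) =
      -∑ j, (a j : ℤ) * ArSurf.inter R X (L j) (Γc i) := fun i => by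
    obtain ⟨M, hM, hMi, hMv⟩ := ArSurfX.exists_inverse_prod (Γc i) Finset.univ (fun j => (Γc j).ι.ker)
      (fun j => hX.isEffCartier_ker (Γc j)) L hL a
    rw [ArSurfX.inter_inverse (Γc i) (isInvertible_idealMod hD) hMi] at hMv
    linarith
  by_contra hno
  push Not at hno
  have hbi : ∀ i, a i < m i / d → 0 ≤ ∑ j, (b j : ℤ) * ArSurf.inter R X (L j) (Γc i) := fun i hi => by
    have h1 := hno i hi
    rw [hval] at h1
    have h2 : ∑ j, ((m j / d : ℕ) : ℤ) * ArSurf.inter R X (L j) (Γc i) = 0 := by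
      refine mul_left_cancel₀ (a := (d : ℤ)) (by exact_mod_cast hdpos.ne') ?_
      rw [mul_zero, Finset.mul_sum, ← hX.sum_mult_inter hΓ hL (Γc i)]
      refine Finset.sum_congr rfl fun j _ => ?_
      rw [← mul_assoc, ← Nat.cast_mul, Nat.mul_div_cancel' (hdm j)]
    have h3 : ∑ j, (b j : ℤ) * ArSurf.inter R X (L j) (Γc i) =
        ∑ j, ((m j / d : ℕ) : ℤ) * ArSurf.inter R X (L j) (Γc i) -
          ∑ j, (a j : ℤ) * ArSurf.inter R X (L j) (Γc i) := by
      rw [← Finset.sum_sub_distrib]
      refine Finset.sum_congr rfl fun j _ => ?_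
      rw [show (b j : ℤ) = ((m j / d : ℕ) : ℤ) - a j from Nat.cast_sub (ha j), sub_mul]
    linarith
  have hQ : 0 ≤ ∑ i, ∑ j, ArSurf.inter R X (L j) (Γc i) * ((b i : ℤ) * b j) :=
    Finset.sum_nonneg fun i _ => by
      calc (0 : ℤ) ≤ (b i : ℤ) * ∑ j, (b j : ℤ) * ArSurf.inter R X (L j) (Γc i) := by
            rcases Nat.eq_zero_or_pos (b i) with h | h
            · rw [h]; simp
            · exact mul_nonneg (Int.natCast_nonneg _) (hbi i (by simp only [b] at h; omega))
        _ = _ := by rw [Finset.mul_sum]; exact Finset.sum_congr rfl fun j _ => by ring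
  obtain ⟨hle, hform⟩ := hX.form_nonpos hΓ hL (fun j => (b j : ℤ))
  have hedge := hform (le_antisymm hle hQ)
  have hprop : ∀ i, b i * m j₀ = b j₀ * m i := by
    intro i
    let I := Finset.univ.filter fun i : Fin n => b i * m j₀ = b j₀ * m i
    suffices hI : I = Finset.univ by exact (Finset.mem_filter.1 (hI ▸ Finset.mem_univ i : i ∈ I)).2
    by_contra hne
    obtain ⟨i, hi, j, hj, hij⟩ := hX.connected_components hΓ hL hconn I
      ⟨j₀, Finset.mem_filter.2 ⟨Finset.mem_univ _, rfl⟩⟩ hne
    refine hj (Finset.mem_filter.2 ⟨Finset.mem_univ _, ?_⟩)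
    have h1 := hedge i j hij
    have h2 := (Finset.mem_filter.1 hi).2
    have hmi : (m i : ℚ) ≠ 0 := Nat.cast_ne_zero.2 (hX.mult_pos (Γc i)).ne'
    have hmj : (m j : ℚ) ≠ 0 := Nat.cast_ne_zero.2 (hX.mult_pos (Γc j)).ne'
    rw [div_eq_div_iff hmi hmj] at h1
    have h1' : b i * m j = b j * m i := by exact_mod_cast h1
    refine Nat.eq_of_mul_eq_mul_right (hX.mult_pos (Γc i)) ?_
    calc b j * m j₀ * m i = (b j * m i) * m j₀ := by ring
      _ = (b i * m j₀) * m j := by rw [← h1']; ring
      _ = b j₀ * m j * m i := by rw [h2]; ring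
  obtain ⟨c, hc⟩ : m j₀ ∣ b j₀ * d := by
    rw [show b j₀ * d = Finset.univ.gcd fun i => b j₀ * m i by rw [Finset.gcd_mul_left, normalize_eq]; rfl]
    exact Finset.dvd_gcd fun i _ => ⟨b i, by rw [← hprop i, mul_comm]⟩
  obtain ⟨q, hq⟩ := hdm j₀
  have hb0 : b j₀ = c * q := by
    refine Nat.eq_of_mul_eq_mul_right hdpos ?_
    rw [hc, hq]; ring
  have hbpos : 0 < b j₀ := Nat.sub_pos_of_lt hj₀
  have hq' : m j₀ / d = q := by rw [hq]; exact Nat.mul_div_cancel_left q hdpos
  have hlt : b j₀ < q := by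
    have := ha1 j₀
    simp only [b] at hbpos ⊢
    omega
  rcases Nat.eq_zero_or_pos c with rfl | hcpos
  · simp only [zero_mul] at hb0; omega
  · have : q ≤ c * q := Nat.le_mul_of_pos_left q hcpos
    omega

/-- The chain from the reduced fibre to `D`, along which any property stable under such steps propagates. -/
theorem exists_chain {L : Fin n → X.left.Modules}
    (hL : ∀ j, ClSub.IsInverseOf (L j) (ClSub.idealMod (Γc j).ι.ker))
    (hconn : _root_.IsConnected (Models.specialFibreSet R X)) (P : X.left.IdealSheafData → Prop)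
    (hP : ∀ (D : X.left.IdealSheafData) (Γ : ArSurf.VertComp R X), BlowUp.IsEffCartierIdeal D →
      Models.specialFibreIdeal R X ≤ D * Γ.ι.ker → ArSurf.inter R X (ClSub.idealMod D) Γ < 0 →
      P D → P (D * Γ.ι.ker)) :
    ∀ (N : ℕ) (a : Fin n → ℕ), (∀ j, 1 ≤ a j) →
      (∀ j, a j ≤ Models.mult R X (Γc j) / Models.multGcd R X Γc) →
      (∑ j, (Models.mult R X (Γc j) / Models.multGcd R X Γc - a j) = N) →
      P (∏ j, (Γc j).ι.ker ^ a j) →
      ∃ (c : Fin (N + 1) → Fin n → ℕ), c 0 = a ∧
        (c (Fin.last N) = fun i => Models.mult R X (Γc i) / Models.multGcd R X Γc) ∧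
        (∀ j : Fin N, ∃ i, c j.succ = c j.castSucc + Pi.single i 1 ∧
          ArSurf.inter R X (ClSub.idealMod (∏ l, (Γc l).ι.ker ^ c j.castSucc l)) (Γc i) < 0) ∧
        ∀ j, P (∏ i, (Γc i).ι.ker ^ c j i) := by
  classical
  intro N
  induction N with
  | zero =>
    intro a _ ha hsum hF
    refine ⟨fun _ => a, rfl, funext fun i => le_antisymm (ha i) ?_, fun j => j.elim0, fun _ => hF⟩
    have := Finset.sum_eq_zero_iff.1 hsum i (Finset.mem_univ i)
    show _ ≤ a i
    omega
  | succ N ih =>
    intro a ha1 ha hsum hF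
    have hne : ∃ j, a j < Models.mult R X (Γc j) / Models.multGcd R X Γc := by
      by_contra h
      push Not at h
      have : ∑ j, (Models.mult R X (Γc j) / Models.multGcd R X Γc - a j) = 0 :=
        Finset.sum_eq_zero fun j _ => Nat.sub_eq_zero_of_le (h j)
      omega
    obtain ⟨i, hi, hneg⟩ := exists_step hX hΓ hL hconn a ha1 ha hne
    let a' : Fin n → ℕ := a + Pi.single i 1
    have ha' : ∀ j, a' j = a j + if j = i then 1 else 0 := fun j => by
      simp [a', Pi.single_apply]
    have hle' : ∀ j, a' j ≤ Models.mult R X (Γc j) / Models.multGcd R X Γc := fun j => by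
      rw [ha']
      split_ifs with h
      · subst h; omega
      · simpa using ha j
    have hprod : ∏ j, (Γc j).ι.ker ^ a' j = (∏ j, (Γc j).ι.ker ^ a j) * (Γc i).ι.ker := by
      simp only [ha', pow_add, Finset.prod_mul_distrib]
      congr 1
      rw [Finset.prod_eq_single_of_mem i (Finset.mem_univ i) fun j _ hj => by rw [if_neg hj, pow_zero]]
      simp
    have hF' : P (∏ j, (Γc j).ι.ker ^ a' j) := by
      rw [hprod]
      refine hP _ (Γc i) (isEffCartier_prod Finset.univ (fun j => (Γc j).ι.ker ^ a j)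
        fun j _ => isEffCartier_pow (hX.isEffCartier_ker (Γc j)) _) ?_ hneg hF
      rw [← hprod]
      exact prod_le_specialFibre hX hΓ _ fun j => (hle' j).trans (Nat.div_le_self _ _)
    obtain ⟨c, hc0, hcl, hstep, hc⟩ := ih a' (fun j => by rw [ha']; have := ha1 j; omega) hle' (by
      have h1 : ∑ j, (Models.mult R X (Γc j) / Models.multGcd R X Γc - a j) =
          ∑ j, (Models.mult R X (Γc j) / Models.multGcd R X Γc - a' j) + 1 := by
        rw [show (1 : ℕ) = ∑ j, if j = i then 1 else 0 by simp, ← Finset.sum_add_distrib]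
        refine Finset.sum_congr rfl fun j _ => ?_
        have := hle' j
        rw [ha'] at this ⊢
        split_ifs at this ⊢ <;> omega
      omega) hF'
    refine ⟨Fin.cons a c, rfl, ?_, fun j => ?_, fun j => ?_⟩
    · rw [← hcl, ← Fin.succ_last, Fin.cons_succ]
    · induction j using Fin.cases with
      | zero => exact ⟨i, by rw [Fin.cons_succ, hc0, Fin.castSucc_zero, Fin.cons_zero],
          by rw [Fin.castSucc_zero, Fin.cons_zero]; exact hneg⟩
      | succ j =>
        obtain ⟨l, hl, hl'⟩ := hstep j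
        exact ⟨l, by rw [Fin.cons_succ, hl, ← Fin.succ_castSucc, Fin.cons_succ],
          by rw [← Fin.succ_castSucc, Fin.cons_succ]; exact hl'⟩
    · induction j using Fin.cases with
      | zero => rw [Fin.cons_zero]; exact hF
      | succ j => rw [Fin.cons_succ]; exact hc j

end Surf

end Groth.Agent.ModX56
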