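import Mathlib.RingTheory.Length
import Mathlib.RingTheory.Flat.Basic
import Mathlib.RingTheory.Localization.FractionRing
import Mathlib.LinearAlgebra.Dimension.Localization
import Mathlib.LinearAlgebra.FreeModule.PID
import Groth.Agent.DvrTorsion.Basic

/-!
# Lengths of modules over discrete valuation rings
-/

universe u v

open IsLocalRing TensorProduct

namespace Groth.Agent.ModX56

variable {R : Type u} [CommRing R]

/-- The length, as a natural number (`0` if infinite). -/
noncomputable abbrev nlen (R : Type u) [CommRing R] (M : Type v) [AddCommGroup M] [Module R M] : ℕ :=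
  (Module.length R M).toNat

section Six

variable {M N : Type v} [AddCommGroup M] [Module R M] [AddCommGroup N] [Module R N]

theorem nlen_ker_add_range (f : M →ₗ[R] N) (hM : Module.length R M ≠ ⊤) :
    nlen R (LinearMap.ker f) + nlen R (LinearMap.range f) = nlen R M := by
  have h := Module.length_eq_add_of_exact (LinearMap.ker f).subtype f.rangeRestrict
    (LinearMap.ker f).subtype_injective f.surjective_rangeRestrict
    (by rw [LinearMap.exact_iff, LinearMap.ker_rangeRestrict, Submodule.range_subtype])
  rw [h] at hM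
  rw [nlen, nlen, nlen, h, ENat.toNat_add (WithTop.add_ne_top.1 hM).1 (WithTop.add_ne_top.1 hM).2]

theorem nlen_congr (e : M ≃ₗ[R] N) : nlen R M = nlen R N := by rw [nlen, nlen, e.length_eq]

theorem length_submodule_ne_top {p : Submodule R M} (hM : Module.length R M ≠ ⊤) : Module.length R p ≠ ⊤ :=
  ne_top_of_le_ne_top hM (Module.length_le_of_injective p.subtype p.subtype_injective)

theorem nlen_quotient (p : Submodule R M) (hM : Module.length R M ≠ ⊤) :
    nlen R p + nlen R (M ⧸ p) = nlen R M := by
  have h := Module.length_eq_add_of_exact p.subtype p.mkQ p.subtype_injective (Submodule.mkQ_surjective _)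
    (LinearMap.exact_subtype_mkQ _)
  rw [h] at hM
  rw [nlen, nlen, nlen, h, ENat.toNat_add (WithTop.add_ne_top.1 hM).1 (WithTop.add_ne_top.1 hM).2]

end Six

variable [IsDomain R] [IsDiscreteValuationRing R] {ϖ : R}

theorem nlen_residueField_pi (r : ℕ) : nlen R (Fin r → ResidueField R) = r := by
  rw [nlen, Module.length_pi_of_fintype]
  have : Module.length R (ResidueField R) = 1 := by
    rw [Module.length_eq_of_surjective (S := R) (R := ResidueField R) residue_surjective,
      Module.length_eq_finrank, Module.finrank_self]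
    rfl
  simp [this]

/-- For a finitely generated module over a DVR, the cotorsion exceeds the torsion by the rank. -/
theorem nlen_quotient_sub_ker (hϖ : Irreducible ϖ) (M : Type v) [AddCommGroup M] [Module R M]
    [Module.Finite R M] :
    Module.length R (M ⧸ LinearMap.range (DvrTorsion.mulπ ϖ M)) ≠ ⊤ ∧
    Module.length R (LinearMap.ker (DvrTorsion.mulπ ϖ M)) ≠ ⊤ ∧
    nlen R (M ⧸ LinearMap.range (DvrTorsion.mulπ ϖ M)) =
      nlen R (LinearMap.ker (DvrTorsion.mulπ ϖ M)) + Module.finrank R M := by
  classical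
  let T := Submodule.torsion R M
  let μ := DvrTorsion.mulπ ϖ M
  -- the free quotient
  haveI : Module.IsTorsionFree R (M ⧸ T) := inferInstance
  haveI : Module.Free R (M ⧸ T) := Module.free_of_finite_type_torsion_free'
  obtain ⟨n, hn⟩ : ∃ n : ℕ, ∀ x : T, ϖ ^ n • x = 0 := by
    obtain ⟨s, hs⟩ := (inferInstance : Module.Finite R T).fg_top
    choose a ha0 using fun x : T => (Submodule.mem_torsion_iff (x : M)).1 x.2
    have hp : (∏ x ∈ s, (a x : R)) ≠ 0 := Finset.prod_ne_zero_iff.2 fun x _ => nonZeroDivisors.ne_zero (a x).2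
    obtain ⟨n, v, hv⟩ := IsDiscreteValuationRing.eq_unit_mul_pow_irreducible hp hϖ
    refine ⟨n, fun x => ?_⟩
    have hx : x ∈ Submodule.span R (s : Set T) := hs ▸ Submodule.mem_top
    induction hx using Submodule.span_induction with
    | mem y hy =>
      have h1 : (∏ z ∈ s, (a z : R)) • y = 0 := by
        rw [← Finset.prod_erase_mul _ _ hy, mul_smul, show (a y : R) • y = 0 from Subtype.ext (ha0 y), smul_zero]
      rw [hv, mul_smul] at h1
      exact v.isUnit.smul_eq_zero.1 h1
    | zero => exact smul_zero _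
    | add y z _ _ h1 h2 => rw [smul_add, h1, h2, add_zero]
    | smul c y _ h => rw [smul_comm, h, smul_zero]
  have hT : Module.length R T ≠ ⊤ := Module.length_ne_top_iff.2 (DvrTorsion.isFiniteLength hϖ n hn)
  -- the kernel lies in the torsion
  have hker : LinearMap.ker μ ≤ T := fun x hx =>
    (Submodule.mem_torsion_iff _).2 ⟨⟨ϖ, mem_nonZeroDivisors_of_ne_zero hϖ.ne_zero⟩, hx⟩
  let μT := DvrTorsion.mulπ ϖ T
  let eK : LinearMap.ker μ ≃ₗ[R] LinearMap.ker μT :=
    { toFun := fun x => ⟨⟨x.1, hker x.2⟩, Subtype.ext x.2⟩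
      invFun := fun x => ⟨x.1.1, congrArg Subtype.val x.2⟩
      left_inv := fun _ => rfl
      right_inv := fun _ => rfl
      map_add' := fun _ _ => rfl
      map_smul' := fun _ _ => rfl }
  have hTT : nlen R (T ⧸ LinearMap.range μT) = nlen R (LinearMap.ker μT) := by
    have h1 := nlen_ker_add_range μT hT
    have h2 := nlen_quotient (LinearMap.range μT) hT
    omega
  -- reduction of the free quotient
  let b := Module.finBasis R (M ⧸ T)
  let red : M →ₗ[R] (Fin (Module.finrank R (M ⧸ T)) → ResidueField R) :=
    (LinearMap.pi fun i => (Algebra.linearMap R (ResidueField R)).comp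
      ((LinearMap.proj i).comp b.equivFun.toLinearMap)).comp T.mkQ
  have hred0 : ∀ x, red (ϖ • x) = 0 := fun x => funext fun i => by
    show algebraMap R (ResidueField R) (b.equivFun (T.mkQ (ϖ • x)) i) = 0
    rw [map_smul, map_smul, Pi.smul_apply, smul_eq_mul, map_mul,
      show algebraMap R (ResidueField R) ϖ = 0 from (IsLocalRing.residue_eq_zero_iff _).2
        ((IsLocalRing.mem_maximalIdeal _).2 hϖ.not_isUnit), zero_mul]
  let g : (M ⧸ LinearMap.range μ) →ₗ[R] (Fin (Module.finrank R (M ⧸ T)) → ResidueField R) :=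
    (LinearMap.range μ).liftQ red (by rintro _ ⟨x, rfl⟩; exact hred0 x)
  let i : (T ⧸ LinearMap.range μT) →ₗ[R] (M ⧸ LinearMap.range μ) :=
    Submodule.mapQ _ _ T.subtype (by rintro _ ⟨x, rfl⟩; exact ⟨x.1, rfl⟩)
  have hi : Function.Injective i := by
    rw [← LinearMap.ker_eq_bot, eq_bot_iff]
    intro q hq
    obtain ⟨x, rfl⟩ := Submodule.mkQ_surjective _ q
    obtain ⟨y, hy⟩ := (Submodule.Quotient.mk_eq_zero _).1 (show Submodule.Quotient.mk (x : M) = 0 from hq)
    have hyT : y ∈ T := by
      obtain ⟨c, hc⟩ := (Submodule.mem_torsion_iff _).1 x.2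
      refine (Submodule.mem_torsion_iff _).2 ⟨c * ⟨ϖ, mem_nonZeroDivisors_of_ne_zero hϖ.ne_zero⟩, ?_⟩
      rw [Submonoid.smul_def, Submonoid.coe_mul, mul_smul]
      rw [show ϖ • y = (x : M) from hy]
      exact hc
    exact (Submodule.Quotient.mk_eq_zero _).2 ⟨⟨y, hyT⟩, Subtype.ext hy⟩
  have hgs : Function.Surjective g := fun v => by
    choose r hr using fun j => IsLocalRing.residue_surjective (v j)
    obtain ⟨x, hx⟩ := T.mkQ_surjective (b.equivFun.symm r)
    refine ⟨Submodule.Quotient.mk x, funext fun j => ?_⟩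
    show algebraMap R (ResidueField R) (b.equivFun (T.mkQ x) j) = v j
    rw [hx, LinearEquiv.apply_symm_apply]
    exact hr j
  have hex : Function.Exact i g := by
    rw [LinearMap.exact_iff]
    refine le_antisymm (fun q hq => ?_) ?_
    · obtain ⟨x, rfl⟩ := Submodule.mkQ_surjective _ q
      have hx : ∀ j, b.equivFun (T.mkQ x) j ∈ maximalIdeal R := fun j =>
        (IsLocalRing.residue_eq_zero_iff _).1 (congrFun (show red x = 0 from hq) j)
      rw [hϖ.maximalIdeal_eq] at hx
      choose c hc using fun j => Ideal.mem_span_singleton'.1 (hx j)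
      obtain ⟨z, hz⟩ := T.mkQ_surjective (b.equivFun.symm c)
      have hxz : x - ϖ • z ∈ T := by
        rw [← Submodule.Quotient.mk_eq_zero, ← Submodule.mkQ_apply, map_sub, map_smul, hz, ← map_smul,
          sub_eq_zero]
        refine b.equivFun.injective (funext fun j => ?_)
        rw [LinearEquiv.apply_symm_apply, Pi.smul_apply, smul_eq_mul, mul_comm]
        exact (hc j).symm
      refine ⟨Submodule.Quotient.mk ⟨_, hxz⟩, (Submodule.Quotient.eq _).2 ⟨-z, ?_⟩⟩
      show ϖ • (-z) = (x - ϖ • z) - x
      rw [smul_neg]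
      abel
    · rintro _ ⟨q, rfl⟩
      obtain ⟨x, rfl⟩ := Submodule.mkQ_surjective _ q
      refine funext fun j => ?_
      show algebraMap R (ResidueField R) (b.equivFun (T.mkQ (x : M)) j) = 0
      rw [Submodule.mkQ_apply, (Submodule.Quotient.mk_eq_zero T).2 x.2, map_zero, Pi.zero_apply, map_zero]
  have hlen := Module.length_eq_add_of_exact i g hi hgs hex
  have hfin₁ : Module.length R (T ⧸ LinearMap.range μT) ≠ ⊤ :=
    ne_top_of_le_ne_top hT (Module.length_le_of_surjective _ (Submodule.mkQ_surjective _))
  have hfin₂ : Module.length R (Fin (Module.finrank R (M ⧸ T)) → ResidueField R) ≠ ⊤ := by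
    rw [Module.length_pi_of_fintype]
    refine (ENat.sum_ne_top).2 fun j _ => ?_
    rw [Module.length_eq_of_surjective (S := R) (R := ResidueField R) residue_surjective,
      Module.length_eq_finrank]
    exact ENat.natCast_ne_top _
  have hrank : Module.finrank R (M ⧸ T) = Module.finrank R M := by
    have h1 := Submodule.finrank_quotient_add_finrank T
    have h2 : Module.finrank R T = 0 := by
      rw [Module.finrank_eq_zero_iff]
      exact fun x => ⟨ϖ ^ n, pow_ne_zero _ hϖ.ne_zero, hn x⟩
    omega
  refine ⟨by rw [hlen]; exact WithTop.add_ne_top.2 ⟨hfin₁, hfin₂⟩, ?_, ?_⟩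
  · rw [eK.length_eq]; exact length_submodule_ne_top hT
  · rw [nlen, hlen, ENat.toNat_add hfin₁ hfin₂]
    show nlen R _ + nlen R _ = _
    rw [hTT, ← nlen_congr eK, nlen_residueField_pi, hrank]

/-- The rank is the dimension after extending scalars to the fraction field. -/
theorem finrank_fractionRing_tensor (M : Type u) [AddCommGroup M] [Module R M] [Module.Finite R M] :
    Module.finrank (FractionRing R) (FractionRing R ⊗[R] M) = Module.finrank R M := by
  haveI : IsLocalizedModule (nonZeroDivisors R) ((TensorProduct.mk R (FractionRing R) M) 1) :=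
    (isLocalizedModule_iff_isBaseChange (nonZeroDivisors R) (FractionRing R) _).2
      (TensorProduct.isBaseChange R M (FractionRing R))
  rw [IsLocalization.finrank_eq (FractionRing R) (nonZeroDivisors R) le_rfl]
  exact IsLocalizedModule.finrank_eq (nonZeroDivisors R) ((TensorProduct.mk R (FractionRing R) M) 1) le_rfl

end Groth.Agent.ModX56
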