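import Groth.Agent.QCoh.ClosedPush
import Groth.Agent.QCoh.TensorUnit
import Groth.Agent.Lib.CurvePoint
import Groth.Agent.OmegaLib.IdealMod
import Groth.Prelude.Def_ClSub2

/-!
# The sequence `0 → i_* i^* I_D → O/(D · I_Z) → O/D → 0`
-/

set_option linter.style.haveILetI false
set_option backward.isDefEq.respectTransparency false
set_option backward.isDefEq.respectTransparency.types false

universe u

open CategoryTheory CategoryTheory.Limits AlgebraicGeometry TopologicalSpace Opposite

namespace Groth.Agent.ModX56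

open Groth.Agent

variable {X Z : Scheme.{u}}

theorem toSubscheme_app_eq_zero_iff (J : X.IdealSheafData) (U : X.affineOpens) (r : Γ(X, U.1)) :
    (ClSub.toSubscheme J).app U.1 r = 0 ↔ r ∈ J.ideal U := by
  rw [← J.ker_subschemeι_app U]
  exact Iff.rfl

theorem kerι_app_eq_idealSect (J : X.IdealSheafData) (U : X.Opens) (y : Γ(ClSub.idealMod J, U)) :
    (kernel.ι (ClSub.toSubscheme J)).app U y = OmegaSh.idealSect J U y := by
  rw [OmegaSh.idealSect_apply]
  rfl

theorem comp_toSubscheme_app (J : X.IdealSheafData) {M : X.Modules} (φ : M ⟶ Coh.structureModule X) (U : X.Opens)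
    (x : Γ(M, U)) : (φ ≫ ClSub.toSubscheme J).app U x = (ClSub.toSubscheme J).app U (φ.app U x) := rfl

/-- For a closed subscheme `Z` with ideal `E`, the kernel of `O/(D E) → O/D` is the restriction of `I_D` to `Z`. -/
theorem exists_shortExact_mul (D : X.IdealSheafData) (i : Z ⟶ X) [IsClosedImmersion i]
    (hD : Coh.IsQCoh (ClSub.idealMod D)) :
    ∃ (b : (Scheme.Modules.pushforward i).obj ((Scheme.Modules.pullback i).obj (ClSub.idealMod D)) ⟶
        ClSub.quotMod (D * i.ker)) (q : ClSub.quotMod (D * i.ker) ⟶ ClSub.quotMod D) (w : b ≫ q = 0),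
      (ShortComplex.mk b q w).ShortExact ∧ ClSub.toSubscheme (D * i.ker) ≫ q = ClSub.toSubscheme D := by
  set J := D * i.ker
  set η := (Scheme.Modules.pullbackPushforwardAdjunction i).unit.app (ClSub.idealMod D)
  have hJ : ∀ U : X.affineOpens, J.ideal U = D.ideal U * i.ker.ideal U := fun U => by
    show (D * i.ker).ideal U = _
    rw [Scheme.IdealSheafData.ideal_mul, Pi.mul_apply]
  haveI : Epi (ClSub.toSubscheme J) := CurvePoint.epi_toSubscheme J
  haveI : Epi (ClSub.toSubscheme D) := CurvePoint.epi_toSubscheme D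
  have hB := X.isBasis_affineOpens
  haveI : Epi η := Preadditive.epi_of_cancel_zero _ fun {T} g hg => by
    refine Scheme.Modules.hom_ext g 0 fun V => AddCommGrpCat.ext fun y => ?_
    refine (QCoh.eq_zero_of_locally V _ fun p hp => ?_).trans rfl
    obtain ⟨_, ⟨W, hW, rfl⟩, hpW, hWV⟩ := hB.exists_subset_of_mem_open (show p ∈ V from hp) V.isOpen
    refine ⟨W, homOfLE hWV, hpW, ?_⟩
    rw [← QCoh.map_app_comm]
    obtain ⟨r, hr⟩ := (QCoh.unit_app_closed i hD hW).1
      (((Scheme.Modules.pushforward i).obj ((Scheme.Modules.pullback i).obj (ClSub.idealMod D))).presheaf.map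
        (homOfLE hWV).op y)
    refine (congrArg (g.app W) hr.symm).trans ?_
    exact congr(($hg).app W r)
  -- the quotient map
  have hq : kernel.ι (ClSub.toSubscheme J) ≫ ClSub.toSubscheme D = 0 := by
    refine QCoh.hom_ext_app fun V y => ?_
    refine (QCoh.eq_zero_of_locally V _ fun p hp => ?_).trans rfl
    obtain ⟨_, ⟨W, hW, rfl⟩, hpW, hWV⟩ := hB.exists_subset_of_mem_open (show p ∈ V from hp) V.isOpen
    refine ⟨W, homOfLE hWV, hpW, ?_⟩
    rw [← QCoh.map_app_comm]
    have hm := OmegaLib.idealSect_mem J ⟨W, hW⟩ ((ClSub.idealMod J).presheaf.map (homOfLE hWV).op y)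
    rw [hJ] at hm
    rw [comp_toSubscheme_app, kerι_app_eq_idealSect]
    exact (toSubscheme_app_eq_zero_iff D ⟨W, hW⟩ _).2 (Ideal.mul_le_left hm)
  let q : ClSub.quotMod J ⟶ ClSub.quotMod D := Abelian.epiDesc (ClSub.toSubscheme J) (ClSub.toSubscheme D) hq
  have hqf : ClSub.toSubscheme J ≫ q = ClSub.toSubscheme D := Abelian.comp_epiDesc _ _ _
  -- the inclusion
  let a : ClSub.idealMod D ⟶ ClSub.quotMod J := ClSub.idealModι D ≫ ClSub.toSubscheme J
  have ha : ∀ (U : X.affineOpens) (x : Γ(ClSub.idealMod D, U.1)),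
      a.app U.1 x = (ClSub.toSubscheme J).app U.1 (OmegaSh.idealSect D U.1 x) := fun U x => by
    rw [comp_toSubscheme_app, ← kerι_app_eq_idealSect]
    rfl
  have hka : ∀ (U : X.affineOpens) (x : Γ(ClSub.idealMod D, U.1)), η.app U.1 x = 0 → a.app U.1 x = 0 := by
    intro U x hx
    rw [ha, toSubscheme_app_eq_zero_iff, hJ]
    have hx' := ((QCoh.unit_app_closed i hD U.2).2 x).1 hx
    clear hx
    induction hx' using Submodule.smul_induction_on' with
    | smul c hc z _ =>
      rw [OmegaLib.idealSect_smul, mul_comm]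
      exact Ideal.mul_mem_mul hc (OmegaLib.idealSect_mem D U z)
    | add z _ z' _ h h' => rw [map_add]; exact Ideal.add_mem _ h h'
  have ha0 : kernel.ι η ≫ a = 0 := by
    refine QCoh.hom_ext_app fun V y => ?_
    refine (QCoh.eq_zero_of_locally V _ fun p hp => ?_).trans rfl
    obtain ⟨_, ⟨W, hW, rfl⟩, hpW, hWV⟩ := hB.exists_subset_of_mem_open (show p ∈ V from hp) V.isOpen
    refine ⟨W, homOfLE hWV, hpW, ?_⟩
    rw [← QCoh.map_app_comm]
    exact hka ⟨W, hW⟩ _ congr(($(kernel.condition η)).app W ((kernel η).presheaf.map (homOfLE hWV).op y))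
  let b := Abelian.epiDesc η a ha0
  have hbf : η ≫ b = a := Abelian.comp_epiDesc _ _ _
  have hbη : ∀ (U : X.affineOpens) (x : Γ(ClSub.idealMod D, U.1)), b.app U.1 (η.app U.1 x) = a.app U.1 x :=
    fun U x => congr(($hbf).app U.1 x)
  have w : b ≫ q = 0 := by
    rw [← cancel_epi η, ← Category.assoc, hbf, comp_zero, Category.assoc, hqf]
    exact kernel.condition (ClSub.toSubscheme D)
  let c := kernel.lift q b w
  have hc : c ≫ kernel.ι q = b := kernel.lift_ι _ _ _
  haveI : IsIso c := QCoh.isIso_of_isBasis c hB fun U hU => by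
    have hsurj := (QCoh.unit_app_closed i hD hU).1
    refine ⟨(injective_iff_map_eq_zero _).2 fun y hy => ?_, fun y => ?_⟩
    · obtain ⟨x, rfl⟩ := hsurj y
      have h0 : a.app U x = 0 := by
        rw [← hbη ⟨U, hU⟩ x]
        exact (congr(($hc).app U (η.app U x)) : _).symm.trans
          ((congrArg ((kernel.ι q).app U) hy).trans (map_zero _))
      rw [ha ⟨U, hU⟩, toSubscheme_app_eq_zero_iff J ⟨U, hU⟩, hJ, mul_comm] at h0
      refine ((QCoh.unit_app_closed i hD hU).2 x).2 ?_
      have key : ∀ r ∈ i.ker.ideal ⟨U, hU⟩ * D.ideal ⟨U, hU⟩,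
          ∃ z ∈ i.ker.ideal ⟨U, hU⟩ • (⊤ : Submodule Γ(X, U) Γ(ClSub.idealMod D, U)),
            OmegaSh.idealSect D U z = r := by
        intro r hr
        induction hr using Submodule.mul_induction_on' with
        | mem_mul_mem s hs t ht =>
          obtain ⟨z, hz⟩ := OmegaLib.exists_of_mem D ⟨U, hU⟩ t ht
          exact ⟨s • z, Submodule.smul_mem_smul hs Submodule.mem_top, by rw [OmegaLib.idealSect_smul, hz]⟩
        | add r _ r' _ h h' =>
          obtain ⟨z, hz, rfl⟩ := h
          obtain ⟨z', hz', rfl⟩ := h'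
          exact ⟨z + z', add_mem hz hz', map_add _ _ _⟩
      obtain ⟨z, hz, hzx⟩ := key _ h0
      exact (OmegaLib.idealSect_injective D U hzx) ▸ hz
    · set y' := (kernel.ι q).app U y with hy'
      obtain ⟨r, hr⟩ := J.subschemeι_app_surjective ⟨U, hU⟩
        (show Γ(J.subscheme, J.subschemeι ⁻¹ᵁ U) from y')
      have hrD : r ∈ D.ideal ⟨U, hU⟩ := by
        rw [← toSubscheme_app_eq_zero_iff D ⟨U, hU⟩, ← hqf]
        show q.app U ((ClSub.toSubscheme J).app U r) = 0
        rw [show (ClSub.toSubscheme J).app U r = y' from hr]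
        exact congr(($(kernel.condition q)).app U y)
      obtain ⟨x, hx⟩ := OmegaLib.exists_of_mem D ⟨U, hU⟩ r hrD
      refine ⟨η.app U x, QCoh.app_injective (kernel.ι q) U ?_⟩
      refine (congr(($hc).app U (η.app U x)) : _).trans ?_
      rw [hbη ⟨U, hU⟩, ha ⟨U, hU⟩, hx]
      exact hr
  haveI : Epi q := epi_of_epi_fac hqf
  haveI : Mono b := hc ▸ inferInstance
  refine ⟨b, q, w, { exact := ?_ }, hqf⟩
  refine ShortComplex.exact_of_f_is_kernel _ ?_
  exact (kernelIsKernel q).ofIsoLimit (Fork.ext (asIso c) (by simpa using hc)).symm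

end Groth.Agent.ModX56
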