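import Groth.Agent.ArSurfX.InterSum
import Groth.Agent.ArSurfX.Form
import Groth.Agent.ArSurfX.Horiz
import Groth.Agent.BlowUpLib.Local
import Groth.Agent.CurveCohLib.Euler
import Groth.Agent.Snapper.DimVanish
import Groth.Agent.ModX56.DvrLen
import Groth.Agent.ModX56.MulSeq
import Groth.Agent.QCoh.ProperFinite
import Groth.Agent.S0002

/-!
# Euler characteristics over `R` of sheaves supported in the closed fibre
-/

universe u

set_option linter.style.haveILetI false
set_option backward.isDefEq.respectTransparency false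
set_option backward.isDefEq.respectTransparency.types false

open CategoryTheory CategoryTheory.Limits AlgebraicGeometry IsLocalRing

namespace Groth.Agent.ModX56

open Groth.Agent Groth.Agent.ArSurfX Groth.Agent.CurveCohLib

variable {R : Type u} [CommRing R] [IsDomain R] [IsDiscreteValuationRing R]
  {X : Over (Spec (CommRingCat.of R))}

/-- `length H⁰ − length H¹` over `R`. -/
noncomputable def chiR (F : X.left.Modules) : ℤ :=
  (Models.lengthH R X F 0 : ℤ) - (Models.lengthH R X F 1 : ℤ)

/-- Finite-length cohomology, vanishing in degree two. -/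
structure SmallCoh (F : X.left.Modules) : Prop where
  fin : ∀ n, Module.length R (Coh.HH X.left F n) ≠ ⊤
  vanish : Subsingleton (Coh.HH X.left F 2)

/-- Additivity. -/
theorem chiR_add {S : ShortComplex X.left.Modules} (hS : S.ShortExact) (h₁ : SmallCoh S.X₁)
    (h₂ : SmallCoh S.X₂) (h₃ : SmallCoh S.X₃) : chiR S.X₂ = chiR S.X₁ + chiR S.X₃ := by
  letI : X.left.Over (Spec (CommRingCat.of R)) := ⟨X.hom⟩
  let d : ℕ → ℕ := fun n => nlen R (LinearMap.ker (PnCoh.Finite.mapLin R S.f n))
  have key : ∀ n, nlen R (Coh.HH X.left S.X₁ n) + nlen R (Coh.HH X.left S.X₃ n) =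
      nlen R (Coh.HH X.left S.X₂ n) + d n + d (n + 1) := by
    intro n
    have e1 := nlen_ker_add_range (PnCoh.Finite.mapLin R S.f n) (h₁.fin n)
    have e2 := nlen_ker_add_range (PnCoh.Finite.mapLin R S.g n) (h₂.fin n)
    have e3 := nlen_ker_add_range (PnCoh.Finite.deltaLin R hS n) (h₃.fin n)
    rw [CurveCohLib.ker_mapLin_g R hS n] at e2
    rw [CurveCohLib.ker_deltaLin R hS n, ← CurveCohLib.ker_mapLin_f_succ R hS n] at e3
    simp only [d]
    omega
  have hd0 : d 0 = 0 := by
    haveI : Subsingleton (LinearMap.ker (PnCoh.Finite.mapLin R S.f 0)) := by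
      rw [LinearMap.ker_eq_bot.2 (CurveCohLib.mapLin_f_zero_injective R hS)]
      infer_instance
    simp [d, nlen, Module.length_eq_zero]
  have hd2 : d 2 = 0 := by
    haveI := h₁.vanish
    simp [d, nlen, Module.length_eq_zero]
  have k0 : nlen R (Coh.HH X.left S.X₁ 0) + nlen R (Coh.HH X.left S.X₃ 0) =
      nlen R (Coh.HH X.left S.X₂ 0) + d 0 + d 1 := key 0
  have k1 : nlen R (Coh.HH X.left S.X₁ 1) + nlen R (Coh.HH X.left S.X₃ 1) =
      nlen R (Coh.HH X.left S.X₂ 1) + d 1 + d 2 := key 1
  show (nlen R (Coh.HH X.left S.X₂ 0) : ℤ) - nlen R (Coh.HH X.left S.X₂ 1) =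
    ((nlen R (Coh.HH X.left S.X₁ 0) : ℤ) - nlen R (Coh.HH X.left S.X₁ 1)) +
      ((nlen R (Coh.HH X.left S.X₃ 0) : ℤ) - nlen R (Coh.HH X.left S.X₃ 1))
  rw [hd0] at k0
  rw [hd2] at k1
  omega

theorem toGlobal_comp_residue {Z : Scheme.{u}} (i : Z ⟶ X.left)
    (fZ : Z ⟶ Spec (CommRingCat.of (ResidueField R)))
    (hw : i ≫ X.hom = fZ ≫ Spec.map (CommRingCat.ofHom (residue R))) :
    Coh.toGlobal (i ≫ X.hom) = (Coh.toGlobal fZ).comp (residue R) := by
  rw [hw]
  refine RingHom.ext fun r => ?_
  show fZ.appTop ((Spec.map (CommRingCat.ofHom (residue R))).appTop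
      ((Scheme.ΓSpecIso (CommRingCat.of R)).inv r)) =
    fZ.appTop ((Scheme.ΓSpecIso (CommRingCat.of (ResidueField R))).inv (residue R r))
  exact congrArg fZ.appTop
    (ConcreteCategory.congr_hom (Scheme.ΓSpecIso_inv_naturality (CommRingCat.ofHom (residue R))) r).symm

section Push

variable [IsProper X.hom] {Z : Scheme.{u}} (i : Z ⟶ X.left) [IsClosedImmersion i]
  (fZ : Z ⟶ Spec (CommRingCat.of (ResidueField R)))
  (hw : i ≫ X.hom = fZ ≫ Spec.map (CommRingCat.ofHom (residue R)))

include hw

theorem isProper_toField : IsProper fZ := by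
  haveI : IsProper (fZ ≫ Spec.map (CommRingCat.ofHom (residue R))) := by
    rw [← hw]; infer_instance
  exact IsProper.of_comp _ (Spec.map (CommRingCat.ofHom (residue R)))

/-- Cohomology of a sheaf on a closed subscheme of the closed fibre has its dimension as length. -/
theorem lengthH_push {G : Z.Modules} (hG : Coh.IsCoh G) (n : ℕ) :
    Module.length R (Coh.HH X.left ((Scheme.Modules.pushforward i).obj G) n) =
      (Models.hRank (ResidueField R) Z fZ G n : ℕ) := by
  letI : Z.Over (Spec (CommRingCat.of (ResidueField R))) := ⟨fZ⟩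
  haveI : IsProper (Z ↘ Spec (CommRingCat.of (ResidueField R))) := isProper_toField i fZ hw
  haveI := S0002.result (ResidueField R) Z G hG n
  set M := Coh.HH Z G n
  letI iR : Module R M := QCoh.modHH (Coh.toGlobal (i ≫ X.hom)) _ n
  letI : Algebra R (ResidueField R) := (residue R).toAlgebra
  haveI : IsScalarTower R (ResidueField R) M := .of_algebraMap_smul fun r m => by
    show (Coh.toGlobal fZ (residue R r)) • m = Coh.toGlobal (i ≫ X.hom) r • m
    rw [toGlobal_comp_residue i fZ hw]; rfl
  letI := QCoh.modHH (Coh.toGlobal X.hom) ((Coh.push i).obj G) n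
  obtain ⟨e⟩ := QCoh.HH_push_linear i (Coh.toGlobal X.hom) (Coh.toGlobal (i ≫ X.hom)) (fun a => rfl) hG.1 n
  refine Eq.trans e.length_eq.symm ?_
  rw [Module.length_eq_of_surjective (R := ResidueField R) (S := R) residue_surjective, Module.length_eq_finrank]
  rfl

theorem smallCoh_push (hdim : topologicalKrullDim Z ≤ 1) {G : Z.Modules} (hG : Coh.IsCoh G) :
    SmallCoh (X := X) ((Scheme.Modules.pushforward i).obj G) := by
  refine ⟨fun n => by rw [lengthH_push i fZ hw hG n]; exact ENat.natCast_ne_top _, ?_⟩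
  rw [← Module.length_eq_zero_iff (R := R), lengthH_push i fZ hw hG 2, Nat.cast_eq_zero]
  letI : Z.Over (Spec (CommRingCat.of (ResidueField R))) := ⟨fZ⟩
  haveI : IsProper (Z ↘ Spec (CommRingCat.of (ResidueField R))) := isProper_toField i fZ hw
  haveI := CurveCohLib.isNoetherian_of_proper (k := ResidueField R) (X := Z)
  haveI : Z.IsSeparated := ⟨by
    rw [← terminal.comp_from (Z ↘ Spec (CommRingCat.of (ResidueField R)))]
    infer_instance⟩
  haveI := Snapper.subsingleton_HH_of_dim_le (d := 1) (by exact_mod_cast hdim) hG.1 (i := 2) (by omega)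
  exact Module.finrank_zero_of_subsingleton

theorem chiR_push {G : Z.Modules} (hG : Coh.IsCoh G) :
    chiR (X := X) ((Scheme.Modules.pushforward i).obj G) =
      (Models.hRank (ResidueField R) Z fZ G 0 : ℤ) - Models.hRank (ResidueField R) Z fZ G 1 := by
  have h : ∀ n, Models.lengthH R X ((Scheme.Modules.pushforward i).obj G) n =
      Models.hRank (ResidueField R) Z fZ G n := fun n => by
    rw [Models.lengthH, lengthH_push i fZ hw hG n, ENat.toNat_natCast]
  rw [chiR, h, h]

end Push

theorem isCoh_structureModule_of_noeth {Z : Scheme.{u}} [IsLocallyNoetherian Z] :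
    Coh.IsCoh (Coh.structureModule Z) :=
  QCoh.isCoh_structureModule'

theorem ker_Spec_residue :
    (Spec.map (CommRingCat.ofHom (residue R))).ker = BlowUpLib.centre (maximalIdeal R) := by
  rw [Scheme.ker_of_isAffine]
  congr 1
  ext x
  obtain ⟨r, rfl⟩ := (ConcreteCategory.bijective_of_isIso (Scheme.ΓSpecIso (CommRingCat.of R)).inv).2 x
  rw [RingHom.mem_ker, Ideal.mem_map_iff_of_surjective _
    (ConcreteCategory.bijective_of_isIso (Scheme.ΓSpecIso (CommRingCat.of R)).inv).2]
  have e : (Spec.map (CommRingCat.ofHom (residue R))).appTop ((Scheme.ΓSpecIso (CommRingCat.of R)).inv r) =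
      (Scheme.ΓSpecIso (CommRingCat.of (ResidueField R))).inv (residue R r) :=
    (ConcreteCategory.congr_hom (Scheme.ΓSpecIso_inv_naturality (CommRingCat.ofHom (residue R))) r).symm
  constructor
  · intro h
    refine ⟨r, (IsLocalRing.residue_eq_zero_iff _).1
      ((ConcreteCategory.bijective_of_isIso (Scheme.ΓSpecIso (CommRingCat.of (ResidueField R))).inv).1 ?_), rfl⟩
    rw [map_zero, ← e]
    exact h
  · rintro ⟨r', hr', he⟩
    obtain rfl := (ConcreteCategory.bijective_of_isIso (Scheme.ΓSpecIso (CommRingCat.of R)).inv).1 he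
    refine e.trans ?_
    rw [(IsLocalRing.residue_eq_zero_iff r').2 hr', map_zero]

/-- Subschemes of the closed fibre live over the residue field. -/
theorem exists_toField {D : X.left.IdealSheafData} (hle : Models.specialFibreIdeal R X ≤ D) :
    ∃ fD : D.subscheme ⟶ Spec (CommRingCat.of (ResidueField R)),
      D.subschemeι ≫ X.hom = fD ≫ Spec.map (CommRingCat.ofHom (residue R)) := by
  haveI : IsClosedImmersion (Spec.map (CommRingCat.ofHom (residue R))) :=
    IsClosedImmersion.spec_of_surjective _ residue_surjective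
  have h : (Spec.map (CommRingCat.ofHom (residue R))).ker ≤ (D.subschemeι ≫ X.hom).ker := by
    refine Scheme.IdealSheafData.le_map_iff_comap_le.2 ?_
    rw [ker_Spec_residue]
    exact hle
  exact ⟨IsClosedImmersion.lift _ _ h, (IsClosedImmersion.lift_fac _ _ h).symm⟩

namespace Surf

variable (hX : IsSurf X)
include hX

theorem dim_le_one {D : X.left.IdealSheafData} (hle : Models.specialFibreIdeal R X ≤ D) :
    topologicalKrullDim D.subscheme ≤ 1 := by
  letI := hX.isIntegral
  obtain ⟨fD, hfD⟩ := exists_toField hle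
  have hs : ∀ a : D.subscheme, X.hom.base (D.subschemeι a) = closedPoint R := fun a => by
    rw [← Scheme.Hom.comp_apply, hfD, Scheme.Hom.comp_apply]
    exact ArSurfX.base_residue _
  rw [topologicalKrullDim, Order.krullDim_eq_of_orderIso (irreducibleSetEquivPoints (α := D.subscheme)),
    show (1 : WithBot ℕ∞) = ((1 : ℕ) : WithBot ℕ∞) from rfl]
  refine iSup_le fun l => ?_
  refine Nat.cast_le.2 ?_
  by_contra hl
  rw [not_le] at hl
  have mono : ∀ a b : D.subscheme, a < b → D.subschemeι a < D.subschemeι b := fun a b hab => by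
    rw [lt_iff_le_not_ge] at hab ⊢
    exact ⟨hab.1.map D.subschemeι.continuous,
      fun h => hab.2 (D.subschemeι.isClosedEmbedding.isInducing.specializes_iff.1 h)⟩
  have h01 := l.step ⟨0, by omega⟩
  have h12 := l.step ⟨1, by omega⟩
  refine ArSurfX.not_four_chain hX.dim (mono _ _ h01) (mono _ _ h12)
    (ArSurfX.lt_of_specializes (genericPoint_specializes _) fun e => ?_)
  exact hX.genericPoint_notMem (e ▸ hs _)

theorem smallCoh_quotMod {D : X.left.IdealSheafData} (hle : Models.specialFibreIdeal R X ≤ D) :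
    SmallCoh (X := X) (ClSub.quotMod D) := by
  haveI := hX.isProper
  haveI := hX.isLocallyNoetherian
  obtain ⟨fD, hfD⟩ := exists_toField hle
  haveI : IsLocallyNoetherian D.subscheme := LocallyOfFiniteType.isLocallyNoetherian D.subschemeι
  exact smallCoh_push D.subschemeι fD hfD (dim_le_one hX hle) isCoh_structureModule_of_noeth

theorem isProper_curve' (Γ : ArSurf.VertComp R X) : IsProper Γ.curve.hom :=
  haveI := hX.isProper
  ArSurfX.isProper_curve Γ

/-- Adding a component. -/
theorem chiR_mul_ker (D : X.left.IdealSheafData) (Γ : ArSurf.VertComp R X)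
    (hD : BlowUp.IsEffCartierIdeal D) (hle : Models.specialFibreIdeal R X ≤ D * Γ.ι.ker) :
    chiR (X := X) (ClSub.quotMod (D * Γ.ι.ker)) - chiR (X := X) (ClSub.quotMod D) =
      ArSurf.inter R X (ClSub.idealMod D) Γ + ((Models.wdeg R X Γ : ℤ) - (Models.h1 R X Γ : ℤ)) := by
  haveI := hX.isProper
  haveI := hX.isLocallyNoetherian
  have hI := ArSurfX.isInvertible_idealMod hD
  obtain ⟨b, q, w, hS, -⟩ := exists_shortExact_mul D Γ.ι (ZeroSchX.isQCoh_inv hI)
  have hG : Coh.IsCoh ((Scheme.Modules.pullback Γ.ι).obj (ClSub.idealMod D)) :=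
    haveI : IsLocallyNoetherian Γ.curve.left := LocallyOfFiniteType.isLocallyNoetherian Γ.ι
    AmpleVan.isCoh_invertible (PicClLib.isInvertible_pullback Γ.ι hI)
  have hleD : Models.specialFibreIdeal R X ≤ D := hle.trans fun U => by
    rw [Scheme.IdealSheafData.ideal_mul, Pi.mul_apply]
    exact Ideal.mul_le_left
  have h := chiR_add hS (smallCoh_push Γ.ι Γ.curve.hom Γ.w Γ.dim_eq.le hG) (smallCoh_quotMod hX hle)
    (smallCoh_quotMod hX hleD)
  rw [chiR_push Γ.ι Γ.curve.hom Γ.w hG] at h
  have hval : (Models.hRank (ResidueField R) Γ.curve.left Γ.curve.hom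
        ((Scheme.Modules.pullback Γ.ι).obj (ClSub.idealMod D)) 0 : ℤ) -
      Models.hRank (ResidueField R) Γ.curve.left Γ.curve.hom
        ((Scheme.Modules.pullback Γ.ι).obj (ClSub.idealMod D)) 1 =
      ArSurf.inter R X (ClSub.idealMod D) Γ + ((Models.wdeg R X Γ : ℤ) - (Models.h1 R X Γ : ℤ)) := by
    simp only [ArSurf.inter, ArSurf.curveDeg, FGA.eulerCharLE, Finset.sum_range_succ, Finset.sum_range_zero,
      pow_zero, pow_one, one_mul, neg_one_mul, zero_add, Models.hRank, Models.wdeg, Models.h1]
    ring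
  rw [hval] at h
  simp only at h
  omega

theorem chiR_quotMod_one : chiR (X := X) (ClSub.quotMod (1 : X.left.IdealSheafData)) = 0 := by
  haveI := hX.isProper
  haveI hs : ∀ n, Subsingleton (Coh.HH X.left (ClSub.quotMod (1 : X.left.IdealSheafData)) n) := fun n => by
    haveI : IsEmpty (1 : X.left.IdealSheafData).subscheme := by
      rw [← not_nonempty_iff]
      rintro ⟨a⟩
      have := Set.mem_range_self (f := (1 : X.left.IdealSheafData).subschemeι) a
      rw [Scheme.IdealSheafData.range_subschemeι] at this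
      exact Set.notMem_empty _ ((show ((⊤ : X.left.IdealSheafData).support : Set X.left) = ∅ by simp) ▸
        (show _ ∈ ((⊤ : X.left.IdealSheafData).support : Set X.left) from this))
    obtain ⟨e⟩ := QCoh.HH_push_linear (1 : X.left.IdealSheafData).subschemeι (Coh.toGlobal X.hom)
      (Coh.toGlobal ((1 : X.left.IdealSheafData).subschemeι ≫ X.hom)) (fun a => rfl)
      (QCoh.isQCoh_structureModule (X := (1 : X.left.IdealSheafData).subscheme)) n
    haveI : Subsingleton (Coh.HH (1 : X.left.IdealSheafData).subscheme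
        (Coh.structureModule (1 : X.left.IdealSheafData).subscheme) n) := by
      haveI : IsAffine (1 : X.left.IdealSheafData).subscheme := isAffine_of_isEmpty
      rcases Nat.eq_zero_or_pos n with rfl | hn
      · haveI : Subsingleton Γ((1 : X.left.IdealSheafData).subscheme, ⊤) := by
          rw [show (⊤ : (1 : X.left.IdealSheafData).subscheme.Opens) = ⊥ from
            TopologicalSpace.Opens.ext (Set.ext fun z => isEmptyElim z)]
          infer_instance
        exact (Sheaf.H.equiv₀ (Coh.toAb (Coh.structureModule (1 : X.left.IdealSheafData).subscheme))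
          isTerminalTop).toEquiv.subsingleton_congr.2 ‹_›
      · haveI : IsLocallyNoetherian (1 : X.left.IdealSheafData).subscheme :=
          haveI := hX.isLocallyNoetherian
          LocallyOfFiniteType.isLocallyNoetherian (1 : X.left.IdealSheafData).subschemeι
        haveI : IsNoetherian (1 : X.left.IdealSheafData).subscheme := {}
        exact Snapper.subsingleton_HH_of_dim_le (d := 0)
          (by
            rw [topologicalKrullDim]
            exact iSup_le fun l => isEmptyElim (α := (1 : X.left.IdealSheafData).subscheme)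
              (l.head.isIrreducible.nonempty.some))
          QCoh.isQCoh_structureModule hn
    exact e.symm.toEquiv.subsingleton_congr.2 ‹_›
  simp [chiR, Models.lengthH, Module.length_eq_zero]

/-- The Euler characteristic of the divisor `∑ a_j Γ_j` inside the closed fibre, twice over. -/
theorem two_chiR_prod {n : ℕ} {Γc : Fin n → ArSurf.VertComp R X} (hΓ : Models.IsComponentList R X Γc)
    {L : Fin n → X.left.Modules} (hL : ∀ j, ClSub.IsInverseOf (L j) (ClSub.idealMod (Γc j).ι.ker)) :
    ∀ (a : Fin n → ℕ), (∀ j, a j ≤ Models.mult R X (Γc j)) →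
      2 * chiR (X := X) (ClSub.quotMod (∏ j, (Γc j).ι.ker ^ a j)) =
        ∑ j, (a j : ℤ) * (2 * ((Models.wdeg R X (Γc j) : ℤ) - Models.h1 R X (Γc j)) +
            ArSurf.inter R X (L j) (Γc j)) -
          ∑ i, ∑ j, ArSurf.inter R X (L j) (Γc i) * ((a i : ℤ) * a j) := by
  classical
  haveI := hX.isProper
  intro a
  induction hN : ∑ j, a j generalizing a with
  | zero =>
    intro _
    have ha : ∀ j, a j = 0 := fun j => by
      have := Finset.single_le_sum (f := a) (fun k _ => Nat.zero_le _) (Finset.mem_univ j)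
      omega
    simp only [ha, pow_zero, Finset.prod_const_one, Nat.cast_zero, zero_mul, Finset.sum_const_zero, mul_zero]
    rw [chiR_quotMod_one hX]
    simp
  | succ N ih =>
    intro ha
    obtain ⟨i, hi⟩ : ∃ i, 0 < a i := by
      by_contra h
      push Not at h
      have : ∑ j, a j = 0 := Finset.sum_eq_zero fun j _ => Nat.le_zero.1 (h j)
      omega
    let a' : Fin n → ℕ := Function.update a i (a i - 1)
    have ha' : ∀ j, a j = a' j + if j = i then 1 else 0 := fun j => by
      by_cases h : j = i
      · subst h; simp [a']; omega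
      · simp [a', h]
    have hsum : ∑ j, a' j = N := by
      have : ∑ j, a j = ∑ j, a' j + 1 := by
        rw [Finset.sum_congr rfl fun j _ => ha' j, Finset.sum_add_distrib, Finset.sum_ite_eq']
        simp
      omega
    have hle' : ∀ j, a' j ≤ Models.mult R X (Γc j) := fun j => le_trans (by have := ha' j; omega) (ha j)
    have h1 := ih a' hsum hle'
    have hD := ArSurfX.isEffCartier_prod Finset.univ (fun j => (Γc j).ι.ker ^ a' j)
      fun j _ => ArSurfX.isEffCartier_pow (hX.isEffCartier_ker (Γc j)) _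
    have hprod : ∏ j, (Γc j).ι.ker ^ a j = (∏ j, (Γc j).ι.ker ^ a' j) * (Γc i).ι.ker := by
      rw [Finset.prod_congr rfl fun j _ => by rw [ha' j, pow_add], Finset.prod_mul_distrib]
      congr 1
      rw [Finset.prod_eq_single_of_mem i (Finset.mem_univ i) fun j _ hj => by rw [if_neg hj, pow_zero]]
      simp
    have hle : Models.specialFibreIdeal R X ≤ ∏ j, (Γc j).ι.ker ^ a j := by
      rw [hX.specialFibreIdeal_eq_prod hΓ]
      intro U
      let φ : X.left.IdealSheafData →* Ideal Γ(X.left, U.1) :=
        { toFun := fun I => I.ideal U, map_one' := Ideal.one_eq_top.symm,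
          map_mul' := fun I J => by rw [Scheme.IdealSheafData.ideal_mul, Pi.mul_apply] }
      show φ _ ≤ φ _
      rw [map_prod, map_prod]
      refine Finset.prod_le_prod' fun j _ => ?_
      rw [map_pow, map_pow]
      exact Ideal.pow_le_pow_right (ha j)
    have h2 := chiR_mul_ker hX _ (Γc i) hD (hprod ▸ hle)
    rw [← hprod] at h2
    obtain ⟨M, hM, hMi, hMv⟩ := ArSurfX.exists_inverse_prod (Γc i) Finset.univ (fun j => (Γc j).ι.ker)
      (fun j => hX.isEffCartier_ker (Γc j)) L hL a'
    rw [ArSurfX.inter_inverse (Γc i) (ArSurfX.isInvertible_idealMod hD) hMi] at hMv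
    have hcast : ∀ j, (a j : ℤ) = a' j + if j = i then 1 else 0 := fun j => by
      rw [ha' j]; split_ifs <;> simp
    set A : Fin n → Fin n → ℤ := fun p q => ArSurf.inter R X (L q) (Γc p)
    have hsymm : ∀ p q, A p q = A q p := fun p q => hX.inter_components_symm hΓ hL p q
    have e1 : ∑ j, (a j : ℤ) * (2 * ((Models.wdeg R X (Γc j) : ℤ) - Models.h1 R X (Γc j)) + A j j) =
        (∑ j, (a' j : ℤ) * (2 * ((Models.wdeg R X (Γc j) : ℤ) - Models.h1 R X (Γc j)) + A j j)) +
          (2 * ((Models.wdeg R X (Γc i) : ℤ) - Models.h1 R X (Γc i)) + A i i) := by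
      simp only [hcast, add_mul, ite_mul, one_mul, zero_mul, Finset.sum_add_distrib,
        Finset.sum_ite_eq', Finset.mem_univ, if_true]
    have e2 : ∑ p, ∑ q, A p q * ((a p : ℤ) * a q) =
        (∑ p, ∑ q, A p q * ((a' p : ℤ) * a' q)) + 2 * (∑ q, (a' q : ℤ) * A i q) + A i i := by
      simp only [hcast, add_mul, mul_add, mul_ite, ite_mul, one_mul, mul_one, zero_mul, mul_zero,
        Finset.sum_add_distrib, Finset.sum_ite_eq', Finset.mem_univ, if_true, Finset.sum_ite_irrel,
        Finset.sum_const_zero]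
      have : ∑ p, A p i * (a' p : ℤ) = ∑ q, (a' q : ℤ) * A i q :=
        Finset.sum_congr rfl fun p _ => by rw [hsymm p i, mul_comm]
      have : ∑ q, A i q * (a' q : ℤ) = ∑ q, (a' q : ℤ) * A i q :=
        Finset.sum_congr rfl fun p _ => mul_comm _ _
      linarith
    have e3 : ArSurf.inter R X (ClSub.idealMod (∏ j, (Γc j).ι.ker ^ a' j)) (Γc i) =
        -∑ q, (a' q : ℤ) * A i q := by
      simp only [A]
      linarith
    change 2 * _ = ∑ j, (a j : ℤ) * (_ + A j j) - ∑ p, ∑ q, A p q * ((a p : ℤ) * a q)
    rw [e1, e2]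
    rw [e3] at h2
    linarith

end Surf

end Groth.Agent.ModX56
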