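import Groth.Agent.ModX56.DualTorsion
import Groth.Agent.Coh32.ExtendHom
import Groth.Agent.KFlatLib.Perfect.Spread

/-!
# A dualizing pair on a proper curve over a DVR is determined off finitely many closed points
-/

set_option linter.style.haveILetI false
set_option backward.isDefEq.respectTransparency false
set_option backward.isDefEq.respectTransparency.types false

universe u

open CategoryTheory CategoryTheory.Limits AlgebraicGeometry TopologicalSpace Opposite

namespace Groth.Agent.ModX56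

open Groth.Agent

variable {X : Scheme.{u}}

theorem bijective_app_of_isIso_restrict {M N : X.Modules} (φ : M ⟶ N) {V O : X.Opens} (hO : O ≤ V)
    (h : IsIso ((Scheme.Modules.restrictFunctor V.ι).map φ)) : Function.Bijective (φ.app O) := by
  obtain ⟨A, rfl⟩ : ∃ A, V.ι ''ᵁ A = O := ⟨V.ι ⁻¹ᵁ O, by
    rw [Scheme.Hom.image_preimage_eq_opensRange_inf, Scheme.Opens.opensRange_ι, inf_eq_right.2 hO]⟩
  have := (Scheme.Modules.Hom.isIso_iff_isIso_app.1 h) A
  exact (ConcreteCategory.isIso_iff_bijective _).1 this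

/-- The kernel inclusion is an isomorphism where the map vanishes. -/
theorem isIso_restrict_kernel {M N : X.Modules} (κ : M ⟶ N) (V : X.Opens)
    (h : ∀ O, O ≤ V → ∀ y : Γ(M, O), κ.app O y = 0) :
    IsIso ((Scheme.Modules.restrictFunctor V.ι).map (kernel.ι κ)) := by
  let P := Scheme.Modules.restrictFunctor V.ι
  have hκ : P.map κ = 0 := Scheme.Modules.hom_ext _ _ fun A => AddCommGrpCat.ext fun y =>
    h (V.ι ''ᵁ A) (V.ι_image_le A) y
  haveI : Mono (P.map (kernel.ι κ)) := inferInstance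
  haveI : Epi (P.map (kernel.ι κ)) :=
    ((ShortComplex.exact_of_f_is_kernel (ShortComplex.mk _ κ (kernel.condition κ))
      (kernelIsKernel κ)).map P).epi_f hκ
  exact isIso_of_mono_of_epi _

/-- A section over an open gives a morphism from the structure sheaf there. -/
theorem exists_hom_of_section (M : X.Modules) (V : X.Opens) (s : Γ(M, V)) :
    ∃ φ : (Scheme.Modules.restrictFunctor V.ι).obj (Coh.structureModule X) ⟶
        (Scheme.Modules.restrictFunctor V.ι).obj M,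
      ∀ (A : (V : Scheme.{u}).Opens) (x : Γ(X, V.ι ''ᵁ A)),
        φ.app A x = HSMul.hSMul (α := Γ(X, V.ι ''ᵁ A)) (β := Γ(M, V.ι ''ᵁ A)) (γ := Γ(M, V.ι ''ᵁ A)) x
          (M.presheaf.map (homOfLE (V.ι_image_le A)).op s) := by
  let s' : Γ((Scheme.Modules.restrictFunctor V.ι).obj M, ⊤) :=
    M.presheaf.map (homOfLE (V.ι_image_le ⊤)).op s
  refine ⟨(Scheme.Modules.restrictUnitIso V.ι).hom ≫ QCoh.homOfTop s', fun A x => ?_⟩
  refine (QCoh.homOfTop_app s' ((V.ι.appIso A).hom x)).trans ?_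
  show HSMul.hSMul (α := Γ(X, V.ι ''ᵁ A)) (β := Γ(M, V.ι ''ᵁ A)) (γ := Γ(M, V.ι ''ᵁ A))
      ((V.ι.appIso A).inv ((V.ι.appIso A).hom x))
      (M.presheaf.map ((V.ι.opensFunctor.map (homOfLE (le_top (a := A)))).op)
        (M.presheaf.map (homOfLE (V.ι_image_le ⊤)).op s)) = _
  rw [Iso.hom_inv_id_apply, ← CategoryTheory.comp_apply, ← Functor.map_comp]
  rfl

variable [IsNoetherian X]

/-- Enlarging a submodule over an open. -/
theorem exists_filler {A F : X.Modules} (ι : A ⟶ F) [Mono ι] (hA : Coh.IsQCoh A) (hF : Coh.IsQCoh F)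
    (U' V : X.Opens) (h : ∀ x ∈ V ⊓ U', IsIso ((DerSch.stalkFunctor X x).map ι)) :
    ∃ (K : X.Modules) (j : K ⟶ F) (l : A ⟶ K), Coh.IsQCoh K ∧ Mono l ∧ l ≫ j = ι ∧
      (∀ x ∈ U', IsIso ((DerSch.stalkFunctor X x).map l)) ∧
      ∀ O, O ≤ V → Function.Bijective (j.app O) := by
  haveI : QuasiCompact U'.ι := QCoh.quasiCompact_ι_of_noetherian Coh32.noetherian_nhds_of U'
  have hQ : Coh.IsQCoh (cokernel ι) := QCoh.isQCoh_cokernel hA hF ι
  let η := KFlatLib.unitW U' (cokernel ι)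
  have hH : Coh.IsQCoh ((Scheme.Modules.pushforward U'.ι).obj ((cokernel ι).restrict U'.ι)) :=
    QCoh.isQCoh_pushforward U'.ι (QCoh.isQCoh_restrict U'.ι hQ)
  let κ := cokernel.π ι ≫ η
  have hl : ι ≫ κ = 0 := by rw [← Category.assoc, cokernel.condition, zero_comp]
  refine ⟨kernel κ, kernel.ι κ, kernel.lift κ ι hl, QCoh.isQCoh_kernel hF hH κ,
    mono_of_mono_fac (kernel.lift_ι κ ι hl), kernel.lift_ι κ ι hl, fun x hx => ?_, fun O hO => ?_⟩
  · let S := DerSch.stalkFunctor X x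
    haveI : IsIso (S.map η) := KFlatLib.isIso_stalk_unitW hx _
    have hz : S.map (kernel.ι κ) ≫ S.map (cokernel.π ι) = 0 := by
      rw [← cancel_mono (S.map η), zero_comp, Category.assoc, ← S.map_comp, ← S.map_comp,
        kernel.condition, S.map_zero]
    have hex := ((ShortComplex.exact_of_g_is_cokernel
      (ShortComplex.mk ι (cokernel.π ι) (cokernel.condition ι)) (cokernelIsCokernel _)).map S)
    haveI : Mono (((ShortComplex.mk ι (cokernel.π ι) (cokernel.condition ι)).map S).f) :=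
      (inferInstance : Mono (S.map ι))
    obtain ⟨m, hm⟩ := hex.lift' (S.map (kernel.ι κ)) hz
    have hm' : m ≫ S.map ι = S.map (kernel.ι κ) := hm
    have h2 : S.map (kernel.lift κ ι hl) ≫ S.map (kernel.ι κ) = S.map ι := by
      rw [← S.map_comp, kernel.lift_ι]
    refine ⟨⟨m, ?_, ?_⟩⟩
    · rw [← cancel_mono (S.map ι), Category.assoc, hm', h2, Category.id_comp]
    · rw [← cancel_mono (S.map (kernel.ι κ)), Category.assoc, h2, hm', Category.id_comp]
  · refine bijective_app_of_isIso_restrict _ hO (isIso_restrict_kernel κ V fun O' hO' y => ?_)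
    haveI : Subsingleton Γ(cokernel ι, U'.ι ''ᵁ (U'.ι ⁻¹ᵁ O')) :=
      subsingleton_sections_of_stalks fun x hx => by
        rw [Scheme.Hom.image_preimage_eq_opensRange_inf, Scheme.Opens.opensRange_ι] at hx
        haveI := h x ⟨hO' hx.2, hx.1⟩
        exact subsingleton_stalk_cokernel ι x inferInstance
    exact (Subsingleton.elim (α := Γ(cokernel ι, U'.ι ''ᵁ (U'.ι ⁻¹ᵁ O'))) _ _)

variable {R : Type u} [CommRing R] [IsDomain R] [IsDiscreteValuationRing R]
  [X.Over (Spec (CommRingCat.of R))] [IsProper (X ↘ Spec (CommRingCat.of R))]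

/-- Restriction of a dualizing sheaf to the complement of finitely many closed points is bijective. -/
theorem bijective_restrict_dualizing {ω : X.Modules} {tr : Coh.HH X ω 1 →ₗ[R] R}
    (hω : Canon.IsRDualOver R X 1 ω tr) (U : X.Opens) (hfin : ((U : Set X)ᶜ).Finite)
    (hcl : ∀ x : X, x ∉ U → IsClosed ({x} : Set X)) (V : X.Opens) :
    Function.Bijective (ω.presheaf.map (homOfLE (inf_le_left : V ⊓ U ≤ V)).op).hom := by
  let T : Set X := (V : Set X) \ U
  have hTfin : T.Finite := hfin.subset fun x hx => hx.2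
  have hTcl : ∀ x ∈ T, IsClosed ({x} : Set X) := fun x hx => hcl x hx.2
  have hTc : IsClosed T := by
    have := hTfin.isClosed_biUnion (f := fun y => ({y} : Set X)) hTcl
    rwa [Set.biUnion_of_singleton] at this
  let U' : X.Opens := ⟨Tᶜ, hTc.isOpen_compl⟩
  have hmem : ∀ x ∈ V ⊓ U', x ∈ V ⊓ U := fun x hx => ⟨hx.1, not_not.1 fun h => hx.2 ⟨hx.1, h⟩⟩
  have hext : ∀ {A F : X.Modules} (ι : A ⟶ F) [Mono ι], Coh.IsQCoh A → Coh.IsQCoh F →
      (∀ x ∈ V ⊓ U, IsIso ((DerSch.stalkFunctor X x).map ι)) →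
      ∃ (K : X.Modules) (j : K ⟶ F) (l : A ⟶ K), l ≫ j = ι ∧ (∀ O, O ≤ V → Function.Bijective (j.app O)) ∧
        Function.Bijective fun φ : K ⟶ ω => l ≫ φ := by
    intro A F ι _ hA hF h
    obtain ⟨K, j, l, hK, hlm, hlj, hliso, hj⟩ := exists_filler ι hA hF U' V fun x hx => h x (hmem x hx)
    haveI := hlm
    exact ⟨K, j, l, hlj, hj, bijective_comp_of_finite hω hA hK l (QCoh.isQCoh_cokernel hA hK l)
      hTfin hTcl fun x hx => hliso x hx⟩
  have hO : Coh.IsCoh (Coh.structureModule X) := QCoh.isCoh_structureModule'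
  have hdata : ∀ (W : X.Opens) (s : Γ(ω, W)), ∃ (F' : X.Modules) (ι : F' ⟶ Coh.structureModule X)
      (φ' : F' ⟶ ω), Mono ι ∧ Coh.IsQCoh F' ∧ (∀ x ∈ W, IsIso ((DerSch.stalkFunctor X x).map ι)) ∧
      (∀ O, O ≤ W → Function.Bijective (ι.app O)) ∧
      ∀ O, ∀ (h : O ≤ W) (y : Γ(F', O)),
        φ'.app O y = HSMul.hSMul (α := Γ(X, O)) (β := Γ(ω, O)) (γ := Γ(ω, O)) (ι.app O y)
          (ω.presheaf.map (homOfLE h).op s) := by
    intro W s
    obtain ⟨φ, hφ⟩ := exists_hom_of_section ω W s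
    obtain ⟨F', ι, φ', hm, hF', hiso, hφ'⟩ := Coh32.exists_extend_hom_qcoh hO hω.1 W φ
    refine ⟨F', ι, φ', hm, hF'.1, fun x hx => KFlatLib.isIso_stalk_of_restrict ι hx hiso,
      fun O h => bijective_app_of_isIso_restrict ι h hiso, fun O h y => ?_⟩
    obtain ⟨A, rfl⟩ : ∃ A, W.ι ''ᵁ A = O := ⟨W.ι ⁻¹ᵁ O, by
      rw [Scheme.Hom.image_preimage_eq_opensRange_inf, Scheme.Opens.opensRange_ι, inf_eq_right.2 h]⟩
    refine (ConcreteCategory.congr_hom (congrArg (fun m => Scheme.Modules.Hom.app m A) hφ') y).trans ?_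
    exact hφ A (ι.app (W.ι ''ᵁ A) y)
  refine ⟨(injective_iff_map_eq_zero _).2 fun t ht => ?_, fun s => ?_⟩
  · obtain ⟨F', ι, φ', hm, hF', -, hbij, hφ'⟩ := hdata V t
    obtain ⟨K, j, l, hlj, hj, hb⟩ := hext (kernel.ι φ') (QCoh.isQCoh_kernel hF' hω.1 φ') hF'
      fun x hx => KFlatLib.isIso_stalk_of_restrict _ hx (isIso_restrict_kernel φ' _ fun O hO' y => by
        rw [hφ' O (hO'.trans inf_le_left) y,
          show homOfLE (hO'.trans inf_le_left) = homOfLE hO' ≫ homOfLE (inf_le_left : V ⊓ U ≤ V) from rfl,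
          op_comp, Functor.map_comp, CategoryTheory.comp_apply]
        erw [ht]
        rw [map_zero, smul_zero])
    have hψ : j ≫ φ' = 0 := hb.1 (by
      show l ≫ j ≫ φ' = l ≫ 0
      rw [← Category.assoc, hlj, kernel.condition, comp_zero])
    obtain ⟨y, hy⟩ := (hbij V le_rfl).2 (1 : Γ(X, V))
    obtain ⟨z, rfl⟩ := (hj V le_rfl).2 y
    have h1 : φ'.app V (j.app V z) = 0 :=
      ConcreteCategory.congr_hom (congrArg (fun m => Scheme.Modules.Hom.app m V) hψ) z
    rw [hφ' V le_rfl] at h1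
    erw [hy] at h1
    rw [one_smul, show (homOfLE (le_refl V)).op = 𝟙 (op V) from rfl,
      CategoryTheory.Functor.map_id] at h1
    exact h1
  · obtain ⟨F', ι, φ', hm, hF', hst, hbij, hφ'⟩ := hdata (V ⊓ U) s
    obtain ⟨K, j, l, hlj, hj, hb⟩ := hext ι hF' hO.1 hst
    obtain ⟨ψ, hψ⟩ := hb.2 φ'
    obtain ⟨z, hz⟩ := (hj V le_rfl).2 (1 : Γ(X, V))
    obtain ⟨y, hy⟩ := (hbij (V ⊓ U) le_rfl).2 (1 : Γ(X, V ⊓ U))
    refine ⟨ψ.app V z, ?_⟩
    show ω.presheaf.map (homOfLE (inf_le_left : V ⊓ U ≤ V)).op (ψ.app V z) = s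
    have hzy : K.presheaf.map (homOfLE (inf_le_left : V ⊓ U ≤ V)).op z = l.app (V ⊓ U) y := by
      refine (hj (V ⊓ U) inf_le_left).1 ?_
      rw [QCoh.map_app_comm, hz,
        show j.app (V ⊓ U) (l.app (V ⊓ U) y) = (l ≫ j).app (V ⊓ U) y from rfl, hlj, hy]
      exact map_one (X.presheaf.map (homOfLE (inf_le_left : V ⊓ U ≤ V)).op).hom
    rw [← QCoh.map_app_comm, hzy,
      show ψ.app (V ⊓ U) (l.app (V ⊓ U) y) = (l ≫ ψ).app (V ⊓ U) y from rfl,
      show l ≫ ψ = φ' from hψ, hφ' _ le_rfl y]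
    erw [hy]
    rw [one_smul, show (homOfLE (le_refl (V ⊓ U))).op = 𝟙 (op (V ⊓ U)) from rfl,
      CategoryTheory.Functor.map_id]
    rfl

end Groth.Agent.ModX56
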