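import Groth.Agent.Lib.CurveVanish
import Groth.Agent.PnCoh.Finite.HHLin
import Groth.Agent.KFlatLib.Scheme.Exact
import Groth.Agent.QCoh.Qcqs
import Groth.Prelude.Def_Canon
import Mathlib.RingTheory.DiscreteValuationRing.Basic

/-!
# A dualizing pair on a proper curve over a DVR does not see finite sets of closed points
-/

set_option linter.style.haveILetI false
set_option backward.isDefEq.respectTransparency false
set_option backward.isDefEq.respectTransparency.types false

universe u

open CategoryTheory CategoryTheory.Limits CategoryTheory.Abelian AlgebraicGeometry TopologicalSpace Opposite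

namespace Groth.Agent.ModX56

open Groth.Agent

variable {X : Scheme.{u}}

/-- A section of a module whose stalks vanish on an open is zero there. -/
theorem subsingleton_sections_of_stalks {M : X.Modules} {W : X.Opens}
    (h : ∀ x ∈ W, Subsingleton (M.presheaf.stalk x)) : Subsingleton Γ(M, W) := by
  refine subsingleton_of_forall_eq 0 fun s => ?_
  refine QCoh.eq_zero_of_locally W s fun x hx => ?_
  haveI := h x hx
  obtain ⟨V, hxV, i, j, hij⟩ := M.presheaf.germ_eq x hx hx s 0 (Subsingleton.elim _ _)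
  exact ⟨V, i, hxV, hij.trans (map_zero _)⟩

/-- The cokernel of a map which is an isomorphism on a stalk vanishes there. -/
theorem subsingleton_stalk_cokernel {G F : X.Modules} (ι : G ⟶ F) (x : X)
    (h : Epi ((DerSch.stalkFunctor X x).map ι)) : Subsingleton ((cokernel ι).presheaf.stalk x) :=
  ModuleCat.subsingleton_of_isZero ((isZero_cokernel_of_epi ((DerSch.stalkFunctor X x).map ι)).of_iso
    (PreservesCokernel.iso (DerSch.stalkFunctor X x) ι))

variable {R : Type u} [CommRing R] [IsDomain R] [IsDiscreteValuationRing R]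
  [X.Over (Spec (CommRingCat.of R))]

/-- A global section supported on finitely many closed points is torsion. -/
theorem exists_ne_zero_smul_eq_zero [IsProper (X ↘ Spec (CommRingCat.of R))] {Q : X.Modules}
    (hQ : Coh.IsQCoh Q) {T : Set X} (hcl : ∀ x ∈ T, IsClosed ({x} : Set X))
    (h0 : ∀ x, x ∉ T → Subsingleton (Q.presheaf.stalk x)) (z : Coh.HH X Q 0) :
    ∃ a : R, a ≠ 0 ∧ a • z = 0 := by
  obtain ⟨π, hπ⟩ := IsDiscreteValuationRing.exists_irreducible R
  haveI : CompactSpace X := (quasiCompact_iff_compactSpace (X ↘ Spec (CommRingCat.of R))).mp inferInstance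
  let p := X ↘ Spec (CommRingCat.of R)
  let f : Γ(X, ⊤) := Coh.toGlobal p π
  let e : Coh.HH X Q 0 ≃+ Γ(Q, ⊤) := Sheaf.H.equiv₀ (Coh.toAb Q) isTerminalTop
  have he : ∀ (r : Coh.Γtop X) (x : Coh.HH X Q 0), e (r • x) = (show Γ(X, ⊤) from r) • e x := fun r x => by
    refine (show e (r • x) = _ from
      (Sheaf.H.equiv₀_naturality isTerminalTop (Coh.smulAb Q r) x).symm).trans ?_
    refine (Coh.smulAb_app _ _ _ _).trans ?_
    refine congrArg (fun c : Γ(X, ⊤) => c • e x) ?_
    show (X.presheaf.map (homOfLE le_top).op).hom r = r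
    rw [show (homOfLE le_top).op = 𝟙 (Opposite.op (⊤ : X.Opens)) from rfl, X.presheaf.map_id]
    rfl
  have hT : ∀ x ∈ T, x ∉ X.basicOpen f := fun x hx hb => by
    have hc : IsClosed ({p x} : Set _) := by
      simpa using (Scheme.Hom.isClosedMap p) _ (hcl x hx)
    have hpx : p x = IsLocalRing.closedPoint R := by
      have hs : IsLocalRing.closedPoint R ∈ closure ({p x} : Set (Spec (CommRingCat.of R))) :=
        (IsLocalRing.specializes_closedPoint (p x)).mem_closure
      rw [hc.closure_eq] at hs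
      exact hs.symm
    have hmem : p x ∈ (Spec (CommRingCat.of R)).basicOpen ((Scheme.ΓSpecIso (CommRingCat.of R)).inv π) := by
      change p x ∈ _
      have hb' : x ∈ p ⁻¹ᵁ (Spec (CommRingCat.of R)).basicOpen ((Scheme.ΓSpecIso (CommRingCat.of R)).inv π) := by
        rw [Scheme.preimage_basicOpen_top]
        exact hb
      exact hb'
    rw [basicOpen_eq_of_affine', Iso.inv_hom_id_apply, hpx] at hmem
    exact hmem ((IsLocalRing.mem_maximalIdeal π).2 hπ.not_isUnit)
  haveI := subsingleton_sections_of_stalks (M := Q) (W := X.basicOpen f) fun x hx => h0 x fun h => hT x h hx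
  obtain ⟨n, hn⟩ := QCoh.exists_pow_smul_eq_zero_of_isCompact hQ (W := ⊤)
    (by simpa using isCompact_univ) f (e z) (Subsingleton.elim _ _)
  refine ⟨π ^ n, pow_ne_zero _ hπ.ne_zero, e.injective ?_⟩
  rw [map_zero]
  refine (he (Coh.toGlobal p (π ^ n)) z).trans ?_
  refine Eq.trans ?_ hn
  exact congrArg (fun c : Γ(X, ⊤) => c • e z) (map_pow (show R →+* Γ(X, ⊤) from Coh.toGlobal p) π n)

/-- Maps into a dualizing sheaf extend uniquely over finitely many closed points. -/
theorem bijective_comp_of_finite [IsProper (X ↘ Spec (CommRingCat.of R))]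
    {ω : X.Modules} {tr : Coh.HH X ω 1 →ₗ[R] R} (hω : Canon.IsRDualOver R X 1 ω tr)
    {G F : X.Modules} (hG : Coh.IsQCoh G) (hF : Coh.IsQCoh F) (ι : G ⟶ F) [Mono ι]
    (hQ : Coh.IsQCoh (cokernel ι)) {T : Set X} (hT : T.Finite) (hcl : ∀ x ∈ T, IsClosed ({x} : Set X))
    (h0 : ∀ x, x ∉ T → IsIso ((DerSch.stalkFunctor X x).map ι)) :
    Function.Bijective fun φ : F ⟶ ω => ι ≫ φ := by
  have h0' : ∀ x, x ∉ T → Subsingleton ((cokernel ι).presheaf.stalk x) := fun x hx => by
    haveI := h0 x hx
    exact subsingleton_stalk_cokernel ι x inferInstance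
  let S := ShortComplex.mk ι (cokernel.π ι) (cokernel.condition ι)
  have hS : S.ShortExact := { exact := ShortComplex.exact_of_g_is_cokernel _ (cokernelIsCokernel _) }
  have h1 : Subsingleton (Coh.HH X S.X₃ 1) := CurveVanish.subsingleton_HH_of_finite hT hcl h0' 0
  have hT' : (S.map (QCoh.toAbFunctor X)).ShortExact := QCoh.toAb_shortExact hS
  let a : Coh.HH X G 1 →ₗ[R] Coh.HH X F 1 := PnCoh.Finite.mapLin R ι 1
  have hsurj : Function.Surjective a := fun y => by
    obtain ⟨x, hx⟩ := Ext.covariant_sequence_exact₂ _ hT' y (h1.elim _ _)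
    exact ⟨x, hx⟩
  have hcomp : ∀ φ : F ⟶ ω, Canon.dualityMap R X 1 ω tr G (ι ≫ φ) =
      Canon.dualityMap R X 1 ω tr F φ ∘ₗ a := fun φ => by
    refine LinearMap.ext fun x => ?_
    show tr (Sheaf.H.map _ 1 x) = tr (Sheaf.H.map _ 1 (Sheaf.H.map _ 1 x))
    rw [← Sheaf.H.map_comp_apply]
    exact congrArg (fun m => tr (Sheaf.H.map m 1 x)) (Functor.map_comp _ ι φ)
  refine ⟨fun φ ψ h => (hω.2 F hF).1 (LinearMap.ext fun y => ?_), fun φ => ?_⟩
  · obtain ⟨x, rfl⟩ := hsurj y
    have := congrArg (fun χ => Canon.dualityMap R X 1 ω tr G χ x) h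
    simpa only [hcomp, LinearMap.comp_apply] using this
  let l := Canon.dualityMap R X 1 ω tr G φ
  have hker : LinearMap.ker a ≤ LinearMap.ker l := fun x hx => by
    obtain ⟨z, hz⟩ := Ext.covariant_sequence_exact₁ _ hT' x hx (zero_add 1)
    obtain ⟨r, hr, hrz⟩ := exists_ne_zero_smul_eq_zero (R := R) hQ hcl h0' z
    have hz' : PnCoh.Finite.deltaLin R hS 0 z = x := hz
    have h3 : r • l x = 0 := by
      rw [← map_smul, ← hz', ← map_smul, hrz, map_zero, map_zero]
    exact LinearMap.mem_ker.2 ((smul_eq_zero.1 h3).resolve_left hr)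
  obtain ⟨m, hm⟩ : ∃ m : Coh.HH X F 1 →ₗ[R] R, m ∘ₗ a = l :=
    ⟨((LinearMap.ker a).liftQ l hker) ∘ₗ (a.quotKerEquivOfSurjective hsurj).symm.toLinearMap,
      LinearMap.ext fun x => by
        have : (a.quotKerEquivOfSurjective hsurj).symm (a x) = Submodule.Quotient.mk x :=
          (LinearEquiv.symm_apply_eq _).2 rfl
        simp [this]⟩
  obtain ⟨ψ, hψ⟩ := (hω.2 F hF).2 m
  exact ⟨ψ, (hω.2 G hG).1 (by rw [hcomp, hψ, hm])⟩

end Groth.Agent.ModX56
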