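import Groth.Agent.ModX56.Wdeg
import Groth.Agent.CurveEmbed.P1
import Groth.Agent.CurveEmbed.Line
import Groth.Agent.CurveBC.Coh

/-!
# Exceptional curves in a regular arithmetic surface
-/

universe u

set_option linter.style.haveILetI false
set_option backward.isDefEq.respectTransparency false
set_option backward.isDefEq.respectTransparency.types false

open CategoryTheory CategoryTheory.Limits AlgebraicGeometry IsLocalRing

namespace Groth.Agent.ModX56

open Groth.Agent

/-- Change of the ground field along a factorization of the constants. -/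
theorem hRank_restrict {k₀ K : Type u} [Field k₀] [Field K] {Y : Scheme.{u}}
    (f₀ : Y ⟶ Spec (CommRingCat.of k₀)) (fK : Y ⟶ Spec (CommRingCat.of K)) (φ : k₀ →+* K)
    (h : Coh.toGlobal f₀ = (Coh.toGlobal fK).comp φ) (M : Y.Modules) (n : ℕ) :
    Models.hRank k₀ Y f₀ M n = Models.homDegree φ * Models.hRank K Y fK M n := by
  letI : Algebra k₀ K := φ.toAlgebra
  let H := Coh.HH Y M n
  letI i₀ : Module k₀ H := letI : Y.Over (Spec (CommRingCat.of k₀)) := ⟨f₀⟩; inferInstance
  letI iK : Module K H := letI : Y.Over (Spec (CommRingCat.of K)) := ⟨fK⟩; inferInstance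
  haveI : IsScalarTower k₀ K H := .of_algebraMap_smul fun c m => by
    show (Coh.toGlobal fK (φ c)) • m = Coh.toGlobal f₀ c • m
    rw [h]; rfl
  exact (Module.finrank_mul_finrank k₀ K H).symm

/-- `χ(M) - χ(O)` on a curve, in terms of `h⁰` and `h¹`. -/
theorem curveDeg_eq_hRank {k : Type u} [Field k] {Y : Scheme.{u}} (f : Y ⟶ Spec (CommRingCat.of k))
    (M : Y.Modules) :
    (letI : Y.Over (Spec (CommRingCat.of k)) := ⟨f⟩; ArSurf.curveDeg k Y M) =
      ((Models.hRank k Y f M 0 : ℤ) - Models.hRank k Y f M 1) -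
        ((Models.hRank k Y f (Coh.structureModule Y) 0 : ℤ) - Models.hRank k Y f (Coh.structureModule Y) 1) := by
  letI : Y.Over (Spec (CommRingCat.of k)) := ⟨f⟩
  simp only [ArSurf.curveDeg, FGA.eulerCharLE, Finset.sum_range_succ, Finset.sum_range_zero,
    pow_zero, pow_one, one_mul, neg_one_mul, zero_add, Models.hRank]
  ring

section P1

variable (k : Type u) [Field k]

theorem projLine_ranks :
    Models.hRank k (CohB1.ProjSpace 1 k) (CohB1.ProjSpace.toSpec 1 k) (Coh.structureModule _) 0 = 1 ∧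
    Models.hRank k (CohB1.ProjSpace 1 k) (CohB1.ProjSpace.toSpec 1 k) (Coh.structureModule _) 1 = 0 ∧
    Models.hRank k (CohB1.ProjSpace 1 k) (CohB1.ProjSpace.toSpec 1 k) (Twist.twistProjSpace 1 k 1) 0 = 2 ∧
    Models.hRank k (CohB1.ProjSpace 1 k) (CohB1.ProjSpace.toSpec 1 k) (Twist.twistProjSpace 1 k 1) 1 = 0 := by
  let P := CohB1.ProjSpace 1 k
  letI : P.Over (Spec (CommRingCat.of k)) := ⟨CohB1.ProjSpace.toSpec 1 k⟩
  haveI : IsIntegral P := H23.PnChart.isIntegral_projSpace 1 k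
  haveI : IsProper (P ↘ Spec (CommRingCat.of k)) := PnCoh.Chow.isProper_toSpec 1 k
  have h : ∀ d : ℕ, Module.finrank k (Coh.HH P (Twist.twistProjSpace 1 k (d : ℤ)) 0) = d + 1 := fun d => by
    obtain ⟨φ⟩ := S0843.result k 1 d
    exact φ.finrank_eq.trans (CurveEmbed.finrank_binary k d)
  refine ⟨?_, ?_, ?_, ?_⟩
  · have h1 := CurveEmbed.h0_structure_dvd k (X := P) (Twist.twistProjSpace 1 k ((1 : ℕ) : ℤ))
    have h2 := CurveEmbed.h0_structure_dvd k (X := P) (Twist.twistProjSpace 1 k ((2 : ℕ) : ℤ))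
    rw [h] at h1 h2
    exact Nat.dvd_one.1 ((Nat.dvd_add_iff_right h1).2 h2)
  · haveI : Subsingleton (Coh.HH P (Coh.structureModule P) (0 + 1)) :=
      PnCoh.subsingleton_HH_structureModule (ι := Fin (1 + 1)) (R := k) (PnCoh.isQCoh_structureModule _) 0
    exact Module.finrank_zero_of_subsingleton (R := k) (M := Coh.HH P (Coh.structureModule P) (0 + 1))
  · exact h 1
  · haveI := S0844.result k 1 ((1 : ℕ) : ℤ) 1 (fun h => absurd h.1 one_ne_zero) (fun h => absurd h.2 (by norm_num))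
    exact Module.finrank_zero_of_subsingleton (R := k) (M := Coh.HH P (Twist.twistProjSpace 1 k ((1 : ℕ) : ℤ)) 1)

/-- Transport along an isomorphism over a field. -/
theorem hRank_iso {X Y : Scheme.{u}} (e : X ≅ Y) (fX : X ⟶ Spec (CommRingCat.of k))
    (fY : Y ⟶ Spec (CommRingCat.of k)) (he : e.hom ≫ fY = fX) [CompactSpace Y] [QuasiSeparatedSpace Y]
    {M : Y.Modules} (hM : Coh.IsQCoh M) {N : X.Modules}
    (φ : (Scheme.Modules.pullback e.hom).obj M ≅ N) (n : ℕ) :
    Models.hRank k Y fY M n = Models.hRank k X fX N n := by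
  letI : X.Over (Spec (CommRingCat.of k)) := ⟨fX⟩
  letI : Y.Over (Spec (CommRingCat.of k)) := ⟨fY⟩
  have hpb : IsPullback e.hom (X ↘ Spec (CommRingCat.of k)) (Y ↘ Spec (CommRingCat.of k))
      (Spec.map (CommRingCat.ofHom (algebraMap k k))) := by
    haveI : IsIso (Spec.map (CommRingCat.ofHom (algebraMap k k))) := by
      rw [show CommRingCat.ofHom (algebraMap k k) = 𝟙 (CommRingCat.of k) from rfl]
      infer_instance
    refine IsPullback.of_horiz_isIso ⟨?_⟩
    rw [show CommRingCat.ofHom (algebraMap k k) = 𝟙 (CommRingCat.of k) from rfl, Spec.map_id, Category.comp_id]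
    exact he
  exact (CurveBC.finrank_hh k k e.hom hpb M hM n).symm.trans (CurveCohLib.hhEquiv (k := k) φ n).finrank_eq

end P1

variable {R : Type u} [CommRing R] [IsDomain R] [IsDiscreteValuationRing R]
  {X : Over (Spec (CommRingCat.of R))}

/-- An exceptional curve has genus zero and self-intersection `-[κ : k]`. -/
theorem inter_idealMod_of_isExcCurve [IsProper X.hom] (Γ : ArSurf.VertComp R X) (h : Models.IsExcCurve Γ.ι) :
    Models.h1 R X Γ = 0 ∧ ArSurf.inter R X (ClSub.idealMod Γ.ι.ker) Γ = (Models.wdeg R X Γ : ℤ) := by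
  obtain ⟨hD, k, hk, e, ⟨τ⟩⟩ := h
  let k₀ := ResidueField R
  haveI : IsProper Γ.curve.hom := ArSurfX.isProper_curve Γ
  haveI : CompactSpace Γ.curve.left := QuasiCompact.compactSpace_of_compactSpace Γ.curve.hom
  haveI : QuasiSeparatedSpace Γ.curve.left := quasiSeparatedSpace_of_quasiSeparated Γ.curve.hom
  let fk : Γ.curve.left ⟶ Spec (CommRingCat.of k) := e.inv ≫ CohB1.ProjSpace.toSpec 1 k
  have he : e.hom ≫ fk = CohB1.ProjSpace.toSpec 1 k := e.hom_inv_id_assoc _
  obtain ⟨p0, p1, q0, q1⟩ := projLine_ranks k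
  let M := (Scheme.Modules.pullback Γ.ι).obj (ClSub.idealMod Γ.ι.ker)
  have hM : Coh.IsQCoh M := ProjUPX.isQCoh_of_isInvertible
    (PicClLib.isInvertible_pullback Γ.ι (ArSurfX.isInvertible_idealMod hD))
  let τ' : (Scheme.Modules.pullback e.hom).obj M ≅ Twist.twistProjSpace 1 k 1 :=
    (Scheme.Modules.pullbackComp e.hom Γ.ι).app _ ≪≫ τ
  have a0 := (hRank_iso k e _ fk he QCoh.isQCoh_structureModule (CurveBC.unitIso e.hom) 0).trans p0
  have a1 := (hRank_iso k e _ fk he QCoh.isQCoh_structureModule (CurveBC.unitIso e.hom) 1).trans p1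
  have b0 := (hRank_iso k e _ fk he hM τ' 0).trans q0
  have b1 := (hRank_iso k e _ fk he hM τ' 1).trans q1
  have hb : Function.Bijective (Coh.toGlobal fk) := by
    letI : Γ.curve.left.Over (Spec (CommRingCat.of k)) := ⟨fk⟩
    letI := GeomField.globalAlgebra k Γ.curve.left
    have h0 : Module.finrank k Γ(Γ.curve.left, ⊤) = 1 := by
      rw [← GeomField.finrank_HH_zero k Γ.curve.left]
      exact a0
    haveI : Nonempty (⊤ : Γ.curve.left.Opens) := ⟨⟨genericPoint Γ.curve.left, trivial⟩⟩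
    show Function.Bijective (algebraMap k Γ(Γ.curve.left, ⊤))
    refine ⟨(algebraMap k Γ(Γ.curve.left, ⊤)).injective, fun y => ?_⟩
    obtain ⟨c, hc⟩ := (finrank_eq_one_iff_of_nonzero' (1 : Γ(Γ.curve.left, ⊤)) one_ne_zero).1 h0 y
    exact ⟨c, by rw [← hc, Algebra.smul_def, mul_one]⟩
  let φ : k₀ →+* k := (RingEquiv.ofBijective _ hb).symm.toRingHom.comp (Coh.toGlobal Γ.curve.hom)
  have hφ : Coh.toGlobal Γ.curve.hom = (Coh.toGlobal fk).comp φ :=
    RingHom.ext fun c => ((RingEquiv.ofBijective _ hb).apply_symm_apply _).symm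
  have hw : Models.wdeg R X Γ = Models.homDegree φ := by
    have := hRank_restrict Γ.curve.hom fk φ hφ (Coh.structureModule _) 0
    rw [a0, mul_one] at this
    exact this
  refine ⟨?_, ?_⟩
  · have := hRank_restrict Γ.curve.hom fk φ hφ (Coh.structureModule _) 1
    rw [a1, mul_zero] at this
    exact this
  · show ArSurf.curveDeg k₀ Γ.curve.left M = _
    rw [show ArSurf.curveDeg k₀ Γ.curve.left M = _ from curveDeg_eq_hRank Γ.curve.hom M,
      hRank_restrict Γ.curve.hom fk φ hφ M 0, hRank_restrict Γ.curve.hom fk φ hφ M 1,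
      hRank_restrict Γ.curve.hom fk φ hφ (Coh.structureModule _) 0,
      hRank_restrict Γ.curve.hom fk φ hφ (Coh.structureModule _) 1, a0, a1, b0, b1, hw]
    push_cast
    ring

/-- A degree one conormal on a genus zero curve, after enlarging the constants to `K`. -/
theorem exists_P1_of_deg {k₀ K : Type u} [Field k₀] [Field K] {Y : Scheme.{u}} [IsIntegral Y]
    (f₀ : Y ⟶ Spec (CommRingCat.of k₀)) (fK : Y ⟶ Spec (CommRingCat.of K)) [IsProper fK] (φ : k₀ →+* K)
    (hφ : Coh.toGlobal f₀ = (Coh.toGlobal fK).comp φ) (hdim : topologicalKrullDim Y = 1)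
    (hone : Models.hRank K Y fK (Coh.structureModule Y) 0 = 1) (hpos : Models.homDegree φ ≠ 0)
    (h1 : Models.hRank k₀ Y f₀ (Coh.structureModule Y) 1 = 0) {M : Y.Modules} (hM : PicF.IsInvertible M)
    (hdeg : ((Models.hRank k₀ Y f₀ M 0 : ℤ) - Models.hRank k₀ Y f₀ M 1) -
      ((Models.hRank k₀ Y f₀ (Coh.structureModule Y) 0 : ℤ) - Models.hRank k₀ Y f₀ (Coh.structureModule Y) 1) =
        Models.homDegree φ) :
    ∃ e : CohB1.ProjSpace 1 K ≅ Y,
      Nonempty ((Scheme.Modules.pullback e.hom).obj M ≅ Twist.twistProjSpace 1 K 1) := by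
  letI : Y.Over (Spec (CommRingCat.of K)) := ⟨fK⟩
  haveI : IsProper (Y ↘ Spec (CommRingCat.of K)) := ‹IsProper fK›
  haveI := CurveCohLib.isNoetherian_of_proper (k := K) (X := Y)
  haveI := CurveCohLib.finite_HH (k := K) (QCoh.isCoh_structureModule' (X := Y)) 1
  rw [hRank_restrict f₀ fK φ hφ, hRank_restrict f₀ fK φ hφ, hRank_restrict f₀ fK φ hφ,
    hRank_restrict f₀ fK φ hφ] at hdeg
  rw [hRank_restrict f₀ fK φ hφ] at h1
  have hz := (mul_eq_zero.1 h1).resolve_left hpos
  have hsub : Subsingleton (Coh.HH Y (Coh.structureModule Y) 1) :=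
    Module.finrank_zero_iff.1 (hz : Module.finrank K (Coh.HH Y (Coh.structureModule Y) 1) = 0)
  have hdegK : Curv2.deg K Y M 1 = 1 := by
    rw [← ArSurfX.curveDeg_eq K hdim.le (ZeroSchX.isQCoh_inv hM),
      show ArSurf.curveDeg K Y M = _ from curveDeg_eq_hRank fK M]
    push_cast at hdeg
    refine mul_left_cancel₀ (a := (Models.homDegree φ : ℤ)) (by exact_mod_cast hpos) ?_
    linarith
  have h0 := CurveEmbed.h0_eq K hdim hsub hM (by omega)
  rw [hdegK, show Module.finrank K (Coh.HH Y (Coh.structureModule Y) 0) = 1 from hone] at h0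
  obtain ⟨i, hi, -, ⟨ψ⟩⟩ := CurveEmbed.exists_embedding K hdim hsub hM (by omega) (N := 1) (by omega)
  haveI := hi
  haveI := CurveEmbed.isIso_of_closedImmersion_line K hdim i
  refine ⟨(asIso i).symm, ⟨?_⟩⟩
  exact (Scheme.Modules.pullback (asIso i).symm.hom).mapIso ψ.symm ≪≫
    (Scheme.Modules.pullbackComp (asIso i).symm.hom i).app _ ≪≫
    (Scheme.Modules.pullbackCongr (asIso i).inv_hom_id).app _ ≪≫
    (Scheme.Modules.pullbackId _).app _

/-- `Y → Spec Γ(Y, O)`. -/
noncomputable def specΓ (Y : Scheme.{u}) : Y ⟶ Spec (CommRingCat.of Γ(Y, ⊤)) := Y.toSpecΓ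

theorem toGlobal_specΓ (Y : Scheme.{u}) (r : Γ(Y, ⊤)) : Coh.toGlobal (specΓ Y) r = r := by
  show Y.toSpecΓ.appTop ((Scheme.ΓSpecIso Γ(Y, ⊤)).inv r) = r
  rw [Scheme.toSpecΓ_appTop]
  exact Iso.inv_hom_id_apply _ _

/-- `dim_k H⁰ = 1` when all global functions are constants. -/
theorem hRank_zero_of_surjective {K : Type u} [Field K] {Z : Scheme.{u}} [Nonempty Z]
    (f : Z ⟶ Spec (CommRingCat.of K)) (h : Function.Surjective (Coh.toGlobal f)) :
    Models.hRank K Z f (Coh.structureModule Z) 0 = 1 := by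
  letI : Z.Over (Spec (CommRingCat.of K)) := ⟨f⟩
  letI := GeomField.globalAlgebra K Z
  show Module.finrank K (Coh.HH Z (Coh.structureModule Z) 0) = 1
  rw [GeomField.finrank_HH_zero K Z]
  haveI : Nonempty (⊤ : Z.Opens) := ⟨⟨Classical.arbitrary Z, trivial⟩⟩
  have hb : Function.Bijective (algebraMap K Γ(Z, ⊤)) := ⟨(algebraMap K Γ(Z, ⊤)).injective, h⟩
  rw [← (LinearEquiv.ofBijective (Algebra.linearMap K Γ(Z, ⊤)) hb).finrank_eq, Module.finrank_self]

theorem isProper_toSpecΓ {k : Type u} [Field k] {Y : Scheme.{u}} (f : Y ⟶ Spec (CommRingCat.of k)) [IsProper f] :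
    IsProper (specΓ Y) := by
  show IsProper Y.toSpecΓ
  have hfac : f = Y.toSpecΓ ≫ Spec.map ((Scheme.ΓSpecIso (CommRingCat.of k)).inv ≫ f.appTop) := by
    rw [Spec.map_comp, ← Category.assoc, ← Scheme.toSpecΓ_naturality, Category.assoc,
      toSpecΓ_SpecMap_ΓSpecIso_inv, Category.comp_id]
  haveI : IsProper (Y.toSpecΓ ≫ Spec.map ((Scheme.ΓSpecIso (CommRingCat.of k)).inv ≫ f.appTop)) := by
    rw [← hfac]; infer_instance
  exact IsProper.of_comp _ (Spec.map ((Scheme.ΓSpecIso (CommRingCat.of k)).inv ≫ f.appTop))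

/-- Genus zero and conormal degree `[κ : k]` make a component exceptional. -/
theorem isExcCurve_of_h1_zero [IsProper X.hom] (Γ : ArSurf.VertComp R X) (hD : BlowUp.IsEffCartierIdeal Γ.ι.ker)
    (h1 : Models.h1 R X Γ = 0)
    (hdeg : ArSurf.inter R X (ClSub.idealMod Γ.ι.ker) Γ = (Models.wdeg R X Γ : ℤ)) :
    Models.IsExcCurve Γ.ι := by
  haveI hp₀ : IsProper Γ.curve.hom := ArSurfX.isProper_curve Γ
  haveI : IsProper (Γ.curve.left ↘ Spec (CommRingCat.of (ResidueField R))) := hp₀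
  have hKf := GeomField.isField_globalFunctions (ResidueField R) Γ.curve.left
  letI hF : Field Γ(Γ.curve.left, ⊤) := hKf.toField
  haveI := isProper_toSpecΓ Γ.curve.hom
  let φ : ResidueField R →+* Γ(Γ.curve.left, ⊤) := Coh.toGlobal Γ.curve.hom
  have hφ : Coh.toGlobal Γ.curve.hom = (Coh.toGlobal (specΓ Γ.curve.left)).comp φ :=
    RingHom.ext fun r => (toGlobal_specΓ Γ.curve.left (φ r)).symm
  haveI : Nonempty Γ.curve.left := ⟨genericPoint Γ.curve.left⟩
  have hone := hRank_zero_of_surjective (specΓ Γ.curve.left) fun r => ⟨r, toGlobal_specΓ _ r⟩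
  have hw : Models.wdeg R X Γ = Models.homDegree φ := by
    have := hRank_restrict Γ.curve.hom (specΓ Γ.curve.left) φ hφ (Coh.structureModule Γ.curve.left) 0
    rw [hone, mul_one] at this
    exact this
  have hwpos := wdeg_pos Γ
  rw [show ArSurf.inter R X (ClSub.idealMod Γ.ι.ker) Γ = _ from
    curveDeg_eq_hRank Γ.curve.hom ((Scheme.Modules.pullback Γ.ι).obj (ClSub.idealMod Γ.ι.ker)), hw] at hdeg
  obtain ⟨e, ⟨τ⟩⟩ := exists_P1_of_deg Γ.curve.hom (specΓ Γ.curve.left) φ hφ Γ.dim_eq hone (by omega) h1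
    (PicClLib.isInvertible_pullback Γ.ι (ArSurfX.isInvertible_idealMod hD)) hdeg
  exact ⟨hD, Γ(Γ.curve.left, ⊤), hF, e, ⟨((Scheme.Modules.pullbackComp e.hom Γ.ι).app _).symm ≪≫ τ⟩⟩

/-- Being exceptional only depends on the closed subscheme. -/
theorem isExcCurve_congr {E E' Y : Scheme.{u}} (ι : E ⟶ Y) (ι' : E' ⟶ Y) [IsClosedImmersion ι]
    [IsClosedImmersion ι'] (hk : ι.ker = ι'.ker) (h : Models.IsExcCurve ι) : Models.IsExcCurve ι' := by
  obtain ⟨hD, k, hk', e, ⟨τ⟩⟩ := h
  let φ : E ≅ E' :=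
    { hom := IsClosedImmersion.lift ι' ι hk.ge
      inv := IsClosedImmersion.lift ι ι' hk.le
      hom_inv_id := (cancel_mono ι).1 (by
        rw [Category.assoc, IsClosedImmersion.lift_fac, IsClosedImmersion.lift_fac, Category.id_comp])
      inv_hom_id := (cancel_mono ι').1 (by
        rw [Category.assoc, IsClosedImmersion.lift_fac, IsClosedImmersion.lift_fac, Category.id_comp]) }
  refine ⟨hk ▸ hD, k, hk', e ≪≫ φ, ⟨?_⟩⟩
  have he : (e ≪≫ φ).hom ≫ ι' = e.hom ≫ ι := by
    rw [Iso.trans_hom, Category.assoc, IsClosedImmersion.lift_fac]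
  rw [he, ← hk]
  exact τ

end Groth.Agent.ModX56
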