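import Groth.Agent.H23.GysinPb
import Groth.Agent.FlatDvr.FibreStalk
import Groth.Prelude.Def_Coh

/-!
# Local rings of closed fibres over a local ring
-/

set_option linter.style.haveILetI false

universe u

open CategoryTheory CategoryTheory.Limits AlgebraicGeometry IsLocalRing

namespace Groth.Agent.ModX56

variable {R : Type u} [CommRing R] [IsLocalRing R] {X : Scheme.{u}} (f : X ⟶ Spec (CommRingCat.of R))

/-- The structure map `R → O_{X,x}`. -/
noncomputable abbrev strHom (x : X) : R →+* X.presheaf.stalk x :=
  (X.presheaf.germ ⊤ x trivial).hom.comp (Coh.toGlobal f)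

theorem maximalIdeal_stalk_Spec (d : Spec (CommRingCat.of R)) (hd : d = closedPoint R) :
    maximalIdeal ((Spec (CommRingCat.of R)).presheaf.stalk d) =
      (maximalIdeal R).map (StructureSheaf.toStalk R d).hom := by
  subst hd
  letI : Algebra R ((Spec (CommRingCat.of R)).presheaf.stalk (closedPoint R)) :=
    StructureSheaf.stalkAlgebra R (closedPoint R)
  haveI : IsLocalization.AtPrime ((Spec (CommRingCat.of R)).presheaf.stalk (closedPoint R)) (maximalIdeal R) :=
    StructureSheaf.IsLocalization.to_stalk (CommRingCat.of R) (closedPoint R)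
  exact (IsLocalization.AtPrime.map_eq_maximalIdeal (maximalIdeal R) _).symm

variable {k : Type u} [Field k] {φ : R →+* k} (hφ : Function.Surjective φ)
  {Xs : Scheme.{u}} {gs : Xs ⟶ X} {fs : Xs ⟶ Spec (CommRingCat.of k)}
  (hs : IsPullback gs fs f (Spec.map (CommRingCat.ofHom φ)))

include hφ hs

theorem isClosedImmersion_closedFibre : IsClosedImmersion gs := by
  haveI : IsClosedImmersion (Spec.map (CommRingCat.ofHom φ)) := IsClosedImmersion.spec_of_surjective _ hφ
  exact MorphismProperty.of_isPullback (P := @IsClosedImmersion) hs.flip inferInstance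

theorem ker_stalkMap_closedFibre (z : Xs) :
    RingHom.ker (gs.stalkMap z).hom = (maximalIdeal R).map (strHom f (gs z)) := by
  haveI : IsClosedImmersion (Spec.map (CommRingCat.ofHom φ)) := IsClosedImmersion.spec_of_surjective _ hφ
  set i := Spec.map (CommRingCat.ofHom φ) with hi
  let e := hs.isoPullback
  obtain ⟨w, rfl⟩ := e.inv.surjective z
  have hgs : e.inv ≫ gs = pullback.fst f i := hs.isoPullback_inv_fst
  have hw : gs (e.inv w) = pullback.fst f i w := by rw [← hgs, Scheme.Hom.comp_apply]
  have key : RingHom.ker ((pullback.fst f i).stalkMap w).hom =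
      (maximalIdeal R).map (strHom f (pullback.fst f i w)) := by
    rw [H23.GysinPb.ker_stalkMap_fst]
    set d := pullback.snd f i w
    have hd : RingHom.ker (i.stalkMap d).hom = maximalIdeal _ := by
      refine le_antisymm (IsLocalRing.le_maximalIdeal (RingHom.ker_ne_top _)) fun a ha => ?_
      exact RingHom.mem_ker.2 ((FlatDvr.eq_zero_or_isUnit_stalk_field k d _).resolve_right
        fun hu => ha (isUnit_of_map_unit _ a hu))
    have hid : i d = closedPoint R := by
      refine PrimeSpectrum.ext (IsLocalRing.eq_maximalIdeal ?_)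
      show Ideal.IsMaximal (Ideal.comap φ d.asIdeal)
      haveI : d.asIdeal.IsMaximal := by
        rcases Ideal.eq_bot_or_top d.asIdeal with h | h
        · rw [h]; exact Ideal.bot_isMaximal
        · exact absurd h d.isPrime.ne_top
      exact Ideal.comap_isMaximal_of_surjective φ hφ
    rw [hd, maximalIdeal_stalk_Spec _ hid]
    refine (Ideal.map_map _ _).trans ?_
    refine congrArg (fun ψ => Ideal.map ψ (maximalIdeal R)) ?_
    show (((Scheme.ΓSpecIso (CommRingCat.of R)).inv ≫
        (Spec (CommRingCat.of R)).presheaf.germ ⊤ (i d) trivial) ≫ H23.GysinPb.baseMap f i w : CommRingCat.of R ⟶ X.presheaf.stalk _).hom = _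
    rw [H23.GysinPb.baseMap, Category.assoc]
    erw [TopCat.Presheaf.germ_stalkSpecializes_assoc, Scheme.Hom.germ_stalkMap]
    rfl
  have h2 := Scheme.Hom.stalkMap_congr_hom _ _ hgs w
  rw [Scheme.Hom.stalkMap_comp] at h2
  have hbij : Function.Injective (e.inv.stalkMap w).hom := (ConcreteCategory.bijective_of_isIso (e.inv.stalkMap w)).1
  ext a
  have h3 : (e.inv.stalkMap w).hom ((gs.stalkMap (e.inv w)).hom a) =
      ((pullback.fst f i).stalkMap w).hom ((X.presheaf.stalkSpecializes (specializes_of_eq hw.symm)).hom a) := by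
    have := RingHom.congr_fun (congrArg CommRingCat.Hom.hom h2) a
    simpa using this
  have hspec : Function.Bijective (X.presheaf.stalkSpecializes (specializes_of_eq hw.symm)).hom :=
    ConcreteCategory.bijective_of_isIso (X.presheaf.stalkCongr (.of_eq hw)).hom
  have hstr : (X.presheaf.stalkSpecializes (specializes_of_eq hw.symm)).hom.comp (strHom f (gs (e.inv w))) =
      strHom f (pullback.fst f i w) := by
    ext r
    simp only [strHom, RingHom.comp_apply]
    exact TopCat.Presheaf.germ_stalkSpecializes_apply (F := X.presheaf) _ _ _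
  rw [RingHom.mem_ker, ← hbij.eq_iff, h3, map_zero, ← RingHom.mem_ker, key, ← hstr, ← Ideal.map_map,
    ← Ideal.mem_comap, Ideal.comap_map_of_bijective _ hspec]

theorem surjective_stalkMap_closedFibre (z : Xs) : Function.Surjective (gs.stalkMap z).hom := by
  haveI := isClosedImmersion_closedFibre f hφ hs
  exact gs.stalkMap_surjective z

end Groth.Agent.ModX56
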