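import Groth.Agent.ModX56.GenDegree
import Groth.Agent.MorLib.WeightDeg
import Groth.Agent.FlatDvr.DimFibre
import Groth.Agent.DimFormula.Catenary
import Groth.Agent.DimFormula.Scheme
import Groth.Agent.CotTLib.CI
import Groth.Agent.S2082

/-!
# Fibre ranks of dominant generically finite morphisms of regular varieties
-/

set_option linter.style.haveILetI false

universe u

open CategoryTheory CategoryTheory.Limits AlgebraicGeometry TopologicalSpace IsLocalRing

namespace Groth.Agent.ModX56

theorem isUniversallyCatenary_stalk {k : Type u} [Field k] {Y : Scheme.{u}}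
    (sY : Y ⟶ Spec (CommRingCat.of k)) [LocallyOfFiniteType sY] (y : Y) :
    CAlg.IsUniversallyCatenary (Y.presheaf.stalk y) := by
  obtain ⟨V, hV, hyV, -⟩ := exists_isAffineOpen_mem_and_subset (x := y) (U := ⊤) trivial
  let φ : k →+* Γ(Y, V) := (sY.appLE ⊤ V le_top).hom.comp (Scheme.ΓSpecIso (CommRingCat.of k)).inv.hom
  have hft : φ.FiniteType := RingHom.FiniteType.comp (HasRingHomProperty.appLE @LocallyOfFiniteType sY inferInstance
    ⟨⊤, isAffineOpen_top _⟩ ⟨V, hV⟩ le_top) (RingHom.FiniteType.of_surjective _
      (ConcreteCategory.bijective_of_isIso (Scheme.ΓSpecIso (CommRingCat.of k)).inv).2)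
  letI := φ.toAlgebra
  haveI : Algebra.FiniteType k Γ(Y, V) := hft
  have hA : CAlg.IsUniversallyCatenary Γ(Y, V) := by
    refine ⟨Algebra.FiniteType.isNoetherianRing k _, fun S _ _ hS => ?_⟩
    letI : Algebra k S := ((algebraMap Γ(Y, V) S).comp φ).toAlgebra
    haveI : IsScalarTower k Γ(Y, V) S := IsScalarTower.of_algebraMap_eq' rfl
    exact (DimFormula.isUniversallyCatenary_field k).2 S (Algebra.FiniteType.trans (S := Γ(Y, V)) ‹_› hS)
  letI := Y.presheaf.algebra_section_stalk (⟨y, hyV⟩ : V)
  haveI := hV.isLocalization_stalk ⟨y, hyV⟩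
  exact DimFormula.isUniversallyCatenary_localization hA (hV.primeIdealOf ⟨y, hyV⟩).asIdeal.primeCompl _

variable {X Y : Scheme.{u}}

/-- Isolated points of fibres have relative degree zero. -/
theorem rd_eq_zero_of_isOpen_singleton (f : X ⟶ Y) [LocallyOfFiniteType f] {x : X}
    (h : IsOpen ({f.asFiber x} : Set (f.fiber (f x)))) :
    FibDim.rd f x = 0 ∧ ringKrullDim ((f.fiber (f x)).presheaf.stalk (f.asFiber x)) = 0 := by
  have hcl : IsClosed ({f.asFiber x} : Set (f.fiber (f x))) :=
    ((Scheme.Hom.quasiFiniteAt_iff_isOpen_singleton_asFiber (f := f)).2 h).isClopen_singleton_asFiber.1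
  refine ⟨?_, ?_⟩
  · have hset : closure {x} ∩ f ⁻¹' {f x} = {x} := by
      refine Set.eq_singleton_iff_unique_mem.2 ⟨⟨subset_closure rfl, rfl⟩, fun z hz => ?_⟩
      have hc : IsClosed ({⟨x, rfl⟩} : Set ↥(f ⁻¹' {f x})) := by
        have h2 := (f.fiberHomeo (f x)).isClosed_image.2 hcl
        rwa [Set.image_singleton, show f.fiberHomeo (f x) (f.asFiber x) = ⟨x, rfl⟩ from
          (f.fiberHomeo (f x)).apply_symm_apply _] at h2
      have h3 : (⟨x, rfl⟩ : ↥(f ⁻¹' {f x})) ⤳ ⟨z, hz.2⟩ :=
        Topology.IsInducing.subtypeVal.specializes_iff.1 (specializes_iff_mem_closure.2 hz.1)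
      exact congrArg Subtype.val (Set.mem_singleton_iff.1 (h3.mem_closed hc (Set.mem_singleton _)))
    have h' := FibDim.dim_closure_inter f x
    rw [hset] at h'
    have h1 : topologicalKrullDim ↥({x} : Set X) ≤ 0 := topologicalKrullDim_zero_of_discreteTopology _
    rw [h'] at h1
    have h2 : ((FibDim.rd f x : ℕ∞)) ≤ 0 := WithBot.coe_le_coe.1 h1
    exact_mod_cast nonpos_iff_eq_zero.1 h2
  · let j := (f.fiber (f x)).fromSpecStalk (f.asFiber x)
    haveI : Subsingleton (PrimeSpectrum ((f.fiber (f x)).presheaf.stalk (f.asFiber x))) := by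
      refine ⟨fun a b => j.isEmbedding.injective ?_⟩
      have key : ∀ a, j a = f.asFiber x := fun a => by
        have h' : j a ⤳ f.asFiber x := by
          have := Set.mem_range_self (f := j) a
          rwa [Scheme.range_fromSpecStalk] at this
        exact h'.mem_open h rfl
      exact (key a).trans (key b).symm
    exact le_antisymm (Order.krullDim_nonpos_of_subsingleton) ringKrullDim_nonneg_of_nontrivial

theorem flat_and_quasiFiniteAt_of_isolated {k : Type u} [Field k] [IsIntegral X] [IsIntegral Y]
    (sY : Y ⟶ Spec (CommRingCat.of k)) [LocallyOfFiniteType sY] (f : X ⟶ Y) [IsDominant f]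
    [LocallyOfFiniteType f] (h0 : FibDim.rd f (genericPoint X) = 0) {x : X}
    (hx : IsRegularLocalRing (X.presheaf.stalk x)) (hy : IsRegularLocalRing (Y.presheaf.stalk (f x)))
    (h : IsOpen ({f.asFiber x} : Set (f.fiber (f x)))) :
    (f.stalkMap x).hom.Flat ∧ f.QuasiFiniteAt x := by
  refine ⟨?_, Scheme.Hom.quasiFiniteAt_iff_isOpen_singleton_asFiber.2 h⟩
  haveI : IsLocallyNoetherian Y := LocallyOfFiniteType.isLocallyNoetherian sY
  haveI := LocallyOfFiniteType.isLocallyNoetherian f
  obtain ⟨hrd, hfib⟩ := rd_eq_zero_of_isOpen_singleton f h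
  have hs : genericPoint X ⤳ x := (genericPoint_spec X).specializes (Set.mem_univ x)
  have hcd := (DimFormula.cd_formula f hs).2 (isUniversallyCatenary_stalk sY (f x))
  rw [hrd, h0, apply_genericPoint_of_isDominant f, DimFormula.cd_eq_codim_of_irreducible,
    DimFormula.cd_eq_codim_of_irreducible] at hcd
  have hdim : ringKrullDim (X.presheaf.stalk x) = ringKrullDim (Y.presheaf.stalk (f x)) :=
    (DimFormula.stalk_eq_iff f x (f x)).2 (by omega)
  haveI := hx
  haveI := hy
  haveI : LocCoh.IsCohenMacaulayLocalRing (X.presheaf.stalk x) :=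
    { supportDim_eq_depth := CotTLib.isCM_of_isRegularLocalRing (X.presheaf.stalk x) }
  letI := (f.stalkMap x).hom.toAlgebra
  haveI : IsLocalHom (algebraMap (Y.presheaf.stalk (f x)) (X.presheaf.stalk x)) :=
    inferInstanceAs (IsLocalHom (f.stalkMap x).hom)
  have hq : ringKrullDim (X.presheaf.stalk x ⧸
      (maximalIdeal (Y.presheaf.stalk (f x))).map (algebraMap (Y.presheaf.stalk (f x)) (X.presheaf.stalk x))) = 0 := by
    have key : ∀ (y : Y) (w : ↥(f.fiber y)), ringKrullDim ((f.fiber y).presheaf.stalk w) = 0 →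
        ringKrullDim (X.presheaf.stalk (f.fiberι y w) ⧸
          (maximalIdeal (Y.presheaf.stalk (f (f.fiberι y w)))).map (f.stalkMap (f.fiberι y w)).hom) = 0 :=
      fun y w hw => (FlatDvr.ringKrullDim_stalk_fibre f w).symm.trans hw
    have := key (f x) (f.asFiber x) hfib
    rw [Scheme.Hom.fiberι_asFiber] at this
    exact this
  exact S2082.result (by rw [hdim, hq, add_zero])

theorem fibreRank_le {k : Type u} [Field k] [IsIntegral X] [IsIntegral Y] [CompactSpace X]
    (sY : Y ⟶ Spec (CommRingCat.of k)) [LocallyOfFiniteType sY] (f : X ⟶ Y) [IsDominant f] [IsSeparated f]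
    [LocallyOfFiniteType f] (h0 : FibDim.rd f (genericPoint X) = 0)
    (hX : ∀ x : X, IsRegularLocalRing (X.presheaf.stalk x))
    (hY : ∀ y : Y, IsRegularLocalRing (Y.presheaf.stalk y)) (y : Y)
    (hfiny : IsFinite (pullback.snd f (Y.fromSpecResidueField y))) :
    (letI := ((Scheme.ΓSpecIso (Y.residueField y)).inv ≫
        (pullback.snd f (Y.fromSpecResidueField y)).appTop).hom.toAlgebra;
      Module.finrank (Y.residueField y) Γ(pullback f (Y.fromSpecResidueField y), ⊤)) ≤
    (letI := (f.residueFieldMap (genericPoint X)).hom.toAlgebra;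
      Module.finrank (Y.residueField (f (genericPoint X))) (X.residueField (genericPoint X))) := by
  haveI : IsLocallyNoetherian Y := LocallyOfFiniteType.isLocallyNoetherian sY
  haveI := LocallyOfFiniteType.isLocallyNoetherian f
  haveI : IsNoetherian X := { }
  haveI := lfp_of_isLocallyNoetherian f
  -- the fibres over `y` and over the image of the generic point consist of isolated points
  haveI : IsFinite (f.fiberToSpecResidueField y) := hfiny
  have hdisc : ∀ x : X, f x = y → IsOpen ({f.asFiber x} : Set (f.fiber (f x))) := by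
    rintro x rfl
    haveI : DiscreteTopology ↥(f.fiber (f x)) := by
      haveI : LocallyQuasiFinite (f.fiberToSpecResidueField (f x)) := inferInstance
      haveI : Subsingleton ↥(Spec (Y.residueField (f x))) := inferInstanceAs (Subsingleton (PrimeSpectrum _))
      have h := (f.fiberToSpecResidueField (f x)).isDiscrete_preimage_singleton
        (f.fiberToSpecResidueField (f x) (f.asFiber x))
      have e : (f.fiberToSpecResidueField (f x)) ⁻¹' {f.fiberToSpecResidueField (f x) (f.asFiber x)} = Set.univ :=
        Set.eq_univ_of_forall fun a => Subsingleton.elim _ _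
      exact isDiscrete_univ_iff.1 (e ▸ h)
    exact isOpen_discrete _
  have hgen : ∀ x : X, f x = f (genericPoint X) → (f.stalkMap x).hom.Flat ∧ f.QuasiFiniteAt x := by
    intro x hx
    have hxe := eq_genericPoint_of_apply_eq f h0 hx
    refine flat_and_quasiFiniteAt_of_isolated sY f h0 (hX x) (hY (f x)) ?_
    haveI : Subsingleton ↥(f.fiber (f x)) := ⟨fun a b => (f.fiberι (f x)).isEmbedding.injective (by
      have key : ∀ a, f.fiberι (f x) a = genericPoint X := fun a =>
        eq_genericPoint_of_apply_eq f h0 ((FibDim.fiber_apply_fiberι f a).trans hx)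
      rw [key, key])⟩
    exact isOpen_discrete _
  let X' : X.Opens := ⟨{x | (f.stalkMap x).hom.Flat}, FlatLocus.isOpen_flat_locus f⟩ ⊓ f.quasiFiniteLocus
  have hy' : ∀ x, f x = y → x ∈ X' := fun x hx =>
    flat_and_quasiFiniteAt_of_isolated sY f h0 (hX x) (hY (f x)) (hdisc x hx)
  have hη' : ∀ x, f x = f (genericPoint X) → x ∈ X' := hgen
  let g := X'.ι ≫ f
  haveI : Flat g := by
    rw [Flat.iff_flat_stalkMap]
    intro x
    rw [Scheme.Hom.stalkMap_comp]
    exact RingHom.Flat.comp x.2.1 (RingHom.Flat.of_bijective (ConcreteCategory.bijective_of_isIso (X'.ι.stalkMap x)))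
  haveI : LocallyQuasiFinite g := by
    rw [← Scheme.Hom.quasiFiniteLocus_eq_top_iff, Scheme.Hom.quasiFiniteLocus_comp]
    exact top_le_iff.1 fun x _ => x.2.2
  haveI : CompactSpace X'.toScheme := isCompact_iff_compactSpace.1 (NoetherianSpace.isCompact _)
  haveI : QuasiCompact g := by
    haveI : QuasiSeparatedSpace Y := inferInstance
    exact quasiCompact_of_compactSpace g
  have hfin : ∀ s : Y, (g ⁻¹' {s}).Finite := MorLib.WT.finite_preimage_of_qc
  have hrank : ∀ (s : Y), (∀ x, f x = s → x ∈ X') → IsFinite (pullback.snd f (Y.fromSpecResidueField s)) →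
      (letI := ((Scheme.ΓSpecIso (Y.residueField s)).inv ≫
          (pullback.snd f (Y.fromSpecResidueField s)).appTop).hom.toAlgebra;
        Module.finrank (Y.residueField s) Γ(pullback f (Y.fromSpecResidueField s), ⊤)) = MorLib.WT.deg g s := by
    intro s hs hsfin
    let j := Y.fromSpecResidueField s
    have hbig := (IsPullback.of_hasPullback g j)
    let m : pullback g j ⟶ pullback f j :=
      pullback.lift (pullback.fst g j ≫ X'.ι) (pullback.snd g j) (by rw [Category.assoc]; exact pullback.condition)
    have hm : IsPullback m (pullback.fst g j) (pullback.fst f j) X'.ι := by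
      refine IsPullback.of_right (h₁₂ := pullback.snd f j) (v₁₃ := j) (h₂₂ := f) ?_ ?_ (IsPullback.of_hasPullback f j).flip
      · rw [show m ≫ pullback.snd f j = pullback.snd g j from pullback.lift_snd _ _ _]
        exact (IsPullback.of_hasPullback g j).flip
      · exact pullback.lift_fst _ _ _
    haveI : IsOpenImmersion m := MorphismProperty.of_isPullback hm.flip inferInstance
    haveI : Surjective m := ⟨fun w => by
      have hw : (pullback.fst f j) w ∈ Set.range X'.ι := by
        rw [Scheme.Opens.range_ι]
        refine hs _ ?_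
        have : (pullback.fst f j) w ∈ Set.range (pullback.fst f j) := ⟨w, rfl⟩
        rw [Scheme.Pullback.range_fst, Scheme.range_fromSpecResidueField] at this
        exact this
      obtain ⟨v, hv⟩ := hw
      obtain ⟨z, hz, -⟩ := Scheme.Pullback.exists_preimage_pullback w v hv.symm
      refine ⟨hm.isoPullback.inv z, ?_⟩
      rw [← Scheme.Hom.comp_apply, IsPullback.isoPullback_inv_fst]
      exact hz⟩
    haveI : IsIso m := by
      haveI : Epi m.base := (TopCat.epi_iff_surjective _).2 m.surjective
      exact IsOpenImmersion.isIso m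
    rw [finrank_sections_of_isFinite (Field.toIsField _) _ (IsLocalRing.closedPoint _),
      ← Scheme.Hom.finrank_comp_left_of_isIso m (pullback.snd f j),
      show m ≫ pullback.snd f j = pullback.snd g j from pullback.lift_snd _ _ _]
    exact (MorLib.WT.finrank_fibre_eq_deg hfin j _).trans
      (congrArg _ ((Scheme.range_fromSpecResidueField s).le ⟨_, rfl⟩))
  have hηfin : IsFinite (pullback.snd f (Y.fromSpecResidueField (f (genericPoint X)))) := by
    obtain ⟨U, hU, hfinU, -⟩ := exists_finite_flat_open f h0
    haveI := hfinU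
    let j := IsOpenImmersion.lift U.ι (Y.fromSpecResidueField (f (genericPoint X))) (by
      rw [Scheme.range_fromSpecResidueField, Scheme.Opens.range_ι]
      exact Set.singleton_subset_iff.2 hU)
    have hb := (IsPullback.of_hasPullback (f ∣_ U) j).paste_horiz (isPullback_morphismRestrict f U).flip
    rw [IsOpenImmersion.lift_fac] at hb
    haveI : IsFinite (pullback.snd (f ∣_ U) j) := MorphismProperty.pullback_snd _ _ inferInstance
    rw [← hb.isoPullback_inv_snd]
    infer_instance
  rw [hrank y hy' hfiny, ← finrank_fibre_genericPoint f h0, hrank _ hη' hηfin]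
  have hs : f (genericPoint X) ⤳ y := by
    rw [apply_genericPoint_of_isDominant f]
    exact (genericPoint_spec Y).specializes (Set.mem_univ y)
  exact hs.mem_closed (MorLib.WT.isClosed_deg_le hfin (MorLib.WT.deg g (f (genericPoint X)))) (le_refl (MorLib.WT.deg g (f (genericPoint X))))

end Groth.Agent.ModX56
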