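import Groth.Agent.S9821
import Mathlib.AlgebraicGeometry.Morphisms.Finite
import Mathlib.RingTheory.IntegralClosure.GoingDown

/-!
# Finite surjective morphisms to normal integral schemes
-/

set_option linter.style.haveILetI false

universe u

open CategoryTheory AlgebraicGeometry

namespace Groth.Agent.ModX56

/-- Incomparability for integral morphisms. -/
theorem eq_of_specializes_of_isIntegralHom {W Z : Scheme.{u}} (ψ : W ⟶ Z) [IsIntegralHom ψ] {a b : W}
    (h : a ⤳ b) (he : ψ a = ψ b) : a = b := by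
  obtain ⟨_, ⟨V, hV, rfl⟩, hb, -⟩ := Z.isBasis_affineOpens.exists_subset_of_mem_open (Set.mem_univ (ψ b)) isOpen_univ
  replace hV : IsAffineOpen V := hV
  have hU : IsAffineOpen (ψ ⁻¹ᵁ V) := hV.preimage ψ
  have ha : a ∈ ψ ⁻¹ᵁ V := show ψ a ∈ V from he ▸ hb
  letI := (ψ.app V).hom.toAlgebra
  haveI : Algebra.IsIntegral Γ(Z, V) Γ(W, ψ ⁻¹ᵁ V) := ⟨IsIntegralHom.isIntegral_app (f := ψ) V hV⟩
  let p := hU.primeIdealOf ⟨a, ha⟩
  let q := hU.primeIdealOf ⟨b, hb⟩
  have hnat : ∀ (r : PrimeSpectrum Γ(W, ψ ⁻¹ᵁ V)),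
      hV.fromSpec (PrimeSpectrum.comap (ψ.app V).hom r) = ψ (hU.fromSpec r) := fun r => by
    show (Spec.map (ψ.app V) ≫ hV.fromSpec) r = (hU.fromSpec ≫ ψ) r
    rw [Scheme.Hom.app_eq_appLE, hV.SpecMap_appLE_fromSpec ψ hU]
  have hle : p ≤ q := by
    rw [PrimeSpectrum.le_iff_specializes]
    refine hU.fromSpec.isEmbedding.isInducing.specializes_iff.1 ?_
    show hU.fromSpec p ⤳ hU.fromSpec q
    rw [IsAffineOpen.fromSpec_primeIdealOf, IsAffineOpen.fromSpec_primeIdealOf]
    exact h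
  have hcomap : PrimeSpectrum.comap (ψ.app V).hom p = PrimeSpectrum.comap (ψ.app V).hom q := by
    apply hV.fromSpec.isEmbedding.injective
    rw [hnat, hnat, IsAffineOpen.fromSpec_primeIdealOf, IsAffineOpen.fromSpec_primeIdealOf, he]
  have hpq : p.asIdeal = q.asIdeal := by
    rcases (show p.asIdeal ≤ q.asIdeal from hle).lt_or_eq with hlt | heq
    · exact absurd (congrArg PrimeSpectrum.asIdeal hcomap)
        (Ideal.IsIntegral.comap_lt_comap (R := Γ(Z, V)) hlt).ne
    · exact heq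
  have := congrArg hU.fromSpec (PrimeSpectrum.ext hpq : p = q)
  rwa [IsAffineOpen.fromSpec_primeIdealOf, IsAffineOpen.fromSpec_primeIdealOf] at this

variable {W Z : Scheme.{u}} (ψ : W ⟶ Z) [IsIntegral W] [IsIntegral Z] [IsIntegralHom ψ] [Surjective ψ]

omit [IsIntegralHom ψ] in
theorem apply_genericPoint_eq : ψ (genericPoint W) = genericPoint Z := by
  refine ((genericPoint_spec Z).eq ?_).symm
  have h := (genericPoint_spec W).image ψ.continuous
  rwa [Set.image_univ, ψ.surjective.range_eq, closure_univ] at h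

/-- Generalizations lift along an integral surjective morphism of integral schemes to a normal one. -/
theorem exists_specializes_lift (hZ : Pi1.IsNormalScheme Z) (w : W) {η : Z} (h : η ⤳ ψ w) :
    ∃ ξ : W, ξ ⤳ w ∧ ψ ξ = η := by
  obtain ⟨_, ⟨V, hV, rfl⟩, hwV, -⟩ := Z.isBasis_affineOpens.exists_subset_of_mem_open (Set.mem_univ (ψ w)) isOpen_univ
  replace hV : IsAffineOpen V := hV
  have hU : IsAffineOpen (ψ ⁻¹ᵁ V) := hV.preimage ψ
  have hηV : η ∈ V := h.mem_open V.isOpen hwV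
  haveI : Nonempty V := ⟨⟨_, hwV⟩⟩
  haveI : Nonempty (ψ ⁻¹ᵁ V) := ⟨⟨w, hwV⟩⟩
  haveI : Nonempty (Scheme.Opens.toScheme (ψ ⁻¹ᵁ V)) := ⟨⟨w, hwV⟩⟩
  haveI : IsIntegrallyClosed Γ(Z, V) := (Groth.Agent.S9821.result Z).1 hZ V hV
  letI := (ψ.app V).hom.toAlgebra
  haveI : Algebra.IsIntegral Γ(Z, V) Γ(W, ψ ⁻¹ᵁ V) := ⟨IsIntegralHom.isIntegral_app (f := ψ) V hV⟩
  haveI : FaithfulSMul Γ(Z, V) Γ(W, ψ ⁻¹ᵁ V) := by
    refine (faithfulSMul_iff_algebraMap_injective _ _).2 ((injective_iff_map_eq_zero _).2 fun a ha => ?_)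
    apply Z.germToFunctionField_injective V
    rw [map_zero]
    have hg : genericPoint W ∈ ψ ⁻¹ᵁ V := ((genericPoint_spec W).mem_open_set_iff (ψ ⁻¹ᵁ V).isOpen).mpr ⟨w, trivial, hwV⟩
    have hf : ψ (genericPoint W) ∈ V := hg
    have key : (ψ.stalkMap (genericPoint W)).hom (Z.presheaf.germ V _ hf a) = 0 := by
      rw [Scheme.Hom.germ_stalkMap_apply]
      rw [show (ψ.app V).hom a = 0 from ha, map_zero]
    have h0 : Z.presheaf.germ V _ hf a = 0 := by
      refine (injective_iff_map_eq_zero _).1 ?_ _ key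
      haveI : Subsingleton (PrimeSpectrum (Z.presheaf.stalk (ψ (genericPoint W)))) := by
        refine ⟨fun p q => (Z.fromSpecStalk _).isEmbedding.injective ?_⟩
        have : ∀ r, Z.fromSpecStalk (ψ (genericPoint W)) r = genericPoint Z := fun r => by
          have hr : Z.fromSpecStalk (ψ (genericPoint W)) r ⤳ ψ (genericPoint W) := by
            have : Z.fromSpecStalk _ r ∈ Set.range (Z.fromSpecStalk (ψ (genericPoint W))) := ⟨r, rfl⟩
            rwa [Scheme.range_fromSpecStalk] at this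
          exact ((hr.trans (specializes_of_eq (apply_genericPoint_eq ψ))).antisymm ((genericPoint_spec Z).specializes trivial)).eq
        rw [this p, this q]
      letI : Field (Z.presheaf.stalk (ψ (genericPoint W))) :=
        (IsLocalRing.isField_iff_maximalIdeal_eq.mpr (by
          haveI : IsReduced Z := inferInstance
          rw [← le_bot_iff]
          intro b hb
          refine Submodule.mem_bot _ |>.2 (IsNilpotent.eq_zero ?_)
          rw [← mem_nilradical, nilradical_eq_sInf, Ideal.mem_sInf]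
          intro q hq
          exact (congrArg PrimeSpectrum.asIdeal (Subsingleton.elim
            (⟨q, hq⟩ : PrimeSpectrum _) (IsLocalRing.closedPoint _))).ge hb)).toField
      exact (ψ.stalkMap (genericPoint W)).hom.injective
    have he : ψ (genericPoint W) = genericPoint Z := apply_genericPoint_eq ψ
    exact ((Z.presheaf.germ_stalkSpecializes_apply hf (specializes_of_eq he.symm) a).symm.trans
      (by rw [h0, map_zero]))
  let q := hU.primeIdealOf ⟨w, hwV⟩
  let p := hV.primeIdealOf ⟨η, hηV⟩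
  have hnat : ∀ (r : PrimeSpectrum Γ(W, ψ ⁻¹ᵁ V)),
      hV.fromSpec (PrimeSpectrum.comap (ψ.app V).hom r) = ψ (hU.fromSpec r) := fun r => by
    show (Spec.map (ψ.app V) ≫ hV.fromSpec) r = (hU.fromSpec ≫ ψ) r
    rw [Scheme.Hom.app_eq_appLE, hV.SpecMap_appLE_fromSpec ψ hU]
  have hpq : p ≤ PrimeSpectrum.comap (ψ.app V).hom q := by
    rw [PrimeSpectrum.le_iff_specializes]
    refine hV.fromSpec.isEmbedding.isInducing.specializes_iff.1 ?_
    show hV.fromSpec p ⤳ hV.fromSpec (PrimeSpectrum.comap (ψ.app V).hom q)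
    rw [hnat, IsAffineOpen.fromSpec_primeIdealOf, IsAffineOpen.fromSpec_primeIdealOf]
    exact h
  haveI : q.asIdeal.LiesOver (q.asIdeal.under Γ(Z, V)) := ⟨rfl⟩
  obtain ⟨P, hPle, hP, hPl⟩ := Ideal.exists_ideal_le_liesOver_of_le (R := Γ(Z, V)) (S := Γ(W, ψ ⁻¹ᵁ V))
    (p := p.asIdeal) (q := q.asIdeal.under Γ(Z, V)) q.asIdeal hpq
  let r : PrimeSpectrum Γ(W, ψ ⁻¹ᵁ V) := ⟨P, hP⟩
  refine ⟨hU.fromSpec r, ?_, ?_⟩
  · have : hU.fromSpec r ⤳ hU.fromSpec q :=
      ((PrimeSpectrum.le_iff_specializes r q).1 hPle).map hU.fromSpec.continuous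
    rwa [IsAffineOpen.fromSpec_primeIdealOf] at this
  · rw [← hnat, show PrimeSpectrum.comap (ψ.app V).hom r = p from PrimeSpectrum.ext hPl.over.symm,
      IsAffineOpen.fromSpec_primeIdealOf]

end Groth.Agent.ModX56
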