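import Groth.Agent.ModX56.FiniteNormal
import Groth.Agent.FlatLocus.Basic
import Groth.Agent.S9346

/-!
# Finite surjective morphisms of normal surfaces are flat outside finitely many points
-/

set_option linter.style.haveILetI false

universe u

open CategoryTheory AlgebraicGeometry TopologicalSpace Order

namespace Groth.Agent.ModX56

theorem lfp_of_isLocallyNoetherian {X Y : Scheme.{u}} (f : X ⟶ Y) [IsLocallyNoetherian Y]
    [LocallyOfFiniteType f] : LocallyOfFinitePresentation f := by
  rw [HasRingHomProperty.iff_appLE (P := @LocallyOfFinitePresentation)]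
  intro U V e
  have hU : IsNoetherianRing Γ(Y, U) := IsLocallyNoetherian.component_noetherian U
  exact (RingHom.FinitePresentation.of_finiteType).1 (HasRingHomProperty.appLE @LocallyOfFiniteType f inferInstance U V e)

variable {X Y : Scheme.{u}} (f : X ⟶ Y) [IsIntegral X] [IsIntegral Y] [IsFinite f] [Surjective f]

theorem coheight_le_coheight (hY : Pi1.IsNormalScheme Y) (x : X) : coheight (f x) ≤ coheight x := by
  refine coheight_le_iff'.mpr fun p hp => ?_
  induction p using RelSeries.inductionOn generalizing x with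
  | singleton x => simp
  | cons p y hy ih =>
    simp only [RelSeries.head_cons] at hp
    have hlt : f x < p.head := hp ▸ hy
    obtain ⟨x', hx', he⟩ := exists_specializes_lift f hY x (show p.head ⤳ f x from hlt.le)
    have hlt' : x < x' := lt_iff_le_not_ge.2 ⟨hx', fun e => by
      have hxx : x = x' := ((show x ⤳ x' from e).antisymm (show x' ⤳ x from hx')).eq
      subst hxx
      exact hlt.not_ge (le_of_eq he.symm)⟩
    have h1 := ih x' he.symm
    have h2 := coheight_add_one_le hlt'
    simp only [RelSeries.cons_length, Nat.cast_add, Nat.cast_one]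
    exact le_trans (add_le_add h1 le_rfl) h2

theorem flat_stalkMap_of_dim_le_one [IsLocallyNoetherian Y] (hY : Pi1.IsNormalScheme Y) (x : X)
    (hle : ringKrullDim (Y.presheaf.stalk (f x)) ≤ 1) : (f.stalkMap x).hom.Flat := by
  haveI : IsDominant f := ⟨f.surjective.denseRange⟩
  obtain ⟨hd, hic⟩ := hY (f x)
  haveI := hd
  haveI := hic
  haveI : Ring.KrullDimLE 1 (Y.presheaf.stalk (f x)) := (Order.krullDimLE_iff _ _).2 (by exact_mod_cast hle)
  haveI : Ring.DimensionLEOne (Y.presheaf.stalk (f x)) :=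
    ⟨fun {p} hp hpp => Ideal.IsPrime.isMaximal_of_ne_bot hpp hp⟩
  haveI : IsDedekindDomain (Y.presheaf.stalk (f x)) := { }
  algebraize [(f.stalkMap x).hom]
  haveI : FaithfulSMul (Y.presheaf.stalk (f x)) (X.presheaf.stalk x) :=
    (faithfulSMul_iff_algebraMap_injective _ _).2 (Groth.Agent.S9346.stalkMap_injective f x)
  exact (inferInstance : Module.Flat (Y.presheaf.stalk (f x)) (X.presheaf.stalk x))

theorem exists_open_flat_cofinite [IsNoetherian Y] (hY : Pi1.IsNormalScheme Y)
    (hdX : topologicalKrullDim X = 2) (hdY : topologicalKrullDim Y = 2) :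
    ∃ V : Y.Opens, ((V : Set Y)ᶜ).Finite ∧ (∀ y : Y, y ∉ V → ringKrullDim (Y.presheaf.stalk y) = 2) ∧
      (((f ⁻¹ᵁ V : X.Opens) : Set X)ᶜ).Finite ∧ (∀ x : X, x ∉ f ⁻¹ᵁ V → ringKrullDim (X.presheaf.stalk x) = 2) ∧
      Flat (f ∣_ V) := by
  haveI := lfp_of_isLocallyNoetherian f
  have hopen := FlatLocus.isOpen_flat_locus f
  let V : Y.Opens := ⟨(f '' {x : X | (f.stalkMap x).hom.Flat}ᶜ)ᶜ, (f.isClosedMap _ hopen.isClosed_compl).isOpen_compl⟩
  have htop : ∀ {Z : Scheme.{u}}, topologicalKrullDim Z = 2 → ∀ z : Z, ringKrullDim (Z.presheaf.stalk z) ≤ 2 := by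
    intro Z hZ z
    rw [ringKrullDim_stalk_eq_coheight, ← hZ, topologicalKrullDim, Order.krullDim_eq_of_orderIso irreducibleSetEquivPoints]
    exact Order.coheight_le_krullDim _
  have hdim : ∀ y : Y, y ∉ V → ringKrullDim (Y.presheaf.stalk y) = 2 := fun y hy => by
    obtain ⟨x, hx, rfl⟩ := not_not.1 hy
    refine le_antisymm (htop hdY _) (not_lt.1 fun hlt => hx (flat_stalkMap_of_dim_le_one f hY x ?_))
    rw [ringKrullDim_stalk_eq_coheight] at hlt ⊢
    have h1 : coheight (f x) < ((2 : ℕ) : ℕ∞) := WithBot.coe_lt_coe.1 hlt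
    have h2 : coheight (f x) ≤ ((1 : ℕ) : ℕ∞) := by
      refine ENat.lt_add_one_iff (by simp) |>.1 ?_
      simpa [one_add_one_eq_two] using h1
    exact WithBot.coe_le_coe.2 h2
  have hclosedpt : ∀ y : Y, ringKrullDim (Y.presheaf.stalk y) = 2 → IsClosed ({y} : Set Y) := fun y hy => by
    rw [← closure_subset_iff_isClosed]
    intro z hz
    by_contra hne
    have hyz : y ⤳ z := specializes_iff_mem_closure.2 hz
    have hlt : z < y := lt_iff_le_not_ge.2 ⟨hyz, fun e => hne ((show z ⤳ y from e).antisymm hyz).eq⟩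
    have h1 := htop hdY z
    rw [ringKrullDim_stalk_eq_coheight] at h1 hy
    have hy2 : coheight y = 2 := WithBot.coe_eq_coe.1 hy
    have h3 := coheight_add_one_le hlt
    rw [hy2] at h3
    have h4 : coheight z ≤ 2 := WithBot.coe_le_coe.1 h1
    exact absurd (h3.trans h4) (by decide)
  have hfinY : ((V : Set Y)ᶜ).Finite := by
    obtain ⟨T, hT, hTcl, hTirr, hTU⟩ := NoetherianSpace.exists_finite_set_isClosed_irreducible (V.isOpen.isClosed_compl)
    rw [hTU]
    refine Set.Finite.sUnion hT fun t ht => ?_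
    obtain ⟨η, hη⟩ := QuasiSober.sober (hTirr t ht) (hTcl t ht)
    have hηV : η ∈ (V : Set Y)ᶜ := hTU.ge (Set.mem_sUnion_of_mem hη.mem ht)
    have hc : closure ({η} : Set Y) = {η} := (hclosedpt η (hdim η hηV)).closure_eq
    rw [← hη.def, hc]
    exact Set.finite_singleton η
  refine ⟨V, hfinY, hdim, ?_, ?_, ?_⟩
  · rw [show ((f ⁻¹ᵁ V : X.Opens) : Set X)ᶜ = f ⁻¹' ((V : Set Y)ᶜ) from rfl]
    exact hfinY.preimage' fun y _ => f.finite_preimage_singleton y
  · intro x hx
    refine le_antisymm (htop hdX x) ?_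
    have h2 := hdim (f x) hx
    rw [ringKrullDim_stalk_eq_coheight] at h2 ⊢
    rw [← h2]
    exact WithBot.coe_le_coe.2 (coheight_le_coheight f hY x)
  · refine (Flat.iff_flat_stalkMap _).mpr fun x => ?_
    refine ((RingHom.toMorphismProperty RingHom.Flat).arrow_mk_iso_iff (morphismRestrictStalkMap f V x)).2 ?_
    exact not_not.1 fun h => x.2 ⟨x.1, h, rfl⟩

end Groth.Agent.ModX56
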