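import Groth.Agent.MorLib.GenFinite
import Groth.Agent.MorLib.BddFib
import Groth.Agent.CycLib.Finite
import Groth.Agent.FibDim.BaseField
import Groth.Agent.DimFormula.Criteria
import Groth.Agent.ModX56.FlatCofinite
import Mathlib.AlgebraicGeometry.Morphisms.FlatRank
import Mathlib.AlgebraicGeometry.FunctionField

/-!
# Dominant morphisms of integral schemes with finite function field extension
-/

set_option linter.style.haveILetI false

universe u

open CategoryTheory CategoryTheory.Limits AlgebraicGeometry TopologicalSpace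

namespace Groth.Agent.ModX56

/-- The rank of a finite scheme over a field is the dimension of its ring of functions. -/
theorem finrank_sections_of_isFinite {K : CommRingCat.{u}} (hK : IsField K) {P : Scheme.{u}}
    (p : P ⟶ Spec K) [IsFinite p] (y : Spec K) :
    (letI := ((Scheme.ΓSpecIso K).inv ≫ p.appTop).hom.toAlgebra; Module.finrank K Γ(P, ⊤)) = p.finrank y := by
  haveI : IsAffine P := isAffine_of_isAffineHom p
  let φ := (Scheme.ΓSpecIso K).inv ≫ p.appTop
  haveI h1 := MorLib.BF.flat_to_field hK (Spec.map φ)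
  have e := MorLib.BF.eq_isoSpec_hom_comp p
  have h2 : IsFinite (Spec.map φ) := by
    have : IsFinite (P.isoSpec.inv ≫ p) := inferInstance
    rwa [e, Iso.inv_hom_id_assoc] at this
  haveI := h2
  have hf : φ.hom.Finite := (IsFinite.SpecMap_iff φ).mp h2
  conv_rhs => rw [e]
  rw [Scheme.Hom.finrank_comp_left_of_isIso]
  exact (MorLib.BF.finrank_SpecMap_of_isField hK φ hf y).symm

variable {X Y : Scheme.{u}}

theorem apply_genericPoint_of_isDominant [IsIntegral X] [IsIntegral Y] (f : X ⟶ Y) [IsDominant f] :
    f (genericPoint X) = genericPoint Y := by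
  refine ((genericPoint_spec X).image f.continuous).eq ?_
  have hcl : closure (f '' Set.univ) = ⊤ := by
    rw [Set.image_univ]; exact f.denseRange.closure_range
  rw [hcl]
  exact genericPoint_spec Y

/-- A dominant morphism between integral algebraic schemes of the same dimension has relative degree zero
at the generic point. -/
theorem rd_genericPoint_eq_zero {k : Type u} [Field k] [IsIntegral X] [IsIntegral Y]
    (sX : X ⟶ Spec (CommRingCat.of k)) (sY : Y ⟶ Spec (CommRingCat.of k)) [LocallyOfFiniteType sX]
    [LocallyOfFiniteType sY] (f : X ⟶ Y) [LocallyOfFiniteType f] [IsDominant f] (hf : f ≫ sY = sX)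
    (hdim : topologicalKrullDim X = topologicalKrullDim Y) : FibDim.rd f (genericPoint X) = 0 := by
  haveI : Subsingleton ↥(Spec (CommRingCat.of k)) := inferInstanceAs (Subsingleton (PrimeSpectrum k))
  have hd : ∀ {Z : Scheme.{u}} [IsIntegral Z] (s : Z ⟶ Spec (CommRingCat.of k)) [LocallyOfFiniteType s],
      topologicalKrullDim Z = ((FibDim.rd s (genericPoint Z) : ℕ∞) : WithBot ℕ∞) := by
    intro Z _ s _
    rw [← FibDim.topologicalKrullDim_closure s (genericPoint Z),
      (Homeomorph.setCongr (genericPoint_spec Z).def).isHomeomorph.topologicalKrullDim_eq]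
    exact (Homeomorph.Set.univ Z).symm.isHomeomorph.topologicalKrullDim_eq
  rw [hd sX, hd sY] at hdim
  have h1 := FibDim.rd_comp f sY (genericPoint X)
  rw [hf, apply_genericPoint_of_isDominant f] at h1
  have h2 : FibDim.rd sX (genericPoint X) = FibDim.rd sY (genericPoint Y) := by exact_mod_cast hdim
  omega

theorem eq_genericPoint_of_apply_eq [IsIntegral X] [IsLocallyNoetherian Y] (f : X ⟶ Y) [LocallyOfFiniteType f]
    (h : FibDim.rd f (genericPoint X) = 0) {z : X} (hz : f z = f (genericPoint X)) : z = genericPoint X := by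
  haveI := LocallyOfFiniteType.isLocallyNoetherian f
  have hs : genericPoint X ⤳ z := (genericPoint_spec X).specializes (Set.mem_univ z)
  have h1 := DimFormula.cd_add_rd_of_fibre f hs hz.symm
  exact ((DimFormula.cd_eq_zero_iff hs).1 (by omega)).symm

theorem isField_stalk_genericPoint [IsIntegral X] {x : X} (h : x = genericPoint X) :
    IsField (X.presheaf.stalk x) := by
  subst h
  exact Field.toIsField X.functionField

/-- Near the generic point the morphism is finite flat, with one point over the generic point. -/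
theorem exists_finite_flat_open [IsIntegral X] [IsIntegral Y] [IsLocallyNoetherian Y] (f : X ⟶ Y) [IsDominant f]
    [LocallyOfFiniteType f] [QuasiCompact f] [QuasiSeparated f] (h : FibDim.rd f (genericPoint X) = 0) :
    ∃ U : Y.Opens, f (genericPoint X) ∈ U ∧ IsFinite (f ∣_ U) ∧ Flat (f ∣_ U) := by
  haveI := LocallyOfFiniteType.isLocallyNoetherian f
  have hgen := apply_genericPoint_of_isDominant f
  have hη : f (genericPoint X) ∈ genericPoints Y := by
    rw [hgen, genericPoints_eq_singleton]
    rfl
  have hfib : f ⁻¹' {f (genericPoint X)} = {genericPoint X} :=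
    Set.eq_singleton_iff_unique_mem.2 ⟨rfl, fun z hz => eq_genericPoint_of_apply_eq f h hz⟩
  have hfin : (f ⁻¹' {f (genericPoint X)}).Finite := hfib ▸ Set.finite_singleton _
  obtain ⟨V, hV, hηV, -, hfinite⟩ := MorLib.GenFinite.exists_isFinite f hη hfin
    (fun x hx => MorLib.GenFinite.exists_open_of_finite_fibre f hfin x hx)
    (fun V₀ hV₀ hη₀ _ _ h₁ h₂ e₁ e₂ hne => MorLib.GenFinite.exists_avoid_inf f hη hV₀ hη₀ h₁ h₂ e₁ e₂ hne)
    ⊤ trivial
  haveI := hfinite
  haveI := lfp_of_isLocallyNoetherian (f ∣_ V)
  let T : Set V.toScheme := (f ∣_ V) '' {x | ((f ∣_ V).stalkMap x).hom.Flat}ᶜ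
  have hT : IsClosed T := (f ∣_ V).isClosedMap _ (FlatLocus.isOpen_flat_locus (f ∣_ V)).isClosed_compl
  let U₀ : V.toScheme.Opens := ⟨Tᶜ, hT.isOpen_compl⟩
  have hmem : (⟨f (genericPoint X), hηV⟩ : V.toScheme) ∈ U₀ := by
    rintro ⟨x, hx, hxe⟩
    refine hx ?_
    have hfield : IsField (V.toScheme.presheaf.stalk ((f ∣_ V) x)) := by
      refine MulEquiv.isField ?_ (V.stalkIso _).commRingCatIsoToRingEquiv.toMulEquiv
      refine isField_stalk_genericPoint ?_
      rw [hxe]
      exact hgen
    letI := hfield.toField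
    letI := ((f ∣_ V).stalkMap x).hom.toAlgebra
    exact (inferInstance : Module.Flat (V.toScheme.presheaf.stalk ((f ∣_ V) x)) ((f ⁻¹ᵁ V).toScheme.presheaf.stalk x))
  refine ⟨V.ι ''ᵁ U₀, ⟨_, hmem, rfl⟩, ?_, ?_⟩
  · refine ((MorphismProperty.arrow_mk_iso_iff @IsFinite (morphismRestrictRestrict f V U₀))).mp ?_
    infer_instance
  · refine ((MorphismProperty.arrow_mk_iso_iff @Flat (morphismRestrictRestrict f V U₀))).mp ?_
    rw [Flat.iff_flat_stalkMap]
    intro w
    have hw : ((f ∣_ V).stalkMap (((f ∣_ V) ⁻¹ᵁ U₀).ι w)).hom.Flat := by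
      by_contra hn
      exact w.2 ⟨_, hn, rfl⟩
    exact ((RingHom.Flat.respectsIso).arrow_mk_iso_iff (morphismRestrictStalkMap (f ∣_ V) U₀ w)).mpr hw

/-- The fibre over the image of the generic point is the spectrum of the function field. -/
theorem finrank_fibre_genericPoint [IsIntegral X] [IsIntegral Y] [IsLocallyNoetherian Y] (f : X ⟶ Y)
    [IsDominant f] [LocallyOfFiniteType f] (h : FibDim.rd f (genericPoint X) = 0) :
    (letI := ((Scheme.ΓSpecIso (Y.residueField (f (genericPoint X)))).inv ≫
        (pullback.snd f (Y.fromSpecResidueField (f (genericPoint X)))).appTop).hom.toAlgebra;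
      Module.finrank (Y.residueField (f (genericPoint X)))
        Γ(pullback f (Y.fromSpecResidueField (f (genericPoint X))), ⊤)) =
      (letI := (f.residueFieldMap (genericPoint X)).hom.toAlgebra;
        Module.finrank (Y.residueField (f (genericPoint X))) (X.residueField (genericPoint X))) := by
  set ξ := genericPoint X
  set η := f ξ
  have hP : ∀ p : f.fiber η, f.fiberι η p = ξ := fun p => by
    have : f.fiberι η p ∈ Set.range (f.fiberι η) := ⟨p, rfl⟩
    rw [Scheme.Hom.range_fiberι] at this
    exact eq_genericPoint_of_apply_eq f h this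
  haveI : Subsingleton ↥(f.fiber η) :=
    ⟨fun a b => (f.fiberι η).isEmbedding.injective ((hP a).trans (hP b).symm)⟩
  haveI : ∀ p : f.fiber η, _root_.IsReduced ((f.fiber η).presheaf.stalk p) := fun p => by
    have hbij : Function.Bijective ((f.fiberι η).stalkMap p).hom := by
      refine ⟨?_, (f.fiberι η).stalkMap_surjective p⟩
      letI := (isField_stalk_genericPoint (hP p)).toField
      exact RingHom.injective _
    haveI : IsDomain (X.presheaf.stalk (f.fiberι η p)) := (isField_stalk_genericPoint (hP p)).isDomain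
    exact isReduced_of_injective (RingEquiv.ofBijective _ hbij).symm
      (RingEquiv.ofBijective _ hbij).symm.injective
  haveI : IsReduced (f.fiber η) := isReduced_of_isReduced_stalk _
  let u : Spec (X.residueField ξ) ⟶ f.fiber η :=
    pullback.lift (X.fromSpecResidueField ξ) (Spec.map (f.residueFieldMap ξ))
      (Scheme.Hom.SpecMap_residueFieldMap_fromSpecResidueField f ξ).symm
  have hu1 : u ≫ f.fiberι η = X.fromSpecResidueField ξ := pullback.lift_fst _ _ _
  have hu2 : u ≫ f.fiberToSpecResidueField η = Spec.map (f.residueFieldMap ξ) :=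
    pullback.lift_snd _ _ _
  haveI : IsPreimmersion (u ≫ f.fiberι η) := by rw [hu1]; infer_instance
  haveI : IsPreimmersion u := IsPreimmersion.of_comp u (f.fiberι η)
  haveI : Nonempty ↥(Spec (X.residueField ξ)) := inferInstanceAs (Nonempty (PrimeSpectrum _))
  have hrange : Set.range u = Set.univ :=
    Set.eq_univ_of_forall fun p => ⟨Classical.arbitrary _, Subsingleton.elim _ _⟩
  haveI : IsClosedImmersion u := IsClosedImmersion.of_isPreimmersion u (hrange ▸ isClosed_univ)
  haveI : Surjective u := ⟨Set.range_eq_univ.1 hrange⟩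
  haveI : IsIso u := isIso_of_isClosedImmersion_of_surjective u
  let ψ : Γ(f.fiber η, ⊤) ⟶ X.residueField ξ := u.appTop ≫ (Scheme.ΓSpecIso _).hom
  have hψ : ((Scheme.ΓSpecIso (Y.residueField η)).inv ≫ (f.fiberToSpecResidueField η).appTop) ≫ ψ =
      f.residueFieldMap ξ := by
    have : (f.fiberToSpecResidueField η).appTop ≫ u.appTop = (Spec.map (f.residueFieldMap ξ)).appTop := by
      rw [← Scheme.Hom.comp_appTop, hu2]
    rw [show ψ = u.appTop ≫ (Scheme.ΓSpecIso _).hom from rfl]
    simp only [Category.assoc]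
    rw [reassoc_of% this, Scheme.ΓSpecIso_naturality, Iso.inv_hom_id_assoc]
  letI a1 := ((Scheme.ΓSpecIso (Y.residueField η)).inv ≫
    (f.fiberToSpecResidueField η).appTop).hom.toAlgebra
  letI a2 := (f.residueFieldMap ξ).hom.toAlgebra
  haveI : IsIso u.appTop := inferInstanceAs (IsIso (u.app ⊤))
  haveI : IsIso ψ := inferInstanceAs (IsIso (u.appTop ≫ (Scheme.ΓSpecIso _).hom))
  let e : Γ(f.fiber η, ⊤) →ₐ[Y.residueField η] X.residueField ξ :=
    { ψ.hom with commutes' := fun r => RingHom.congr_fun (congrArg CommRingCat.Hom.hom hψ) r }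
  exact (AlgEquiv.ofBijective e (ConcreteCategory.bijective_of_isIso ψ)).toLinearEquiv.finrank_eq

theorem finite_and_finrank_fibre [IsIntegral X] [IsIntegral Y] [IsLocallyNoetherian Y] (f : X ⟶ Y)
    [IsDominant f] [LocallyOfFiniteType f] [QuasiCompact f] [QuasiSeparated f]
    (h : FibDim.rd f (genericPoint X) = 0) :
    ∃ U : Y.Opens, Nonempty ↥U ∧ ∀ y : Y, y ∈ U →
      IsFinite (pullback.snd f (Y.fromSpecResidueField y)) ∧
        (letI := ((Scheme.ΓSpecIso (Y.residueField y)).inv ≫
            (pullback.snd f (Y.fromSpecResidueField y)).appTop).hom.toAlgebra;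
          Module.finrank (Y.residueField y) Γ(pullback f (Y.fromSpecResidueField y), ⊤)) =
        (letI := (f.residueFieldMap (genericPoint X)).hom.toAlgebra;
          Module.finrank (Y.residueField (f (genericPoint X))) (X.residueField (genericPoint X))) := by
  obtain ⟨U, hηU, hfin, hflat⟩ := exists_finite_flat_open f h
  haveI := hfin
  haveI := hflat
  haveI := lfp_of_isLocallyNoetherian (f ∣_ U)
  haveI : Nonempty U.toScheme := ⟨⟨_, hηU⟩⟩
  haveI : IsIntegral U.toScheme := inferInstance
  have key : ∀ (y : Y) (hy : y ∈ U), IsFinite (pullback.snd f (Y.fromSpecResidueField y)) ∧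
        (letI := ((Scheme.ΓSpecIso (Y.residueField y)).inv ≫
            (pullback.snd f (Y.fromSpecResidueField y)).appTop).hom.toAlgebra;
          Module.finrank (Y.residueField y) Γ(pullback f (Y.fromSpecResidueField y), ⊤)) =
        (f ∣_ U).finrank ⟨y, hy⟩ := by
    intro y hy
    let j := IsOpenImmersion.lift U.ι (Y.fromSpecResidueField y) (by
      rw [Scheme.range_fromSpecResidueField, Scheme.Opens.range_ι]
      exact Set.singleton_subset_iff.2 hy)
    have hj : j ≫ U.ι = Y.fromSpecResidueField y := IsOpenImmersion.lift_fac _ _ _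
    have hbig := (IsPullback.of_hasPullback (f ∣_ U) j).paste_horiz (isPullback_morphismRestrict f U).flip
    rw [hj] at hbig
    have he : pullback.snd f (Y.fromSpecResidueField y) = hbig.isoPullback.inv ≫ pullback.snd (f ∣_ U) j :=
      hbig.isoPullback_inv_snd.symm
    haveI : IsFinite (pullback.snd (f ∣_ U) j) := MorphismProperty.pullback_snd _ _ inferInstance
    haveI : Flat (pullback.snd (f ∣_ U) j) := MorphismProperty.pullback_snd _ _ inferInstance
    haveI hfin' : IsFinite (pullback.snd f (Y.fromSpecResidueField y)) := by rw [he]; infer_instance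
    refine ⟨hfin', ?_⟩
    let pt₀ : Spec (Y.residueField y) := IsLocalRing.closedPoint _
    rw [finrank_sections_of_isFinite (Field.toIsField _) _ pt₀, he, Scheme.Hom.finrank_comp_left_of_isIso,
      Scheme.Hom.finrank_pullback_snd]
    congr 1
    refine Subtype.ext ?_
    show U.ι (j pt₀) = y
    rw [← Scheme.Hom.comp_apply, hj]
    exact Set.eq_of_mem_singleton ((Scheme.range_fromSpecResidueField y).le ⟨pt₀, rfl⟩)
  refine ⟨U, ⟨⟨_, hηU⟩⟩, fun y hy => ⟨(key y hy).1, (key y hy).2.trans ?_⟩⟩
  rw [(f ∣_ U).isLocallyConstant_finrank.apply_eq_of_preconnectedSpace ⟨y, hy⟩ ⟨_, hηU⟩,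
    ← (key _ hηU).2]
  exact finrank_fibre_genericPoint f h

end Groth.Agent.ModX56
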