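import Groth.Agent.ModX56.Model
import Groth.Agent.SmallFlat.Misc
import Mathlib.AlgebraicGeometry.ValuativeCriterion
import Mathlib.AlgebraicGeometry.SpreadingOut

/-!
# A proper flat scheme over `C`, trivial on the generic fibre, is trivial near normal codimension one points
-/

set_option linter.style.haveILetI false

universe u

open CategoryTheory CategoryTheory.Limits AlgebraicGeometry TopologicalSpace IsLocalRing

namespace Groth.Agent.ModX56

variable {R : Type u} [CommRing R] [IsDomain R] [IsDiscreteValuationRing R]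

theorem fromSpecStalk_comp_eq {C : Scheme.{u}} (π : C ⟶ Spec (CommRingCat.of R)) (c : C) :
    C.fromSpecStalk c ≫ π =
      Spec.map (CommRingCat.ofHom ((C.presheaf.germ ⊤ c trivial).hom.comp (Coh.toGlobal π))) := by
  have h : C.fromSpecStalk c ≫ C.toSpecΓ = Spec.map (C.presheaf.germ ⊤ c trivial) :=
    Scheme.fromSpecStalk_toSpecΓ C c
  show _ = Spec.map ((Scheme.ΓSpecIso (CommRingCat.of R)).inv ≫ π.appTop ≫ C.presheaf.germ ⊤ c trivial)
  rw [Spec.map_comp, Spec.map_comp, ← h, Category.assoc, Category.assoc, ← Scheme.toSpecΓ_naturality_assoc,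
    ← SpecMap_ΓSpecIso_hom, ← Spec.map_comp, Iso.inv_hom_id, Spec.map_id, Category.comp_id]

theorem regular_stalk {Z : Scheme.{u}} (π : Z ⟶ Spec (CommRingCat.of R)) [Flat π] (z : Z) {a : R} (ha : a ≠ 0)
    {s : Z.presheaf.stalk z}
    (h : Z.presheaf.germ ⊤ z trivial (Coh.toGlobal π a) * s = 0) : s = 0 := by
  obtain ⟨U, hz, t, rfl⟩ := Z.presheaf.exists_germ_eq s
  have h' : Z.presheaf.germ U z hz (Z.presheaf.map (homOfLE (le_top : U ≤ ⊤)).op (Coh.toGlobal π a) * t) =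
      Z.presheaf.germ U z hz 0 := by
    rw [map_mul, map_zero, TopCat.Presheaf.germ_res_apply]
    exact h
  obtain ⟨W, hzW, iU, iV, hW⟩ := Z.presheaf.germ_eq z hz hz _ _ h'
  rw [map_zero, map_mul, ← ConcreteCategory.comp_apply, ← Z.presheaf.map_comp] at hW
  have h2 := toGlobal_mul_eq_zero π ha (U := W) (s := Z.presheaf.map iU.op t) hW
  rw [← Z.presheaf.germ_res_apply iU z hzW t, h2, map_zero]

/-- Two maps to `Z` over `C` landing over an open where `Z ≅ C` agree. -/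
theorem hom_eq_of_range_subset {Z C : Scheme.{u}} (h : Z ⟶ C) (W : C.Opens) [IsIso (h ∣_ W)]
    {T : Scheme.{u}} (v w : T ⟶ Z) (hvw : v ≫ h = w ≫ h) (hr : ∀ q : T, (v ≫ h) q ∈ W) : v = w := by
  have hv : Set.range v ⊆ Set.range (h ⁻¹ᵁ W).ι := by
    rw [Scheme.Opens.range_ι]
    rintro _ ⟨q, rfl⟩
    exact hr q
  have hw : Set.range w ⊆ Set.range (h ⁻¹ᵁ W).ι := by
    rw [Scheme.Opens.range_ι]
    rintro _ ⟨q, rfl⟩
    have := hr q
    rw [hvw] at this
    exact this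
  rw [← IsOpenImmersion.lift_fac _ v hv, ← IsOpenImmersion.lift_fac _ w hw]
  congr 1
  rw [← cancel_mono (h ∣_ W), ← cancel_mono W.ι]
  simp only [Category.assoc, morphismRestrict_ι, IsOpenImmersion.lift_fac_assoc]
  exact hvw

theorem exists_nhds_isIso {C Z : Scheme.{u}} (πC : C ⟶ Spec (CommRingCat.of R)) [Flat πC]
    [LocallyOfFiniteType πC] (h : Z ⟶ C) [IsProper h] [Flat (h ≫ πC)] {ϖ : R} (hϖ : Irreducible ϖ)
    (hgen : IsIso (h ∣_ (πC ⁻¹ᵁ (PrimeSpectrum.basicOpen ϖ))))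
    (c : C) (hdom : IsDomain (C.presheaf.stalk c)) (hnorm : IsIntegrallyClosed (C.presheaf.stalk c))
    (hdim : ringKrullDim (C.presheaf.stalk c) = 1) :
    ∃ V : C.Opens, c ∈ V ∧ IsIso (h ∣_ V) := by
  haveI := hgen
  haveI := hdom
  haveI := hnorm
  set W : C.Opens := πC ⁻¹ᵁ (PrimeSpectrum.basicOpen ϖ) with hWdef
  by_cases hcW : c ∈ W
  · exact ⟨W, hcW, inferInstance⟩
  haveI : IsLocallyNoetherian C := LocallyOfFiniteType.isLocallyNoetherian πC
  haveI : IsLocallyNoetherian Z := LocallyOfFiniteType.isLocallyNoetherian h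
  let A := C.presheaf.stalk c
  haveI : IsDomain A := hdom
  haveI : Ring.KrullDimLE 1 A := (Order.krullDimLE_iff _ _).2 (by exact_mod_cast hdim.le)
  haveI : Ring.DimensionLEOne A := ⟨fun {q} hq hqp => Ideal.IsPrime.isMaximal_of_ne_bot hqp hq⟩
  haveI : IsDedekindDomain A := { }
  have hnf : ¬ IsField A := fun hF => by
    rw [ringKrullDim_eq_zero_of_isField hF] at hdim
    exact zero_ne_one hdim
  haveI : IsDiscreteValuationRing A :=
    ((IsDiscreteValuationRing.TFAE A hnf).out 2 0).mp (inferInstance : IsDedekindDomain A)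
  let a₀ : A := C.presheaf.germ ⊤ c trivial (Coh.toGlobal πC ϖ)
  have ha₀ : a₀ ≠ 0 := fun h0 => one_ne_zero (regular_stalk πC c hϖ.ne_zero (s := 1) (by rw [mul_one]; exact h0))
  have hmemW : ∀ {B : CommRingCat.{u}} (ψ : A ⟶ B), IsUnit (ψ a₀) → ∀ q : Spec B,
      (Spec.map ψ ≫ C.fromSpecStalk c) q ∈ W := fun {B} ψ hψ q => by
    show (Spec.map ψ ≫ C.fromSpecStalk c ≫ πC) q ∈ PrimeSpectrum.basicOpen ϖ
    rw [fromSpecStalk_comp_eq, ← Spec.map_comp]
    exact fun hq => q.isPrime.ne_top (Ideal.eq_top_of_isUnit_mem _ hq hψ)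
  let K := FractionRing A
  let jK : A ⟶ CommRingCat.of K := CommRingCat.ofHom (algebraMap A K)
  have hjK : IsUnit (jK a₀) := IsUnit.mk0 _ (fun h0 => ha₀ (IsFractionRing.injective A K (by rw [map_zero]; exact h0)))
  let γ : Spec (CommRingCat.of K) ⟶ C := Spec.map jK ≫ C.fromSpecStalk c
  let γ' := IsOpenImmersion.lift W.ι γ (by
    rw [Scheme.Opens.range_ι]; rintro _ ⟨q, rfl⟩; exact hmemW jK hjK q)
  have hsq : CommSq (γ' ≫ inv (h ∣_ W) ≫ (h ⁻¹ᵁ W).ι) (Spec.map jK) h (C.fromSpecStalk c) :=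
    ⟨by simp only [Category.assoc, ← morphismRestrict_ι, IsIso.inv_hom_id_assoc]
        exact IsOpenImmersion.lift_fac _ _ _⟩
  have hex : ValuativeCriterion.Existence h := by
    have hu : UniversallyClosed h := inferInstance
    rw [UniversallyClosed.eq_valuativeCriterion] at hu
    exact hu.1
  obtain ⟨⟨⟨l, hl1, hl2⟩⟩⟩ := hex { R := A, commRing := A.commRing, domain := hdom, valuationRing := inferInstance, K := K, i₁ := γ' ≫ inv (h ∣_ W) ≫ (h ⁻¹ᵁ W).ι, i₂ := C.fromSpecStalk c, commSq := hsq }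
  let z : Z := l (closedPoint A)
  have hzc : h z = c := by
    show (l ≫ h) (closedPoint A) = c
    rw [hl2]
    exact Scheme.fromSpecStalk_closedPoint
  let φ : Z.presheaf.stalk z ⟶ A := Scheme.stalkClosedPointTo l
  have hφ : Spec.map φ ≫ Z.fromSpecStalk z = l := Scheme.Spec_stalkClosedPointTo_fromSpecStalk l
  let α : A ⟶ Z.presheaf.stalk z :=
    C.presheaf.stalkSpecializes (specializes_of_eq hzc) ≫ h.stalkMap z
  have hα : Spec.map α ≫ C.fromSpecStalk c = Z.fromSpecStalk z ≫ h := by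
    rw [Spec.map_comp, Category.assoc, Scheme.SpecMap_stalkSpecializes_fromSpecStalk,
      Scheme.SpecMap_stalkMap_fromSpecStalk]
  have hαφ : α ≫ φ = 𝟙 _ := Spec.map_injective <| by
    rw [← cancel_mono (C.fromSpecStalk c), Spec.map_comp, Category.assoc, hα, Spec.map_id, Category.id_comp]
    exact (Category.assoc _ _ _).symm.trans ((congrArg (· ≫ h) hφ).trans hl2)
  have hαa : α a₀ = Z.presheaf.germ ⊤ z trivial (Coh.toGlobal (h ≫ πC) ϖ) := by
    show (h.stalkMap z) ((C.presheaf.stalkSpecializes (specializes_of_eq hzc)) a₀) = _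
    rw [TopCat.Presheaf.germ_stalkSpecializes_apply, Scheme.Hom.germ_stalkMap_apply]
    rfl
  have hφα : φ ≫ α = 𝟙 _ := by
    let r₀ : Z.presheaf.stalk z := α a₀
    let B := Localization.Away r₀
    let ι : Z.presheaf.stalk z ⟶ CommRingCat.of B := CommRingCat.ofHom (algebraMap (Z.presheaf.stalk z) B)
    have hu : IsUnit (ι (α a₀)) :=
      IsLocalization.map_units B (⟨r₀, 1, pow_one _⟩ : Submonoid.powers r₀)
    have key : Spec.map ι ≫ Z.fromSpecStalk z = Spec.map ((φ ≫ α) ≫ ι) ≫ Z.fromSpecStalk z := by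
      refine hom_eq_of_range_subset h W _ _ ?_ fun q => ?_
      · simp only [Category.assoc, ← hα, ← Spec.map_comp_assoc]
        rw [reassoc_of% hαφ]
      · rw [Category.assoc, ← hα, ← Spec.map_comp_assoc]
        exact hmemW (α ≫ ι) hu q
    ext x
    obtain ⟨⟨_, n, rfl⟩, hn⟩ := IsLocalization.exists_of_eq (M := Submonoid.powers r₀) (S := B)
      (show algebraMap (Z.presheaf.stalk z) B ((φ ≫ α).hom x) = algebraMap (Z.presheaf.stalk z) B x from
        (congrArg (fun ψ : Z.presheaf.stalk z ⟶ CommRingCat.of B => ψ x)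
          (Spec.map_injective ((cancel_mono (Z.fromSpecStalk z)).1 key))).symm)
    refine sub_eq_zero.1 (regular_stalk (h ≫ πC) z (pow_ne_zero n hϖ.ne_zero) ?_)
    have e : Z.presheaf.germ ⊤ z trivial (Coh.toGlobal (h ≫ πC) (ϖ ^ n)) = r₀ ^ n :=
      (map_pow ((Z.presheaf.germ ⊤ z trivial).hom.comp (Coh.toGlobal (h ≫ πC))) ϖ n).trans
        (congrArg (· ^ n) hαa.symm)
    rw [e, mul_sub, sub_eq_zero]
    exact hn
  haveI : IsIso α := ⟨φ, hαφ, hφα⟩
  obtain ⟨U, hcU, σ, hσl, hσh⟩ := spread_out_of_isGermInjective' (sX := 𝟙 C) (sY := h) (x := c) l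
    (by rw [hl2, Category.comp_id])
  rw [Category.comp_id] at hσh
  let u₀ : U.toScheme := ⟨c, hcU⟩
  have hσu : σ u₀ = z := by
    show _ = l (closedPoint A)
    rw [hσl, Scheme.Hom.comp_apply]
    congr 1
    apply U.ι.isOpenEmbedding.injective
    rw [← Scheme.Hom.comp_apply, Scheme.Opens.fromSpecStalkOfMem_ι, Scheme.fromSpecStalk_closedPoint]
    rfl
  have hσrange : Set.range σ ⊆ Set.range (h ⁻¹ᵁ U).ι := by
    rw [Scheme.Opens.range_ι]
    rintro _ ⟨q, rfl⟩
    show (σ ≫ h) q ∈ U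
    rw [hσh]
    exact q.2
  let σ' : U.toScheme ⟶ (h ⁻¹ᵁ U).toScheme := IsOpenImmersion.lift (h ⁻¹ᵁ U).ι σ hσrange
  have hσ'ι : σ' ≫ (h ⁻¹ᵁ U).ι = σ := IsOpenImmersion.lift_fac _ _ _
  have hσ' : σ' ≫ (h ∣_ U) = 𝟙 _ := by
    rw [← cancel_mono U.ι, Category.assoc, morphismRestrict_ι, reassoc_of% hσ'ι, hσh, Category.id_comp]
  haveI : IsClosedImmersion (σ' ≫ (h ∣_ U)) := by rw [hσ']; infer_instance
  haveI : IsClosedImmersion σ' := IsClosedImmersion.of_comp σ' (h ∣_ U)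
  haveI : LocallyOfFinitePresentation σ' := by
    haveI : IsLocallyNoetherian (h ⁻¹ᵁ U).toScheme := inferInstance
    rw [HasRingHomProperty.iff_appLE (P := @LocallyOfFinitePresentation)]
    intro V V' e
    have hV : IsNoetherianRing Γ((h ⁻¹ᵁ U).toScheme, V) := IsLocallyNoetherian.component_noetherian V
    exact (RingHom.FinitePresentation.of_finiteType).1
      (HasRingHomProperty.appLE @LocallyOfFiniteType σ' inferInstance V V' e)
  have hflat : (σ'.stalkMap u₀).hom.Flat := by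
    have hbij : Function.Bijective (σ'.stalkMap u₀).hom := by
      refine ⟨?_, σ'.stalkMap_surjective u₀⟩
      have hσi : Function.Injective (σ.stalkMap u₀).hom := by
        have h1 : Function.Bijective (h.stalkMap (σ u₀)).hom := by
          rw [show σ u₀ = z from hσu]
          have : IsIso (h.stalkMap z) := by
            haveI : IsIso (C.presheaf.stalkSpecializes (specializes_of_eq hzc)) :=
              inferInstanceAs (IsIso (C.presheaf.stalkCongr (.of_eq hzc.symm)).hom)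
            exact IsIso.of_isIso_comp_left (C.presheaf.stalkSpecializes (specializes_of_eq hzc)) _
          exact ConcreteCategory.bijective_of_isIso (h.stalkMap z)
        haveI : IsIso ((σ ≫ h).stalkMap u₀) := by rw [hσh]; infer_instance
        have h2 := ConcreteCategory.bijective_of_isIso ((σ ≫ h).stalkMap u₀)
        rw [Scheme.Hom.stalkMap_comp] at h2
        intro x y hxy
        obtain ⟨x', rfl⟩ := h1.2 x
        obtain ⟨y', rfl⟩ := h1.2 y
        rw [h2.1 hxy]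
      have h3 := Scheme.Hom.stalkMap_congr_hom _ _ hσ'ι u₀
      rw [Scheme.Hom.stalkMap_comp] at h3
      intro x y hxy
      obtain ⟨x', rfl⟩ := (ConcreteCategory.bijective_of_isIso ((h ⁻¹ᵁ U).ι.stalkMap (σ' u₀))).2 x
      obtain ⟨y', rfl⟩ := (ConcreteCategory.bijective_of_isIso ((h ⁻¹ᵁ U).ι.stalkMap (σ' u₀))).2 y
      have hx := RingHom.congr_fun (congrArg CommRingCat.Hom.hom h3) x'
      have hy := RingHom.congr_fun (congrArg CommRingCat.Hom.hom h3) y'
      simp only [CommRingCat.hom_comp, RingHom.comp_apply] at hx hy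
      rw [hx, hy] at hxy
      rw [(ConcreteCategory.bijective_of_isIso (Z.presheaf.stalkCongr (.of_eq
        (show (σ' ≫ (h ⁻¹ᵁ U).ι) u₀ = σ u₀ by rw [hσ'ι]))).hom).1 (hσi hxy)]
    exact RingHom.Flat.of_bijective hbij
  obtain ⟨O, hO, hOiso⟩ := SmallFlat.exists_isIso_restrict_of_flat_at σ' u₀ hflat
  have hσsurj : Function.Surjective σ' := by
    intro w
    let wZ : Z := (h ⁻¹ᵁ U).ι w
    have hw' : wZ ∈ h ⁻¹ᵁ U := w.2
    have hreg : ∀ y : Z.presheaf.stalk wZ, Z.presheaf.germ ⊤ wZ trivial (Coh.toGlobal (h ≫ πC) ϖ) * y = 0 → y = 0 :=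
      fun y => regular_stalk (h ≫ πC) wZ hϖ.ne_zero
    obtain ⟨⟨P, hP⟩⟩ := Ideal.nonempty_minimalPrimes (I := (⊥ : Ideal (Z.presheaf.stalk wZ))) bot_ne_top
    haveI := hP.1.1
    have hnot : Z.presheaf.germ ⊤ wZ trivial (Coh.toGlobal (h ≫ πC) ϖ) ∉ P :=
      fun hm => Set.disjoint_left.1 (Ideal.disjoint_nonZeroDivisors_of_mem_minimalPrimes hP) hm
        (mem_nonZeroDivisors_iff_right.2 fun y hy => hreg y (by rw [mul_comm]; exact hy))
    let g : Z := Z.fromSpecStalk wZ ⟨P, inferInstance⟩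
    have hgw : g ⤳ wZ := by
      have : g ∈ Set.range (Z.fromSpecStalk wZ) := ⟨_, rfl⟩
      rwa [Scheme.range_fromSpecStalk] at this
    have hgU : g ∈ h ⁻¹ᵁ U := hgw.mem_open (h ⁻¹ᵁ U).isOpen hw'
    have hgW : h g ∈ W := by
      show (Z.fromSpecStalk wZ ≫ h ≫ πC) ⟨P, inferInstance⟩ ∈ PrimeSpectrum.basicOpen ϖ
      rw [fromSpecStalk_comp_eq]
      exact hnot
    have hgσ : (⟨g, hgU⟩ : (h ⁻¹ᵁ U).toScheme) ∈ Set.range σ' := by
      refine ⟨⟨h g, hgU⟩, Subtype.ext ?_⟩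
      have h4 : h (σ ⟨h g, hgU⟩) = h g := by
        rw [← Scheme.Hom.comp_apply, hσh]; rfl
      have e1 : ((σ' ⟨h g, hgU⟩).1 : Z) = σ ⟨h g, hgU⟩ := by
        rw [← hσ'ι]; rfl
      rw [e1]
      have hinj : Function.Injective (h ∣_ W) := (h ∣_ W).homeomorph.injective
      have h5 : (⟨σ ⟨h g, hgU⟩, show h _ ∈ W from h4.symm.subst (motive := fun t => t ∈ W) hgW⟩ : (h ⁻¹ᵁ W).toScheme) = ⟨g, hgW⟩ := hinj (Subtype.ext (by
        simpa only [morphismRestrict_base, Set.restrictPreimage_coe] using h4))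
      exact congrArg Subtype.val h5
    exact σ'.isClosedEmbedding.isClosed_range.stableUnderSpecialization
      ((subtype_specializes_iff (⟨g, hgU⟩ : (h ⁻¹ᵁ U).toScheme) w).2 hgw) hgσ
  let V₀ : U.toScheme.Opens := σ' ⁻¹ᵁ O
  have hpre : (h ∣_ U) ⁻¹ᵁ V₀ = O := by
    ext w
    obtain ⟨v, rfl⟩ := hσsurj w
    show σ' ((σ' ≫ (h ∣_ U)) v) ∈ O ↔ σ' v ∈ O
    rw [hσ']; rfl
  haveI : IsIso ((h ∣_ U) ∣_ V₀) := by
    haveI := hOiso
    let e : ((h ∣_ U) ⁻¹ᵁ V₀).toScheme ≅ O.toScheme := Scheme.isoOfEq _ hpre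
    have hcomp : (h ∣_ U) ∣_ V₀ = e.hom ≫ inv (σ' ∣_ O) := by
      rw [← cancel_mono V₀.ι, morphismRestrict_ι, Category.assoc]
      have : inv (σ' ∣_ O) ≫ V₀.ι = O.ι ≫ (h ∣_ U) := by
        rw [IsIso.inv_comp_eq, ← Category.assoc, morphismRestrict_ι, Category.assoc, hσ', Category.comp_id]
      rw [this, Scheme.isoOfEq_hom_ι_assoc]
    rw [hcomp]; infer_instance
  refine ⟨U.ι ''ᵁ V₀, ⟨u₀, hO, rfl⟩, ?_⟩
  exact ((MorphismProperty.isomorphisms Scheme).arrow_mk_iso_iff (morphismRestrictRestrict h U V₀)).1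
    (inferInstanceAs (IsIso ((h ∣_ U) ∣_ V₀)))

end Groth.Agent.ModX56
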