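import Groth.Agent.ModX56.Gamma
import Groth.Agent.ModX56.Model
import Groth.Agent.ModX56.Fibre
import Groth.Agent.ModX56.FiniteNormal
import Groth.Agent.ModX56.IsoNear
import Groth.Agent.S1297
import Groth.Agent.GeomField.GlobalFunctions
import Groth.Agent.H23.GeomConnGamma
import Groth.Agent.CurveCohLib.SmoothCurve
import Mathlib.RingTheory.PrincipalIdealDomainOfPrime
import Mathlib.RingTheory.Localization.BaseChange

/-!
# Stalks at generic points of reduced special fibres, after extending the base
-/

set_option linter.style.haveILetI false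

universe u

open CategoryTheory CategoryTheory.Limits AlgebraicGeometry TopologicalSpace IsLocalRing
open scoped TensorProduct

namespace Groth.Agent.ModX56

variable {R : Type u} [CommRing R] [IsDomain R] [IsDiscreteValuationRing R]

/-- The constants, as global functions. -/
noncomputable abbrev glob {A : Type u} [CommRing A] {X : Scheme.{u}} (p : X ⟶ Spec (CommRingCat.of A)) : A →+* Γ(X, ⊤) :=
  Coh.toGlobal p

/-- A global function divisible by a non-zero constant in every local ring is divisible by it. -/
theorem exists_toGlobal_mul_eq {X : Scheme.{u}} (p : X ⟶ Spec (CommRingCat.of R)) [Flat p] {a : R} (ha : a ≠ 0)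
    (s : Γ(X, ⊤)) (h : ∀ x : X, ∃ t, strHom p x a * t = X.presheaf.germ ⊤ x trivial s) :
    ∃ t : Γ(X, ⊤), glob p a * t = s := by
  have key : ∀ x : X, ∃ (V : X.Opens) (_ : x ∈ V) (t : Γ(X, V)),
      X.presheaf.map (homOfLE (le_top : V ≤ ⊤)).op (glob p a) * t =
        X.presheaf.map (homOfLE (le_top : V ≤ ⊤)).op s := by
    intro x
    obtain ⟨t, ht⟩ := h x
    obtain ⟨U, hxU, t', rfl⟩ := X.presheaf.exists_germ_eq t
    have h' : X.presheaf.germ U x hxU (X.presheaf.map (homOfLE (le_top : U ≤ ⊤)).op (glob p a) * t') =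
        X.presheaf.germ U x hxU (X.presheaf.map (homOfLE (le_top : U ≤ ⊤)).op s) := by
      rw [map_mul, TopCat.Presheaf.germ_res_apply, TopCat.Presheaf.germ_res_apply]
      exact ht
    obtain ⟨W, hxW, i₁, i₂, hW⟩ := X.presheaf.germ_eq x hxU hxU _ _ h'
    refine ⟨W, hxW, X.presheaf.map i₁.op t', ?_⟩
    rw [map_mul, ← ConcreteCategory.comp_apply, ← X.presheaf.map_comp,
      ← ConcreteCategory.comp_apply, ← X.presheaf.map_comp] at hW
    exact hW
  choose V hxV t ht using key
  have hcompat : TopCat.Presheaf.IsCompatible X.presheaf V t := by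
    intro x y
    refine sub_eq_zero.1 (toGlobal_mul_eq_zero p ha ?_)
    rw [mul_sub, sub_eq_zero]
    have hx := congrArg (X.presheaf.map (Opens.infLELeft (V x) (V y)).op) (ht x)
    have hy := congrArg (X.presheaf.map (Opens.infLERight (V x) (V y)).op) (ht y)
    rw [map_mul, ← ConcreteCategory.comp_apply, ← X.presheaf.map_comp, ← ConcreteCategory.comp_apply,
      ← X.presheaf.map_comp] at hx hy
    exact hx.trans hy.symm
  obtain ⟨t₀, ht₀, -⟩ := X.sheaf.existsUnique_gluing' V ⊤ (fun x => homOfLE le_top)
    (fun x _ => Opens.mem_iSup.mpr ⟨x, hxV x⟩) t hcompat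
  refine ⟨t₀, X.sheaf.eq_of_locally_eq' V ⊤ (fun x => homOfLE le_top)
    (fun x _ => Opens.mem_iSup.mpr ⟨x, hxV x⟩) _ _ fun x => ?_⟩
  show X.presheaf.map _ _ = X.presheaf.map _ _
  rw [map_mul]
  have h1 : X.presheaf.map (homOfLE (le_top : V x ≤ ⊤)).op t₀ = t x := ht₀ x
  exact (congrArg _ h1).trans (ht x)

variable {X : Scheme.{u}} (f : X ⟶ Spec (CommRingCat.of R)) [IsProper f] [Flat f]

/-- A proper flat scheme over a DVR with algebraically closed residue field and connected reduced closed
fibre has only constant global functions. -/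
theorem bijective_appTop_of_closedFibre [IsAlgClosed (ResidueField R)] {Xs : Scheme.{u}} (gs : Xs ⟶ X)
    (fs : Xs ⟶ Spec (CommRingCat.of (ResidueField R)))
    (hs : IsPullback gs fs f (Spec.map (CommRingCat.ofHom (residue R)))) [ConnectedSpace Xs] [IsReduced Xs] :
    Function.Bijective f.appTop := by
  haveI : IsProper fs := MorphismProperty.of_isPullback (P := @IsProper) hs inferInstance
  let ρ : R →+* Γ(X, ⊤) := glob f
  have hi := ConcreteCategory.bijective_of_isIso (Scheme.ΓSpecIso (CommRingCat.of R)).inv
  refine (Function.Bijective.of_comp_iff _ hi).1 (show Function.Bijective ρ from ⟨?_, ?_⟩)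
  · refine (injective_iff_map_eq_zero _).2 fun a ha => by_contra fun ha0 => ?_
    have h1 : (1 : Γ(X, ⊤)) = 0 := toGlobal_mul_eq_zero f ha0 (U := ⊤) (by
      rw [mul_one]; exact (congrArg _ ha).trans (map_zero _))
    haveI : Nonempty (⊤ : X.Opens) := ⟨⟨gs (Classical.arbitrary Xs), trivial⟩⟩
    exact one_ne_zero h1
  obtain ⟨ϖ, hϖ⟩ := IsDiscreteValuationRing.exists_irreducible R
  have hm : maximalIdeal R = Ideal.span {ϖ} := (IsDiscreteValuationRing.irreducible_iff_uniformizer ϖ).1 hϖ
  letI : Xs.Over (Spec (CommRingCat.of (ResidueField R))) := ⟨fs⟩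
  haveI : UniversallyClosed (Xs ↘ Spec (CommRingCat.of (ResidueField R))) := inferInstanceAs (UniversallyClosed fs)
  letI := GeomField.globalAlgebra (ResidueField R) Xs
  haveI := GeomField.algebraMap_integral (ResidueField R) Xs
  letI : Field Γ(Xs, ⊤) := (GeomField.isField_globalFunctions (ResidueField R) Xs).toField
  have hk : Function.Surjective (fun c => fs.appTop ((Scheme.ΓSpecIso (CommRingCat.of (ResidueField R))).inv c)) :=
    (IsAlgClosed.algebraMap_bijective_of_isIntegral (k := ResidueField R) (K := Γ(Xs, ⊤))).2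
  have hsq : ∀ r : R, gs.appTop (ρ r) =
      fs.appTop ((Scheme.ΓSpecIso (CommRingCat.of (ResidueField R))).inv (residue R r)) := fun r => by
    have h := congrArg (fun (φ : Xs ⟶ Spec (CommRingCat.of R)) =>
      φ.appTop ((Scheme.ΓSpecIso (CommRingCat.of R)).inv r)) hs.w
    simp only [Scheme.Hom.comp_appTop, ConcreteCategory.comp_apply] at h
    refine h.trans (congrArg fs.appTop ?_)
    exact (ConcreteCategory.congr_hom (Scheme.ΓSpecIso_inv_naturality (CommRingCat.ofHom (residue R))) r).symm
  have hstep : ∀ s : Γ(X, ⊤), ∃ r t, s = ρ r + ρ ϖ * t := by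
    intro s
    obtain ⟨c, hc⟩ := hk (gs.appTop s)
    obtain ⟨r, rfl⟩ := IsLocalRing.residue_surjective c
    have h0 : gs.appTop (s - ρ r) = 0 := by
      rw [map_sub, hsq, sub_eq_zero]
      exact hc.symm
    obtain ⟨t, ht⟩ := exists_toGlobal_mul_eq f hϖ.ne_zero (s - ρ r) (by
      intro x
      by_cases hx : IsUnit (strHom f x ϖ)
      · exact ⟨hx.unit⁻¹.1 * X.presheaf.germ ⊤ x trivial (s - ρ r), by
          rw [← mul_assoc, IsUnit.mul_val_inv, one_mul]⟩
      · have hxs : x ∈ Set.range gs := by
          have e := hs.isoPullback_hom_fst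
          rw [← e]
          simp only [Scheme.Hom.comp_base, TopCat.coe_comp]
          rw [Set.range_comp, hs.isoPullback.hom.surjective.range_eq, Set.image_univ, Scheme.Pullback.range_fst]
          refine ⟨IsLocalRing.closedPoint _, ?_⟩
          by_contra hne
          apply hx
          have hmem : f x ∈ (PrimeSpectrum.basicOpen ϖ : Set (PrimeSpectrum R)) := by
            rw [← range_genIncl R hϖ, range_genIncl_eq_compl]
            refine fun hc => hne ?_
            rw [hc]
            refine PrimeSpectrum.ext ?_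
            show Ideal.comap (residue R) (maximalIdeal (ResidueField R)) = maximalIdeal R
            rw [IsLocalRing.maximalIdeal_eq_bot, ← RingHom.ker_eq_comap_bot, IsLocalRing.ker_residue]
          have : x ∈ X.basicOpen (Coh.toGlobal f ϖ) := by
            rw [← preimage_basicOpen_toGlobal]; exact hmem
          exact (Scheme.mem_basicOpen X (U := ⊤) (Coh.toGlobal f ϖ) x trivial).1 this
        obtain ⟨z, rfl⟩ := hxs
        have hz : X.presheaf.germ ⊤ (gs z) trivial (s - ρ r) ∈ RingHom.ker (gs.stalkMap z).hom := by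
          rw [RingHom.mem_ker]
          refine (Scheme.Hom.germ_stalkMap_apply gs ⊤ z trivial (s - ρ r)).trans ?_
          rw [show gs.app ⊤ (s - ρ r) = 0 from h0, map_zero]
        rw [ker_stalkMap_closedFibre f IsLocalRing.residue_surjective hs, hm, Ideal.map_span, Set.image_singleton,
          Ideal.mem_span_singleton'] at hz
        obtain ⟨t, ht⟩ := hz
        exact ⟨t, by rw [mul_comm]; exact ht⟩)
    exact ⟨r, t, by rw [show ρ ϖ * t = s - ρ r from ht, add_sub_cancel]⟩
  letI : Algebra R Γ(X, ⊤) := ρ.toAlgebra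
  haveI : Module.Finite R Γ(X, ⊤) :=
    RingHom.Finite.comp (S1297.finite_appTop f) (RingHom.Finite.of_surjective _ hi.2)
  have htop : (⊤ : Submodule R Γ(X, ⊤)) ≤ LinearMap.range (Algebra.linearMap R Γ(X, ⊤)) := by
    refine Submodule.le_of_le_smul_of_le_jacobson_bot Module.Finite.fg_top
      (IsLocalRing.maximalIdeal_le_jacobson ⊥) fun s _ => ?_
    obtain ⟨r, t, rfl⟩ := hstep s
    refine Submodule.add_mem_sup ⟨r, rfl⟩ ?_
    rw [show ρ ϖ * t = ϖ • t from (Algebra.smul_def ϖ t).symm]
    exact Submodule.smul_mem_smul (hm ▸ Ideal.mem_span_singleton_self ϖ) trivial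
  exact fun s => htop (Submodule.mem_top (x := s))

variable {XK : Scheme.{u}} {gK : XK ⟶ X} {fK : XK ⟶ Spec (CommRingCat.of (FractionRing R))}
  (hK : IsPullback gK fK f (genIncl R))

include hK

theorem geometricallyConnected_genericFibre (hf : Function.Bijective f.appTop) : GeometricallyConnected fK := by
  haveI : IsProper fK := MorphismProperty.of_isPullback (P := @IsProper) hK inferInstance
  refine H23.GeomConnGamma.geometricallyConnected_of_gamma fK ?_
  have h := bijective_appTop_baseChange f hf (algebraMap R (FractionRing R))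
    (RingHom.flat_algebraMap_iff.mpr (IsLocalization.flat _ (nonZeroDivisors R)))
  rw [← hK.isoPullback_hom_snd, Scheme.Hom.comp_appTop]
  haveI : IsIso hK.isoPullback.hom.appTop := inferInstanceAs (IsIso (hK.isoPullback.hom.app ⊤))
  exact (ConcreteCategory.bijective_of_isIso hK.isoPullback.hom.appTop).comp h

theorem isField_algebraicClosure_tensor [Smooth fK] [ConnectedSpace XK] (hf : Function.Bijective f.appTop)
    (x : X) (B : Type u) [CommRing B] [IsDomain B] [IsDiscreteValuationRing B] [Algebra R B]
    (e : X.presheaf.stalk x ≅ CommRingCat.of B) (he : e.hom.hom.comp (strHom f x) = algebraMap R B)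
    (hmax : maximalIdeal B = (maximalIdeal R).map (algebraMap R B)) :
    IsField (AlgebraicClosure (FractionRing R) ⊗[R] B) := by
  obtain ⟨ϖ, hϖ⟩ := IsDiscreteValuationRing.exists_irreducible R
  have hm : maximalIdeal R = Ideal.span {ϖ} := (IsDiscreteValuationRing.irreducible_iff_uniformizer ϖ).1 hϖ
  rw [hm, Ideal.map_span, Set.image_singleton] at hmax
  have hb : Irreducible (algebraMap R B ϖ) := (IsDiscreteValuationRing.irreducible_iff_uniformizer _).2 hmax
  have hinjB : Function.Injective (algebraMap R B) := by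
    refine (injective_iff_map_eq_zero _).2 fun a ha => by_contra fun ha0 => ?_
    obtain ⟨n, v, rfl⟩ := IsDiscreteValuationRing.eq_unit_mul_pow_irreducible ha0 hϖ
    rw [map_mul, map_pow] at ha
    rcases mul_eq_zero.1 ha with h | h
    · exact (v.isUnit.map (algebraMap R B)).ne_zero h
    · exact pow_ne_zero n hb.ne_zero h
  let K := FractionRing R
  let L := FractionRing B
  let F := AlgebraicClosure K
  letI : Algebra K L := (IsFractionRing.lift (g := algebraMap R L)
    (by rw [IsScalarTower.algebraMap_eq R B L]; exact (IsFractionRing.injective B L).comp hinjB)).toAlgebra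
  haveI : IsScalarTower R K L := IsScalarTower.of_algebraMap_eq fun r => (IsFractionRing.lift_algebraMap _ r).symm
  -- the spectrum of `L` as a point of the generic fibre
  let i : Spec (CommRingCat.of L) ⟶ X :=
    Spec.map (CommRingCat.ofHom (algebraMap B L)) ≫ Spec.map e.hom ≫ X.fromSpecStalk x
  have hif : i ≫ f = Spec.map (CommRingCat.ofHom (algebraMap R L)) := by
    simp only [i, Category.assoc, fromSpecStalk_comp_eq, ← Spec.map_comp]
    congr 1
    ext r
    exact (congrArg (algebraMap B L) (RingHom.congr_fun he r)).trans (IsScalarTower.algebraMap_apply R B L r).symm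
  haveI := isOpenImmersion_genericFibre f hK
  have hirange : Set.range i ⊆ Set.range gK := by
    rintro _ ⟨q, rfl⟩
    rw [range_genericFibre f hK]
    intro hq
    have h1 : (i ≫ f) q = IsLocalRing.closedPoint R := hq
    rw [hif] at h1
    have h2 : ϖ ∈ ((Spec.map (CommRingCat.ofHom (algebraMap R L))) q).asIdeal := by
      rw [h1]; exact hϖ.not_isUnit
    have h3 : algebraMap R L ϖ ≠ 0 := by
      rw [IsScalarTower.algebraMap_apply R B L]
      exact (map_ne_zero_iff _ (IsFractionRing.injective B L)).2 hb.ne_zero
    exact q.isPrime.ne_top (Ideal.eq_top_of_isUnit_mem _ h2 (IsUnit.mk0 _ h3))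
  let i' := IsOpenImmersion.lift gK i hirange
  have hi' : i' ≫ gK = i := IsOpenImmersion.lift_fac _ _ _
  have hi'f : i' ≫ fK = Spec.map (CommRingCat.ofHom (algebraMap K L)) := by
    haveI := isOpenImmersion_genIncl R
    rw [← cancel_mono (genIncl R), Category.assoc, ← hK.w, reassoc_of% hi', hif, ← Spec.map_comp]
    congr 1
    ext r
    exact IsScalarTower.algebraMap_apply R K L r
  haveI : IsPreimmersion i := by
    haveI : IsPreimmersion (Spec.map (CommRingCat.ofHom (algebraMap B L))) :=
      IsPreimmersion.of_isLocalization (nonZeroDivisors B)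
    infer_instance
  haveI : IsPreimmersion (i' ≫ gK) := by rw [hi']; infer_instance
  haveI : IsPreimmersion i' := IsPreimmersion.of_comp i' gK
  haveI : IsProper fK := MorphismProperty.of_isPullback (P := @IsProper) hK inferInstance
  haveI : CompactSpace XK := (quasiCompact_iff_compactSpace fK).mp inferInstance
  haveI := CurveCohLib.isIntegral_of_smooth_connected fK
  haveI := geometricallyConnected_genericFibre f hK hf
  let s := Spec.map (CommRingCat.ofHom (algebraMap K F))
  let pr := pullback.fst fK s
  haveI : ConnectedSpace ↥(pullback fK s) :=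
    GeometricallyConnected.geometrically_connectedSpace _ _ _ (.of_hasPullback fK s)
  haveI : CompactSpace ↥(pullback fK s) := (quasiCompact_iff_compactSpace (pullback.snd fK s)).mp inferInstance
  haveI : Smooth (pullback.snd fK s) := MorphismProperty.pullback_snd _ _ inferInstance
  haveI := CurveCohLib.isIntegral_of_smooth_connected (pullback.snd fK s)
  haveI : Surjective s := ⟨fun a => ⟨IsLocalRing.closedPoint F, Subsingleton.elim (α := PrimeSpectrum K) _ _⟩⟩
  haveI : Surjective pr := MorphismProperty.pullback_fst _ _ inferInstance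
  haveI : IsIntegralHom s := IsIntegralHom.SpecMap_iff.2
    (algebraMap_isIntegral_iff.2 (inferInstanceAs (Algebra.IsIntegral K F)))
  haveI : IsIntegralHom pr := MorphismProperty.pullback_fst _ _ inferInstance
  -- the image of the point is the generic point
  have hgen : ∀ q, i' q = genericPoint XK := fun q => by
    have hsp : gK (genericPoint XK) ⤳ i q := by
      rw [← hi', Scheme.Hom.comp_apply]
      exact ((genericPoint_spec XK).specializes (Set.mem_univ (i' q))).map gK.continuous
    have hiq : i q ⤳ x := by
      have : i q ∈ Set.range (X.fromSpecStalk x) := ⟨_, rfl⟩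
      rwa [Scheme.range_fromSpecStalk] at this
    obtain ⟨a, ha⟩ : gK (genericPoint XK) ∈ Set.range (Spec.map e.hom ≫ X.fromSpecStalk x) := by
      simp only [Scheme.Hom.comp_base, TopCat.coe_comp]
      rw [Set.range_comp, (Spec.map e.hom).surjective.range_eq, Set.image_univ, Scheme.range_fromSpecStalk]
      exact hsp.trans hiq
    have h1 : a ⤳ Spec.map (CommRingCat.ofHom (algebraMap B L)) q := by
      refine (Spec.map e.hom ≫ X.fromSpecStalk x).isEmbedding.isInducing.specializes_iff.1 ?_
      rw [ha]
      exact hsp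
    have h2 : (Spec.map (CommRingCat.ofHom (algebraMap B L)) q).asIdeal = ⊥ := by
      rcases Ideal.eq_bot_or_top q.asIdeal with h | h
      · show Ideal.comap (algebraMap B L) q.asIdeal = ⊥
        rw [h, ← RingHom.ker_eq_comap_bot, (RingHom.injective_iff_ker_eq_bot _).1 (IsFractionRing.injective B L)]
      · exact absurd h q.isPrime.ne_top
    have h3 : a = Spec.map (CommRingCat.ofHom (algebraMap B L)) q :=
      PrimeSpectrum.ext (le_antisymm ((PrimeSpectrum.le_iff_specializes _ _).2 h1) (h2 ▸ bot_le))
    refine gK.isOpenEmbedding.injective ?_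
    rw [← Scheme.Hom.comp_apply, hi', ← ha, h3]
    rfl
  let m : pullback (i' ≫ fK) s ⟶ pullback fK s :=
    pullback.lift (pullback.fst (i' ≫ fK) s ≫ i') (pullback.snd (i' ≫ fK) s)
      (by rw [Category.assoc]; exact pullback.condition)
  have hm' : IsPullback m (pullback.fst (i' ≫ fK) s) pr i' := by
    refine IsPullback.of_right (h₁₂ := pullback.snd fK s) (v₁₃ := s) (h₂₂ := fK) ?_ ?_
      (IsPullback.of_hasPullback fK s).flip
    · rw [show m ≫ pullback.snd fK s = pullback.snd (i' ≫ fK) s from pullback.lift_snd _ _ _]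
      exact (IsPullback.of_hasPullback (i' ≫ fK) s).flip
    · exact pullback.lift_fst _ _ _
  haveI : IsPreimmersion m := MorphismProperty.of_isPullback hm'.flip inferInstance
  have hmgen : ∀ z, m z = genericPoint ↥(pullback fK s) := fun z => by
    refine (eq_of_specializes_of_isIntegralHom pr ((genericPoint_spec _).specializes (Set.mem_univ (m z))) ?_).symm
    rw [← Scheme.Hom.comp_apply, hm'.w, Scheme.Hom.comp_apply, hgen]
    refine ((genericPoint_spec ↥(pullback fK s)).image pr.continuous).eq ?_
    rw [Set.image_univ, pr.surjective.range_eq, closure_univ]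
    exact genericPoint_spec XK
  let P := pullback (i' ≫ fK) s
  haveI : Subsingleton ↥P := ⟨fun a b => m.isEmbedding.injective ((hmgen a).trans (hmgen b).symm)⟩
  haveI : ∀ z : P, _root_.IsReduced (P.presheaf.stalk z) := fun z => by
    have hF' : IsField ((pullback fK s).presheaf.stalk (m z)) := by
      rw [hmgen z]; exact Field.toIsField (pullback fK s).functionField
    have hbij : Function.Bijective (m.stalkMap z).hom := by
      refine ⟨?_, m.stalkMap_surjective z⟩
      letI := hF'.toField
      exact RingHom.injective _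
    haveI := hF'.isDomain
    exact isReduced_of_injective (RingEquiv.ofBijective _ hbij).symm
      (RingEquiv.ofBijective _ hbij).symm.injective
  haveI : IsReduced P := isReduced_of_isReduced_stalk _
  let eP : P ≅ Spec (CommRingCat.of (L ⊗[K] F)) := pullback.congrHom hi'f rfl ≪≫ pullbackSpecIso K L F
  haveI : Nontrivial (L ⊗[K] F) :=
    (Algebra.TensorProduct.includeRight_injective (R := K) (A := L) (B := F)
      (algebraMap K L).injective).nontrivial
  haveI : Nonempty ↥P := (Classical.arbitrary (PrimeSpectrum (L ⊗[K] F)) |> fun a => ⟨eP.inv a⟩)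
  haveI : IrreducibleSpace ↥P :=
    { toPreirreducibleSpace := ⟨(Set.subsingleton_of_subsingleton (s := (Set.univ : Set ↥P))).isPreirreducible⟩
      toNonempty := inferInstance }
  haveI : IsIntegral P := isIntegral_of_irreducibleSpace_of_isReduced P
  haveI : IsIntegral (Spec (CommRingCat.of (L ⊗[K] F))) := by
    haveI : Nonempty ↥(Spec (CommRingCat.of (L ⊗[K] F))) := ⟨eP.hom (Classical.arbitrary P)⟩
    exact IsIntegral.of_isIso eP.hom
  haveI : IsDomain (L ⊗[K] F) := (affine_isIntegral_iff (R := CommRingCat.of (L ⊗[K] F))).1 inferInstance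
  have hfield : IsField (L ⊗[K] F) := isField_of_isIntegral_of_isField' (Field.toIsField L)
  -- back to `F ⊗[R] B`
  haveI : IsScalarTower R K F := inferInstance
  let e₁ : F ⊗[K] L ≃ₐ[K] F ⊗[R] L := IsLocalization.algebraTensorEquiv (nonZeroDivisors R) K F L
  let θ : F ⊗[R] B →ₐ[R] F ⊗[R] L := Algebra.TensorProduct.map (AlgHom.id R F) (IsScalarTower.toAlgHom R B L)
  haveI : Module.Flat R F := Module.Flat.trans R K F
  have hθinj : Function.Injective θ :=
    Module.Flat.lTensor_preserves_injective_linearMap (IsScalarTower.toAlgHom R B L).toLinearMap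
      (IsFractionRing.injective B L)
  have hθsurj : Function.Surjective θ := by
    intro y
    induction y using TensorProduct.induction_on with
    | zero => exact ⟨0, map_zero _⟩
    | add a b ha hb =>
      obtain ⟨a', rfl⟩ := ha
      obtain ⟨b', rfl⟩ := hb
      exact ⟨a' + b', map_add _ _ _⟩
    | tmul a l =>
      obtain ⟨⟨b, c⟩, hbc⟩ := IsLocalization.surj (nonZeroDivisors B) l
      obtain ⟨n, v, hc⟩ := IsDiscreteValuationRing.eq_unit_mul_pow_irreducible (nonZeroDivisors.ne_zero c.2) hb
      have hF0 : algebraMap R F (ϖ ^ n) ≠ 0 := by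
        rw [IsScalarTower.algebraMap_apply R K F]
        exact (map_ne_zero_iff _ (algebraMap K F).injective).2
          ((map_ne_zero_iff _ (IsFractionRing.injective R K)).2 (pow_ne_zero n hϖ.ne_zero))
      refine ⟨(a * (algebraMap R F (ϖ ^ n))⁻¹) ⊗ₜ (b * (↑v⁻¹ : B)), ?_⟩
      have hl : algebraMap B L (b * (↑v⁻¹ : B)) = (ϖ ^ n : R) • l := by
        simp only at hbc
        rw [map_mul, ← hbc, hc, Algebra.smul_def, IsScalarTower.algebraMap_apply R B L, map_mul, map_pow, map_pow,
          show l * (algebraMap B L ↑v * algebraMap B L (algebraMap R B ϖ) ^ n) * algebraMap B L (↑v⁻¹ : B) =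
            algebraMap B L (algebraMap R B ϖ) ^ n * l * (algebraMap B L ↑v * algebraMap B L ↑v⁻¹) by ring,
          ← map_mul, Units.mul_inv, map_one, mul_one, map_pow]
      show (a * (algebraMap R F (ϖ ^ n))⁻¹) ⊗ₜ[R] algebraMap B L (b * (↑v⁻¹ : B)) = a ⊗ₜ l
      rw [hl, TensorProduct.tmul_smul, TensorProduct.smul_tmul', Algebra.smul_def, mul_comm (algebraMap R F (ϖ ^ n)),
        mul_assoc, inv_mul_cancel₀ hF0, mul_one]
  refine MulEquiv.isField (MulEquiv.isField hfield ?_) (RingEquiv.ofBijective θ ⟨hθinj, hθsurj⟩).toMulEquiv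
  exact (e₁.symm.toRingEquiv.trans (Algebra.TensorProduct.comm K F L).toRingEquiv).toMulEquiv

end Groth.Agent.ModX56
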