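import Groth.Agent.ModX56.Model
import Groth.Agent.QCoh.Serre
import Groth.Agent.QCoh.TensorUnit
import Groth.Agent.QCoh.ClosedPush
import Groth.Agent.OmegaLib.IdealMod
import Groth.Agent.BlowUpLib.Local
import Groth.Agent.Lib.CurvePoint
import Groth.Agent.CurveCohLib.Euler
import Groth.Prelude.Def_ModelsG

/-!
# The sequence `0 → O_X → O_X → O_{X_s} → 0` of a flat scheme over a DVR
-/

set_option linter.style.haveILetI false
set_option backward.isDefEq.respectTransparency false
set_option backward.isDefEq.respectTransparency.types false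

universe u

open CategoryTheory CategoryTheory.Limits AlgebraicGeometry TopologicalSpace Opposite

namespace Groth.Agent.ModX56

/-- Torsion-freeness over a DVR can be tested on a uniformizer. -/
theorem eq_zero_of_smul_eq_zero_of_uniformizer {R : Type*} [CommRing R] [IsDomain R] [IsDiscreteValuationRing R]
    {S M : Type*} [Semiring S] [AddCommGroup M] [Module S M] (ρ : R →+* S) {ϖ : R} (hϖ : Irreducible ϖ)
    (h : ∀ y : M, ρ ϖ • y = 0 → y = 0) {r : R} (hr : r ≠ 0) {x : M} (hx : ρ r • x = 0) : x = 0 := by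
  obtain ⟨m, v, rfl⟩ := IsDiscreteValuationRing.eq_unit_mul_pow_irreducible hr hϖ
  rw [map_mul, map_pow, mul_smul, (v.isUnit.map ρ).smul_eq_zero] at hx
  clear hr
  induction m generalizing x with
  | zero => simpa using hx
  | succ m ih => exact h x (ih (by rwa [pow_succ, mul_smul] at hx))

variable {R : Type u} [CommRing R] [IsDomain R] [IsDiscreteValuationRing R]
  (X : Over (Spec (CommRingCat.of R))) [Flat X.hom]

theorem ideal_specialFibreIdeal (U : X.left.affineOpens) {ϖ : R} (hϖ : Irreducible ϖ) :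
    (Models.specialFibreIdeal R X).ideal U =
      Ideal.span {X.left.presheaf.map (homOfLE (le_top : U.1 ≤ ⊤)).op (Coh.toGlobal X.hom ϖ)} := by
  show ((BlowUpLib.centre (IsLocalRing.maximalIdeal R)).comap X.hom).ideal U = _
  rw [BlowUpLib.ideal_comap_centre, (IsDiscreteValuationRing.irreducible_iff_uniformizer ϖ).1 hϖ, Ideal.map_span,
    Set.image_singleton]
  rfl

theorem shortExact_specialFibre {ϖ : R} (hϖ : Irreducible ϖ) :
    ∃ w : QCoh.mulHom (Coh.toGlobal X.hom ϖ) ≫ ClSub.toSubscheme (Models.specialFibreIdeal R X) = 0,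
      (ShortComplex.mk (QCoh.mulHom (Coh.toGlobal X.hom ϖ))
        (ClSub.toSubscheme (Models.specialFibreIdeal R X)) w).ShortExact := by
  set I := Models.specialFibreIdeal R X
  set φ := QCoh.mulHom (X := X.left) (Coh.toGlobal X.hom ϖ)
  have hmul : ∀ (U : X.left.Opens) (s : Γ(X.left, U)), φ.app U s =
      s * X.left.presheaf.map (homOfLE (le_top : U ≤ ⊤)).op (Coh.toGlobal X.hom ϖ) := fun U s => rfl
  have hinj : ∀ (U : X.left.Opens) (s : Γ(X.left, U)), φ.app U s = (0 : Γ(X.left, U)) → s = 0 := fun U s hs => by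
    rw [hmul, mul_comm] at hs
    exact toGlobal_mul_eq_zero X.hom hϖ.ne_zero hs
  have hB := X.left.isBasis_affineOpens
  have hzero : I.subschemeι.app ⊤ (Coh.toGlobal X.hom ϖ) = 0 := by
    refine I.subscheme.sheaf.eq_of_locally_eq' (fun U : X.left.affineOpens => I.subschemeι ⁻¹ᵁ U.1) _
      (fun U => homOfLE le_top) (fun y _ => ?_) _ _ fun U => ?_
    · obtain ⟨_, ⟨U, hU, rfl⟩, hx, -⟩ := hB.exists_subset_of_mem_open (Set.mem_univ (I.subschemeι y)) isOpen_univ
      exact Opens.mem_iSup.2 ⟨⟨U, hU⟩, hx⟩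
    · have hmem : X.left.presheaf.map (homOfLE (le_top : U.1 ≤ ⊤)).op (Coh.toGlobal X.hom ϖ) ∈ I.ideal U := by
        rw [ideal_specialFibreIdeal X U hϖ]
        exact Ideal.subset_span rfl
      rw [← I.ker_subschemeι_app U] at hmem
      show I.subscheme.presheaf.map _ _ = I.subscheme.presheaf.map _ _
      rw [map_zero, ← hmem]
      exact (ConcreteCategory.congr_hom (I.subschemeι.naturality (homOfLE (le_top : U.1 ≤ ⊤)).op) _).symm
  have w : φ ≫ ClSub.toSubscheme I = 0 := by
    refine QCoh.hom_ext_app fun W s => ?_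
    show I.subschemeι.app W ((show Γ(X.left, W) from s) *
      X.left.presheaf.map (homOfLE (le_top : W ≤ ⊤)).op (Coh.toGlobal X.hom ϖ)) = 0
    rw [map_mul]
    refine mul_eq_zero_of_right _ ?_
    refine (ConcreteCategory.congr_hom (I.subschemeι.naturality (homOfLE (le_top : W ≤ ⊤)).op) _).trans ?_
    show I.subscheme.presheaf.map _ (I.subschemeι.app ⊤ _) = 0
    rw [hzero, map_zero]
  haveI : Epi (ClSub.toSubscheme I) := CurvePoint.epi_toSubscheme I
  haveI : Mono φ := QCoh.mono_of_isBasis φ hB fun U _ => (injective_iff_map_eq_zero _).2 fun s hs => hinj U s hs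
  let l : Coh.structureModule X.left ⟶ ClSub.idealMod I := kernel.lift _ φ w
  have hl : l ≫ kernel.ι (ClSub.toSubscheme I) = φ := kernel.lift_ι _ _ _
  have happ : ∀ (U : X.left.Opens) (s : Γ(X.left, U)), OmegaSh.idealSect I U (l.app U s) = φ.app U s := fun U s => by
    rw [OmegaSh.idealSect_apply]
    exact congr(($hl).app U s)
  haveI : IsIso l := QCoh.isIso_of_isBasis l hB fun U hU => by
    refine ⟨fun a b hab => ?_, fun y => ?_⟩
    · refine sub_eq_zero.1 (hinj U _ ?_)
      rw [map_sub, sub_eq_zero]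
      exact ((happ U a).symm.trans (congrArg _ hab)).trans (happ U b)
    · have hy := OmegaLib.idealSect_mem I ⟨U, hU⟩ y
      rw [ideal_specialFibreIdeal X ⟨U, hU⟩ hϖ] at hy
      obtain ⟨r, hr⟩ := Ideal.mem_span_singleton'.1 hy
      refine ⟨r, OmegaLib.idealSect_injective I U ?_⟩
      rw [happ, hmul]
      exact hr
  refine ⟨w, { exact := ?_ }⟩
  refine ShortComplex.exact_of_f_is_kernel _ ?_
  exact (kernelIsKernel (ClSub.toSubscheme I)).ofIsoLimit (Fork.ext (asIso l) (by simpa using hl)).symm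

theorem toAb_mulHom {Y : Scheme.{u}} (r : Γ(Y, ⊤)) :
    (QCoh.toAbFunctor Y).map (QCoh.mulHom r) = Coh.smulAb (Coh.structureModule Y) r := by
  ext U m
  exact mul_comm (show Γ(Y, U.unop) from m) (Y.presheaf.map (homOfLE le_top).op r)

theorem H0_surjective_iff :
    Function.Surjective (Sheaf.H.map ((SheafOfModules.toSheaf X.left.ringCatSheaf).map
      (ClSub.toSubscheme (Models.specialFibreIdeal R X))) 0) ↔
      ∀ (r : R), r ≠ 0 → ∀ x : Coh.HH X.left (Coh.structureModule X.left) 1,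
        (Coh.toGlobal X.hom r : Coh.Γtop X.left) • x = 0 → x = 0 := by
  obtain ⟨ϖ, hϖ⟩ := IsDiscreteValuationRing.exists_irreducible R
  obtain ⟨w, hS⟩ := shortExact_specialFibre X hϖ
  letI : X.left.Over (Spec (CommRingCat.of R)) := ⟨X.hom⟩
  have h1 := CurveCohLib.ker_deltaLin R hS 0
  have h2 := CurveCohLib.ker_mapLin_f_succ R hS 0
  have hsm : ∀ x : Coh.HH X.left (Coh.structureModule X.left) 1,
      PnCoh.Finite.mapLin R (QCoh.mulHom (Coh.toGlobal X.hom ϖ)) 1 x =
        (Coh.toGlobal X.hom ϖ : Coh.Γtop X.left) • x := fun x => by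
    show Sheaf.H.map ((QCoh.toAbFunctor X.left).map _) 1 x = _
    rw [toAb_mulHom]
    rfl
  constructor
  · intro hs r hr x hx
    refine eq_zero_of_smul_eq_zero_of_uniformizer (S := Coh.Γtop X.left) (Coh.toGlobal X.hom) hϖ (fun y hy => ?_) hr hx
    have hy' : y ∈ LinearMap.ker (PnCoh.Finite.mapLin R (QCoh.mulHom (Coh.toGlobal X.hom ϖ)) (0 + 1)) :=
      LinearMap.mem_ker.2 ((hsm y).trans hy)
    obtain ⟨z, rfl⟩ := h2.le hy'
    obtain ⟨z', hz'⟩ := hs z
    exact LinearMap.mem_ker.1 (h1.ge ⟨z', hz'⟩)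
  · intro h z
    have h3 : PnCoh.Finite.deltaLin R hS 0 z ∈
        LinearMap.ker (PnCoh.Finite.mapLin R (QCoh.mulHom (Coh.toGlobal X.hom ϖ)) (0 + 1)) := h2.ge ⟨z, rfl⟩
    exact h1.le (LinearMap.mem_ker.2 (h ϖ hϖ.ne_zero _ ((hsm _).symm.trans (LinearMap.mem_ker.1 h3))))

end Groth.Agent.ModX56
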