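import Groth.Agent.ModX56.Chi
import Groth.Agent.ModX56.SpecialSeq
import Groth.Agent.ModX56.SurfBridge
import Groth.Agent.ArSurfX.Form
import Groth.Agent.GeomField.GlobalFunctions
import Groth.Agent.S0034

/-!
# The genus of a curve from the closed fibre of a regular model
-/

universe u

set_option linter.style.haveILetI false
set_option backward.isDefEq.respectTransparency false
set_option backward.isDefEq.respectTransparency.types false

open CategoryTheory CategoryTheory.Limits AlgebraicGeometry IsLocalRing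
open scoped TensorProduct

namespace Groth.Agent.ModX56

open Groth.Agent Groth.Agent.ArSurfX Groth.Agent.CurveCohLib

/-- `dim_K H⁰ = 1`. -/
theorem hRank_zero_of_isIso {K : Type u} [Field K] {C : Scheme.{u}} (f : C ⟶ Spec (CommRingCat.of K))
    (hH0 : IsIso f.appTop) : Models.hRank K C f (Coh.structureModule C) 0 = 1 := by
  letI : C.Over (Spec (CommRingCat.of K)) := ⟨f⟩
  letI := GeomField.globalAlgebra K C
  show Module.finrank K (Coh.HH C (Coh.structureModule C) 0) = 1
  rw [GeomField.finrank_HH_zero K C]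
  have hb : Function.Bijective (algebraMap K Γ(C, ⊤)) :=
    (ConcreteCategory.bijective_of_isIso f.appTop).comp
      (ConcreteCategory.bijective_of_isIso (Scheme.ΓSpecIso (CommRingCat.of K)).inv)
  rw [← (LinearEquiv.ofBijective (Algebra.linearMap K Γ(C, ⊤)) hb).finrank_eq, Module.finrank_self]

variable {R : Type u} [CommRing R] [IsDomain R] [IsDiscreteValuationRing R] {C X : Scheme.{u}}
  {f : C ⟶ Spec (CommRingCat.of (FractionRing R))} {p : X ⟶ Spec (CommRingCat.of R)} {g : C ⟶ X}

/-- Cohomology ranks of the model are those of the generic fibre. -/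
theorem finrank_HH_model (hg : IsPullback g f p (genIncl R)) [IsProper p] (n : ℕ) :
    letI : X.Over (Spec (CommRingCat.of R)) := ⟨p⟩
    Module.finrank R (Coh.HH X (Coh.structureModule X) n) =
      Models.hRank (FractionRing R) C f (Coh.structureModule C) n := by
  letI : X.Over (Spec (CommRingCat.of R)) := ⟨p⟩
  letI : C.Over (Spec (CommRingCat.of (FractionRing R))) := ⟨f⟩
  haveI : IsProper (X ↘ Spec (CommRingCat.of R)) := ‹IsProper p›
  haveI : CompactSpace X := QuasiCompact.compactSpace_of_compactSpace p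
  haveI : QuasiSeparatedSpace X := quasiSeparatedSpace_of_quasiSeparated p
  haveI : IsLocallyNoetherian X := LocallyOfFiniteType.isLocallyNoetherian p
  haveI := S0002.result R X (Coh.structureModule X) QCoh.isCoh_structureModule' n
  haveI : Coh.IsQCoh (Coh.structureModule X) := QCoh.isQCoh_structureModule
  obtain ⟨e⟩ := S0034.result R (FractionRing R) X C g hg (Coh.structureModule X) n
  obtain ⟨e'⟩ := ArSurfX.nonempty_HH_congr (Coh.toGlobal f)
    (PicClLib.nonempty_pullback_structureModule g).some n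
  rw [← finrank_fractionRing_tensor]
  exact (e.trans e').finrank_eq

theorem nlen_of_cokernel_seq {A : Type u} [CommRing A] {P Q P' : Type u} [AddCommGroup P] [Module A P]
    [AddCommGroup Q] [Module A Q] [AddCommGroup P'] [Module A P'] (g0 : P →ₗ[A] Q) (δ : Q →ₗ[A] P')
    (μ : P →ₗ[A] P) (μ' : P' →ₗ[A] P') (h1 : LinearMap.ker g0 = LinearMap.range μ)
    (h2 : LinearMap.ker δ = LinearMap.range g0) (h3 : LinearMap.range δ = LinearMap.ker μ')
    (hfin : Module.length A Q ≠ ⊤) :
    nlen A Q = nlen A (P ⧸ LinearMap.range μ) + nlen A (LinearMap.ker μ') := by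
  rw [← nlen_ker_add_range δ hfin, h2, h3,
    nlen_congr (g0.quotKerEquivRange.symm.trans (Submodule.quotEquivOfEq _ _ h1))]

/-- The long exact sequence of an injective endomorphism, in lengths. -/
theorem nlen_endo_seq {A : Type u} [CommRing A] {Y : Scheme.{u}} [Y.Over (Spec (CommRingCat.of A))]
    {M N : Y.Modules} (m : M ⟶ M) (q : M ⟶ N) (w : m ≫ q = 0) (hS : (ShortComplex.mk m q w).ShortExact)
    (μ : ∀ n, Coh.HH Y M n →ₗ[A] Coh.HH Y M n) (hμ : ∀ n, PnCoh.Finite.mapLin A m n = μ n)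
    (hfin : ∀ n, Module.length A (Coh.HH Y N n) ≠ ⊤) :
    (∀ n, nlen A (Coh.HH Y N n) =
      nlen A (Coh.HH Y M n ⧸ LinearMap.range (μ n)) + nlen A (LinearMap.ker (μ (n + 1)))) ∧
      nlen A (LinearMap.ker (μ 0)) = 0 ∧
      ∀ n, Subsingleton (Coh.HH Y N n) → Function.Surjective (μ n) := by
  obtain rfl : (fun n => PnCoh.Finite.mapLin A m n) = μ := funext hμ
  refine ⟨fun n => nlen_of_cokernel_seq (PnCoh.Finite.mapLin A q n) (PnCoh.Finite.deltaLin A hS n) _ _
    (CurveCohLib.ker_mapLin_g A hS n) (CurveCohLib.ker_deltaLin A hS n)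
    (CurveCohLib.ker_mapLin_f_succ A hS n).symm (hfin n), ?_, fun n _ x => ?_⟩
  · rw [LinearMap.ker_eq_bot.2 (CurveCohLib.mapLin_f_zero_injective A hS)]
    simp [nlen, Module.length_eq_zero]
  · exact (CurveCohLib.ker_mapLin_g A hS n).le (LinearMap.mem_ker.2 (Subsingleton.elim _ _))

/-- `χ` of the closed fibre is `χ` of the generic fibre. -/
theorem chiR_specialFibre (hg : IsPullback g f p (genIncl R)) (hX : IsSurf (Over.mk p)) (hH0 : IsIso f.appTop) :
    chiR (X := Over.mk p) (ClSub.quotMod (Models.specialFibreIdeal R (Over.mk p))) =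
      1 - (Models.curveGenus (FractionRing R) C f : ℤ) := by
  haveI : IsProper p := hX.isProper
  haveI : Flat p := hX.flat
  haveI : Flat (Over.mk p).hom := hX.flat
  haveI : IsLocallyNoetherian X := LocallyOfFiniteType.isLocallyNoetherian p
  letI : X.Over (Spec (CommRingCat.of R)) := ⟨p⟩
  haveI : IsProper (X ↘ Spec (CommRingCat.of R)) := ‹IsProper p›
  obtain ⟨ϖ, hϖ⟩ := IsDiscreteValuationRing.exists_irreducible R
  obtain ⟨w, hS⟩ := shortExact_specialFibre (Over.mk p) hϖ
  have hF := Surf.smallCoh_quotMod hX (le_refl (Models.specialFibreIdeal R (Over.mk p)))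
  let F := ClSub.quotMod (Models.specialFibreIdeal R (Over.mk p))
  let mu := fun n => PnCoh.Finite.mapLin R (QCoh.mulHom (X := X) (Coh.toGlobal p ϖ)) n
  haveI hfin : ∀ n, Module.Finite R (Coh.HH X (Coh.structureModule X) n) := fun n =>
    S0002.result R X (Coh.structureModule X) QCoh.isCoh_structureModule' n
  have hmu : ∀ n, mu n = DvrTorsion.mulπ ϖ (Coh.HH X (Coh.structureModule X) n) := fun n => by
    refine LinearMap.ext fun x => ?_
    show Sheaf.H.map ((QCoh.toAbFunctor X).map _) n x = ϖ • x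
    rw [toAb_mulHom]
    rfl
  obtain ⟨hd, hk0, hsurj⟩ := nlen_endo_seq (Y := X) _ _ w hS
    (fun n => DvrTorsion.mulπ ϖ (Coh.HH X (Coh.structureModule X) n)) hmu hF.fin
  have hvan : Subsingleton (Coh.HH X (Coh.structureModule X) 2) := by
    have h1 := hsurj 2 hF.vanish
    have h2 : (⊤ : Submodule R (Coh.HH X (Coh.structureModule X) 2)) ≤
        maximalIdeal R • ⊤ := by
      rw [hϖ.maximalIdeal_eq, Submodule.ideal_span_singleton_smul]
      intro x _
      obtain ⟨y, hy⟩ := h1 x
      exact ⟨y, trivial, hy⟩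
    have h3 := Submodule.eq_bot_of_le_smul_of_le_jacobson_bot (maximalIdeal R) ⊤ Module.Finite.fg_top h2
      (IsLocalRing.maximalIdeal_le_jacobson _)
    exact subsingleton_of_forall_eq 0 fun x => (Submodule.mem_bot R).1 (h3 ▸ Submodule.mem_top : x ∈ (⊥ : Submodule R _))
  have hk2 : nlen R (LinearMap.ker (DvrTorsion.mulπ ϖ (Coh.HH X (Coh.structureModule X) (1 + 1)))) = 0 := by
    haveI : Subsingleton (Coh.HH X (Coh.structureModule X) (1 + 1)) := hvan
    simp [nlen, Module.length_eq_zero]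
  have r0 := (nlen_quotient_sub_ker hϖ (Coh.HH X (Coh.structureModule X) 0)).2.2
  have r1 := (nlen_quotient_sub_ker hϖ (Coh.HH X (Coh.structureModule X) 1)).2.2
  have q0 := finrank_HH_model hg 0
  have q1 := finrank_HH_model hg 1
  rw [hRank_zero_of_isIso f hH0] at q0
  have d0 : nlen R (Coh.HH X F 0) =
      nlen R (Coh.HH X (Coh.structureModule X) 0 ⧸ LinearMap.range (DvrTorsion.mulπ ϖ (Coh.HH X (Coh.structureModule X) 0))) +
        nlen R (LinearMap.ker (DvrTorsion.mulπ ϖ (Coh.HH X (Coh.structureModule X) 1))) := hd 0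
  have d1 : nlen R (Coh.HH X F 1) =
      nlen R (Coh.HH X (Coh.structureModule X) 1 ⧸ LinearMap.range (DvrTorsion.mulπ ϖ (Coh.HH X (Coh.structureModule X) 1))) +
        nlen R (LinearMap.ker (DvrTorsion.mulπ ϖ (Coh.HH X (Coh.structureModule X) (1 + 1)))) := hd 1
  replace hk0 : nlen R (LinearMap.ker (DvrTorsion.mulπ ϖ (Coh.HH X (Coh.structureModule X) 0))) = 0 := hk0
  show (nlen R (Coh.HH X F 0) : ℤ) - nlen R (Coh.HH X F 1) = 1 - (Models.hRank (FractionRing R) C f (Coh.structureModule C) 1 : ℤ)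
  omega

end Groth.Agent.ModX56

namespace Groth.Agent.ModX56

open Groth.Agent Groth.Agent.ArSurfX

theorem Surf.euler_add {R : Type u} [CommRing R] [IsDomain R] [IsDiscreteValuationRing R]
    {X : Over (Spec (CommRingCat.of R))} (hX : IsSurf X) {n : ℕ} {Γc : Fin n → ArSurf.VertComp R X}
    (hΓ : Models.IsComponentList R X Γc) {L : Fin n → X.left.Modules}
    (hL : ∀ j, ClSub.IsInverseOf (L j) (ClSub.idealMod (Γc j).ι.ker)) (a : Fin n → ℕ) (i : Fin n)
    (ha : ∀ j, a j + (if j = i then 1 else 0) ≤ Models.mult R X (Γc j)) :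
    ((Models.lengthH R X (ClSub.quotMod (∏ j, (Γc j).ι.ker ^ (a j + if j = i then 1 else 0))) 0 : ℤ) -
          (Models.lengthH R X (ClSub.quotMod (∏ j, (Γc j).ι.ker ^ (a j + if j = i then 1 else 0))) 1 : ℤ)) -
        ((Models.lengthH R X (ClSub.quotMod (∏ j, (Γc j).ι.ker ^ a j)) 0 : ℤ) -
          (Models.lengthH R X (ClSub.quotMod (∏ j, (Γc j).ι.ker ^ a j)) 1 : ℤ)) =
      -(∑ j, (a j : ℤ) * ArSurf.inter R X (L i) (Γc j)) +
        ((Models.wdeg R X (Γc i) : ℤ) - (Models.h1 R X (Γc i) : ℤ)) := by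
  classical
  haveI := hX.isProper
  have hD := ArSurfX.isEffCartier_prod Finset.univ (fun j => (Γc j).ι.ker ^ a j)
    fun j _ => ArSurfX.isEffCartier_pow (hX.isEffCartier_ker (Γc j)) _
  have hprod : ∏ j, (Γc j).ι.ker ^ (a j + if j = i then 1 else 0) = (∏ j, (Γc j).ι.ker ^ a j) * (Γc i).ι.ker := by
    simp only [pow_add, Finset.prod_mul_distrib]
    congr 1
    rw [Finset.prod_eq_single_of_mem i (Finset.mem_univ i) fun j _ hj => by rw [if_neg hj, pow_zero]]
    simp
  have hle : Models.specialFibreIdeal R X ≤ ∏ j, (Γc j).ι.ker ^ (a j + if j = i then 1 else 0) := by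
    rw [hX.specialFibreIdeal_eq_prod hΓ]
    intro U
    let φ : X.left.IdealSheafData →* Ideal Γ(X.left, U.1) :=
      { toFun := fun I => I.ideal U, map_one' := Ideal.one_eq_top.symm,
        map_mul' := fun I J => by rw [Scheme.IdealSheafData.ideal_mul, Pi.mul_apply] }
    show φ _ ≤ φ _
    rw [map_prod, map_prod]
    refine Finset.prod_le_prod' fun j _ => ?_
    rw [map_pow, map_pow]
    exact Ideal.pow_le_pow_right (ha j)
  obtain ⟨M, hM, hMi, hMv⟩ := ArSurfX.exists_inverse_prod (Γc i) Finset.univ (fun j => (Γc j).ι.ker)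
    (fun j => hX.isEffCartier_ker (Γc j)) L hL a
  rw [ArSurfX.inter_inverse (Γc i) (ArSurfX.isInvertible_idealMod hD) hMi] at hMv
  have h2 := Surf.chiR_mul_ker hX _ (Γc i) hD (hprod ▸ hle)
  rw [← hprod] at h2
  have e : ∑ j, (a j : ℤ) * ArSurf.inter R X (L i) (Γc j) = ∑ j, (a j : ℤ) * ArSurf.inter R X (L j) (Γc i) :=
    Finset.sum_congr rfl fun j _ => by rw [hX.inter_components_symm hΓ hL j i]
  show chiR _ - chiR _ = _
  rw [e]
  linarith

/-- The genus formula. -/
theorem genus_formula {R : Type u} [CommRing R] [IsDomain R] [IsDiscreteValuationRing R] {C X : Scheme.{u}}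
    {f : C ⟶ Spec (CommRingCat.of (FractionRing R))} {p : X ⟶ Spec (CommRingCat.of R)} {g : C ⟶ X}
    (hg : IsPullback g f p (genIncl R)) (hX : IsSurf (Over.mk p)) (hH0 : IsIso f.appTop)
    {n : ℕ} {Γc : Fin n → ArSurf.VertComp R (Over.mk p)} (hΓ : Models.IsComponentList R (Over.mk p) Γc)
    {L : Fin n → X.Modules} (hL : ∀ j, ClSub.IsInverseOf (L j) (ClSub.idealMod (Γc j).ι.ker)) :
    2 * (Models.curveGenus (FractionRing R) C f : ℤ) =
      2 + ∑ i, (Models.mult R (Over.mk p) (Γc i) : ℤ) *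
        (2 * ((Models.h1 R (Over.mk p) (Γc i) : ℤ) - (Models.wdeg R (Over.mk p) (Γc i) : ℤ)) -
          ArSurf.inter R (Over.mk p) (L i) (Γc i)) := by
  have h := Surf.two_chiR_prod hX hΓ hL (fun j => Models.mult R (Over.mk p) (Γc j)) fun _ => le_rfl
  rw [← hX.specialFibreIdeal_eq_prod hΓ, chiR_specialFibre hg hX hH0] at h
  have hQ : ∑ i, ∑ j, ArSurf.inter R (Over.mk p) (L j) (Γc i) *
      ((Models.mult R (Over.mk p) (Γc i) : ℤ) * Models.mult R (Over.mk p) (Γc j)) = 0 := by
    refine Finset.sum_eq_zero fun i _ => ?_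
    calc _ = (Models.mult R (Over.mk p) (Γc i) : ℤ) *
          ∑ j, (Models.mult R (Over.mk p) (Γc j) : ℤ) * ArSurf.inter R (Over.mk p) (L j) (Γc i) := by
          rw [Finset.mul_sum]; exact Finset.sum_congr rfl fun j _ => by ring
      _ = 0 := by rw [hX.sum_mult_inter hΓ hL, mul_zero]
  rw [hQ, sub_zero] at h
  have hs : ∑ i, (Models.mult R (Over.mk p) (Γc i) : ℤ) *
      (2 * ((Models.h1 R (Over.mk p) (Γc i) : ℤ) - (Models.wdeg R (Over.mk p) (Γc i) : ℤ)) -
        ArSurf.inter R (Over.mk p) (L i) (Γc i)) =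
      -∑ i, (Models.mult R (Over.mk p) (Γc i) : ℤ) *
        (2 * ((Models.wdeg R (Over.mk p) (Γc i) : ℤ) - (Models.h1 R (Over.mk p) (Γc i) : ℤ)) +
          ArSurf.inter R (Over.mk p) (L i) (Γc i)) := by
    rw [← Finset.sum_neg_distrib]
    exact Finset.sum_congr rfl fun i _ => by ring
  rw [hs]
  linarith

end Groth.Agent.ModX56
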