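import Groth.Agent.ModX56.Gamma
import Groth.Agent.ModX56.Model
import Groth.Agent.Pi1X.GeomConnFF
import Groth.Agent.S7591
import Groth.Agent.GeomField.GlobalFunctions
import Groth.Agent.GrpSchLib.SmoothReduced
import Mathlib.FieldTheory.PrimitiveElement
import Mathlib.RingTheory.AdjoinRoot

/-!
# Geometric connectedness of proper schemes with constant global functions over a DVR
-/

set_option linter.style.haveILetI false

universe u

open CategoryTheory CategoryTheory.Limits AlgebraicGeometry IsLocalRing Polynomial

namespace Groth.Agent.ModX56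

variable {A : Type u} [CommRing A] [IsNoetherianRing A] [IsLocalRing A] {X : Scheme.{u}}
  (p : X ⟶ Spec (CommRingCat.of A))

/-- Finite separable extensions of the residue field lift to flat Noetherian local algebras. -/
theorem exists_flat_lift (k' : Type u) [Field k'] [Algebra (ResidueField A) k']
    [FiniteDimensional (ResidueField A) k'] [Algebra.IsSeparable (ResidueField A) k'] :
    ∃ (B : Type u) (_ : CommRing B) (_ : IsNoetherianRing B) (_ : IsLocalRing B) (φ : A →+* B) (ψ : B →+* k'),
      φ.Flat ∧ Function.Surjective ψ ∧ ψ.comp φ = (algebraMap (ResidueField A) k').comp (residue A) := by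
  obtain ⟨α, hα⟩ := Field.exists_primitive_element (ResidueField A) k'
  let μ := minpoly (ResidueField A) α
  have hint : _root_.IsIntegral (ResidueField A) α := Algebra.IsIntegral.isIntegral α
  have hμ : μ.Monic := minpoly.monic hint
  obtain ⟨F, hF, -, hFm⟩ := Polynomial.lifts_and_degree_eq_and_monic
    ((Polynomial.mem_lifts μ).2 (Polynomial.map_surjective _ IsLocalRing.residue_surjective μ)) hμ
  let e := (algebraMap (ResidueField A) k').comp (residue A)
  have heval : ∀ q : A[X], q.eval₂ e α = aeval α (q.map (residue A)) := fun q => by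
    rw [aeval_def, eval₂_map]
  let ψ : AdjoinRoot F →+* k' := AdjoinRoot.lift e α (by rw [heval, hF]; exact minpoly.aeval _ α)
  have hψ : Function.Surjective ψ := fun x => by
    have hx : x ∈ Algebra.adjoin (ResidueField A) ({α} : Set k') := by
      rw [← IntermediateField.adjoin_simple_toSubalgebra_of_isAlgebraic hint.isAlgebraic, hα]
      trivial
    rw [Algebra.adjoin_singleton_eq_range_aeval] at hx
    obtain ⟨q, rfl⟩ := hx
    obtain ⟨q', rfl⟩ := Polynomial.map_surjective _ IsLocalRing.residue_surjective q
    exact ⟨AdjoinRoot.mk F q', by rw [show ψ (AdjoinRoot.mk F q') = q'.eval₂ e α from AdjoinRoot.lift_mk _ q', heval]; rfl⟩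
  haveI : Module.Finite A (AdjoinRoot F) := hFm.finite_adjoinRoot
  haveI : Module.Free A (AdjoinRoot F) := hFm.free_adjoinRoot
  haveI : IsNoetherianRing (AdjoinRoot F) := IsNoetherianRing.of_finite A _
  haveI hloc : IsLocalRing (AdjoinRoot F) := by
    refine IsLocalRing.of_unique_max_ideal ⟨RingHom.ker ψ, RingHom.ker_isMaximal_of_surjective ψ hψ, fun M hM => ?_⟩
    refine ((RingHom.ker_isMaximal_of_surjective ψ hψ).eq_of_le hM.ne_top ?_).symm
    intro x hx
    obtain ⟨q, rfl⟩ := AdjoinRoot.mk_surjective x
    rw [RingHom.mem_ker, show ψ (AdjoinRoot.mk F q) = q.eval₂ e α from AdjoinRoot.lift_mk _ q, heval] at hx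
    obtain ⟨h, hh⟩ := minpoly.dvd _ α hx
    obtain ⟨h', rfl⟩ := Polynomial.map_surjective _ IsLocalRing.residue_surjective h
    have hcoeff : ∀ i, (q - F * h').coeff i ∈ maximalIdeal A := fun i => by
      rw [← IsLocalRing.residue_eq_zero_iff, ← Polynomial.coeff_map, Polynomial.map_sub, Polynomial.map_mul, hF, hh]
      simp [μ]
    have hmx : AdjoinRoot.mk F q = AdjoinRoot.mk F (q - F * h') := by
      rw [map_sub, map_mul, AdjoinRoot.mk_self, zero_mul, sub_zero]
    rw [hmx, Polynomial.as_sum_support_C_mul_X_pow (q - F * h'), map_sum]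
    refine Ideal.sum_mem _ fun i _ => ?_
    rw [map_mul]
    refine Ideal.mul_mem_right _ _ ?_
    have hcomap : M.comap (algebraMap A (AdjoinRoot F)) = maximalIdeal A := by
      haveI := hM
      exact IsLocalRing.eq_maximalIdeal (Ideal.isMaximal_comap_of_isIntegral_of_isMaximal M)
    exact (hcomap.ge (hcoeff i) :)
  refine ⟨AdjoinRoot F, inferInstance, inferInstance, hloc, algebraMap A _, ψ,
    RingHom.flat_algebraMap_iff.mpr inferInstance, hψ, ?_⟩
  ext a
  simp only [RingHom.comp_apply, AdjoinRoot.algebraMap_eq]
  exact AdjoinRoot.lift_of _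

/-- The closed fibre is geometrically connected. -/
theorem geometricallyConnected_closedFibre [IsProper p] (hp : Function.Bijective p.appTop) :
    GeometricallyConnected (pullback.snd p (Spec.map (CommRingCat.ofHom (residue A)))) := by
  set P := pullback p (Spec.map (CommRingCat.ofHom (residue A)))
  letI : P.Over (Spec (CommRingCat.of (ResidueField A))) := ⟨pullback.snd _ _⟩
  refine (S7591.result (ResidueField A) P).2 fun k' _ _ _ _ => ?_
  obtain ⟨B, _, _, _, φ, ψ, hφ, hψ, he⟩ := exists_flat_lift (A := A) k'
  haveI := connectedSpace_pullback_of_flat_surjective p hp φ hφ ψ hψ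
  have ec : Spec.map (CommRingCat.ofHom (ψ.comp φ)) = Spec.map (CommRingCat.ofHom (algebraMap (ResidueField A) k')) ≫
      Spec.map (CommRingCat.ofHom (residue A)) := by
    rw [he, ← Spec.map_comp]; rfl
  let q : pullback p (Spec.map (CommRingCat.ofHom (ψ.comp φ))) ⟶
      pullback p (Spec.map (CommRingCat.ofHom (algebraMap (ResidueField A) k')) ≫
        Spec.map (CommRingCat.ofHom (residue A))) :=
    pullback.map p _ p _ (𝟙 _) (𝟙 _) (𝟙 _) (by simp) (by rw [Category.comp_id, Category.id_comp]; exact ec)
  let q₂ := (pullbackLeftPullbackSndIso p (Spec.map (CommRingCat.ofHom (residue A)))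
    (Spec.map (CommRingCat.ofHom (algebraMap (ResidueField A) k')))).inv
  exact (q ≫ q₂).homeomorph.surjective.connectedSpace (q ≫ q₂).continuous

/-- A proper scheme over a DVR with constant global functions and geometrically connected generic fibre has
geometrically connected fibres. -/
theorem geometricallyConnected_of_generic {R : Type u} [CommRing R] [IsDomain R] [IsDiscreteValuationRing R]
    (p : X ⟶ Spec (CommRingCat.of R)) [IsProper p] (hp : Function.Bijective p.appTop) {C : Scheme.{u}} {g : C ⟶ X}
    {f : C ⟶ Spec (CommRingCat.of (FractionRing R))} (hg : IsPullback g f p (genIncl R)) [GeometricallyConnected f] :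
    GeometricallyConnected p := by
  haveI := isOpenImmersion_genIncl R
  haveI := geometricallyConnected_closedFibre p hp
  refine Pi1X.geometricallyConnected_of_isAlgClosed p fun Ω _ _ s => ?_
  have hcase : (∃ t : Spec (CommRingCat.of Ω) ⟶ Spec (CommRingCat.of (FractionRing R)), t ≫ genIncl R = s) ∨
      ∃ t : Spec (CommRingCat.of Ω) ⟶ Spec (CommRingCat.of (ResidueField R)),
        t ≫ Spec.map (CommRingCat.ofHom (residue R)) = s := by
    obtain ⟨φ, rfl⟩ : ∃ φ, Spec.map φ = s := ⟨_, Spec.map_preimage s⟩
    by_cases hc : Function.Injective φ.hom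
    · left
      refine ⟨Spec.map (CommRingCat.ofHom (IsFractionRing.lift hc)), ?_⟩
      rw [← Spec.map_comp]
      congr 1
      ext r
      exact IsFractionRing.lift_algebraMap hc r
    · right
      have hker : RingHom.ker φ.hom = maximalIdeal R := by
        haveI := RingHom.ker_isPrime φ.hom
        refine IsLocalRing.eq_maximalIdeal (Ideal.IsPrime.isMaximal ‹_› fun h => hc ?_)
        exact (RingHom.injective_iff_ker_eq_bot _).2 h
      refine ⟨Spec.map (CommRingCat.ofHom (Ideal.Quotient.lift _ φ.hom fun a ha => RingHom.mem_ker.1 (hker ▸ ha))), ?_⟩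
      rw [← Spec.map_comp]
      congr 1
  rcases hcase with ⟨t, rfl⟩ | ⟨t, rfl⟩
  · have H := (IsPullback.of_hasPullback f t).paste_horiz hg
    haveI : ConnectedSpace ↥(pullback f t) := GeometricallyConnected.geometrically_connectedSpace (f := f) _ _ _ (.of_hasPullback f t)
    exact H.isoPullback.hom.homeomorph.surjective.connectedSpace H.isoPullback.hom.continuous
  · haveI : ConnectedSpace ↥(pullback (pullback.snd p (Spec.map (CommRingCat.ofHom (residue R)))) t) :=
      GeometricallyConnected.geometrically_connectedSpace (f := pullback.snd p (Spec.map (CommRingCat.ofHom (residue R)))) _ _ _ (.of_hasPullback _ t)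
    exact (pullbackLeftPullbackSndIso p _ t).hom.homeomorph.surjective.connectedSpace
      (pullbackLeftPullbackSndIso p _ t).hom.continuous

attribute [local instance] GeomField.globalAlgebra in
/-- A smooth proper geometrically connected scheme over a field has only constant global functions. -/
theorem isIso_appTop_of_smooth {k : Type u} [Field k] {C : Scheme.{u}} (f : C ⟶ Spec (CommRingCat.of k))
    [Smooth f] [IsProper f] [GeometricallyConnected f] : IsIso f.appTop := by
  letI : C.Over (Spec (CommRingCat.of k)) := ⟨f⟩
  haveI : IsProper (C ↘ Spec (CommRingCat.of k)) := ‹IsProper f›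
  haveI : GeometricallyConnected (C ↘ Spec (CommRingCat.of k)) := ‹GeometricallyConnected f›
  haveI : GeometricallyReduced (C ↘ Spec (CommRingCat.of k)) := GrpSchLib.geometricallyReduced_of_smooth f
  have h1 := GeomField.finrank_globalFunctions_eq_one k C
  haveI : Module.Finite k Γ(C, ⊤) := Module.finite_of_finrank_eq_succ h1
  haveI : Nontrivial Γ(C, ⊤) := Module.nontrivial_of_finrank_eq_succ (R := k) (n := 0) h1
  have hbij : Function.Bijective (algebraMap k Γ(C, ⊤)) :=
    bijective_algebraMap_of_linearEquiv
      (LinearEquiv.ofFinrankEq (R := k) k Γ(C, ⊤) (by rw [h1, Module.finrank_self]))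
  have hi := ConcreteCategory.bijective_of_isIso (Scheme.ΓSpecIso (CommRingCat.of k)).inv
  exact (ConcreteCategory.isIso_iff_bijective f.appTop).mpr ((Function.Bijective.of_comp_iff _ hi).1 hbij)

end Groth.Agent.ModX56
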