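import Groth.Agent.ModX56.Genus
import Groth.Agent.ModX56.Chain
import Groth.Agent.ModX56.ExcCrit
import Groth.Agent.AlgSpLib.CartierRegular

/-!
# Two exceptional curves that meet
-/

universe u

set_option linter.style.haveILetI false
set_option backward.isDefEq.respectTransparency false
set_option backward.isDefEq.respectTransparency.types false

open CategoryTheory CategoryTheory.Limits AlgebraicGeometry IsLocalRing TopologicalSpace

namespace Groth.Agent.ModX56

open Groth.Agent

/-- A closed set without proper specializations is finite. -/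
theorem finite_of_isClosed_no_spec {α : Type*} [TopologicalSpace α] [NoetherianSpace α] [QuasiSober α]
    (K : Closeds α) (h : ∀ a ∈ K, ∀ b ∈ K, a ⤳ b → a = b) : (K : Set α).Finite := by
  obtain ⟨T, hT, hirr, hK⟩ := NoetherianSpace.exists_finite_set_closeds_irreducible K
  refine (hT.biUnion (t := fun t : Closeds α => (t : Set α)) fun t ht => ?_).subset fun x hx => ?_
  · refine Set.Subsingleton.finite fun a ha b hb => ?_
    obtain ⟨η, hη⟩ := QuasiSober.sober (hirr t ht) t.isClosed
    have hle : ∀ d ∈ (t : Set α), η = d := fun d hd =>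
      h η (hK ▸ le_sSup ht hη.mem) d (hK ▸ le_sSup ht hd) (hη.specializes hd)
    rw [← hle a ha, ← hle b hb]
  · rw [hK] at hx
    have : x ∈ closure (⋃ t ∈ T, (t : Set α)) := by
      rw [Closeds.coe_sSup, Set.sUnion_image] at hx
      exact hx
    rwa [(hT.isClosed_biUnion fun t _ => t.isClosed).closure_eq] at this

/-- A proper nonempty finite discrete scheme over a field with one-dimensional functions is a rational point. -/
theorem isField_of_hRank_one {K : Type u} [Field K] {Z : Scheme.{u}} [Nonempty Z]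
    (f : Z ⟶ Spec (CommRingCat.of K)) (hone : Models.hRank K Z f (Coh.structureModule Z) 0 = 1) :
    Function.Surjective (Coh.toGlobal f) ∧ IsField ↑(Γ(Z, ⊤)) := by
  letI : Z.Over (Spec (CommRingCat.of K)) := ⟨f⟩
  letI := GeomField.globalAlgebra K Z
  have h : Module.finrank K Γ(Z, ⊤) = 1 := (GeomField.finrank_HH_zero K Z).symm.trans hone
  haveI : Nonempty (⊤ : Z.Opens) := ⟨⟨Classical.arbitrary Z, trivial⟩⟩
  have hsurj : Function.Surjective (Coh.toGlobal f) := fun y => by
    obtain ⟨c, hc⟩ := (finrank_eq_one_iff_of_nonzero' (1 : Γ(Z, ⊤)) one_ne_zero).1 h y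
    exact ⟨c, by rw [← hc, Algebra.smul_def, mul_one]; rfl⟩
  exact ⟨hsurj, MulEquiv.isField (Field.toIsField K)
    (RingEquiv.ofBijective (algebraMap K Γ(Z, ⊤)) ⟨(algebraMap K Γ(Z, ⊤)).injective, hsurj⟩).symm.toMulEquiv⟩

variable {R : Type u} [CommRing R] [IsDomain R] [IsDiscreteValuationRing R]

/-- Intersection number one: the scheme-theoretic intersection is a reduced rational point. -/
theorem exists_point_of_inter_one {X : Over (Spec (CommRingCat.of R))} (hX : ArSurfX.IsSurf X)
    (Γ Δ : ArSurf.VertComp R X) (hne : Set.range Γ.ι.base ≠ Set.range Δ.ι.base) {L : X.left.Modules}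
    (hL : ClSub.IsInverseOf L (ClSub.idealMod Δ.ι.ker)) (hone : ArSurf.inter R X L Γ = 1) :
    ∃ x : X.left, Set.range (Γ.ι.base : Γ.curve.left → X.left) ∩ Set.range (Δ.ι.base : Δ.curve.left → X.left) = {x} ∧
      Γ.ι.ker ⊔ Δ.ι.ker = Scheme.IdealSheafData.vanishingIdeal ⟨closure {x}, isClosed_closure⟩ ∧
      Function.Surjective ((X.left.residue x).hom.comp (Models.stalkHom R X x)) := by
  haveI := hX.isProper
  haveI := hX.isLocallyNoetherian
  rw [sup_comm]
  set D := Δ.ι.ker ⊔ Γ.ι.ker
  have hsupp : (D.support : Set X.left) = Set.range Δ.ι.base ∩ Set.range Γ.ι.base := by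
    rw [Scheme.IdealSheafData.support_sup, Closeds.coe_inf, ArSurfX.support_ker, ArSurfX.support_ker]
  have hlen : Models.lengthH R X (ClSub.quotMod D) 0 = 1 := by
    have := ArSurfX.inter_eq Γ (hX.isEffCartier_ker Δ) (hX.genPtOf_notMem_of_ne Γ Δ hne) hL
    rw [hone] at this
    exact_mod_cast this.symm
  have hle : Models.specialFibreIdeal R X ≤ D := by
    refine le_trans ?_ le_sup_right
    obtain ⟨n, Γc, hΓc⟩ := hX.exists_componentList
    obtain ⟨i, hi⟩ : Set.range Γ.ι.base ∈ Set.range (fun i => Set.range (Γc i).ι.base) :=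
      hΓc.2.symm ▸ hX.range_mem_fibreComponents Γ
    rw [ArSurfX.ker_congr Γ (Γc i) hi.symm]
    refine le_trans (Surf.prod_le_specialFibre hX hΓc (fun j => if j = i then 1 else 0) fun j => ?_) (le_of_eq ?_)
    · have := hX.mult_pos (Γc j)
      split_ifs <;> omega
    · rw [Finset.prod_eq_single_of_mem i (Finset.mem_univ i) fun j _ hj => by rw [if_neg hj, pow_zero]]
      simp
  obtain ⟨fD, hfD⟩ := exists_toField hle
  haveI hp := isProper_toField D.subschemeι fD hfD
  haveI : IsLocallyNoetherian D.subscheme := LocallyOfFiniteType.isLocallyNoetherian D.subschemeι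
  haveI : CompactSpace D.subscheme := QuasiCompact.compactSpace_of_compactSpace fD
  haveI : IsNoetherian D.subscheme := {}
  have hr : Models.hRank (ResidueField R) D.subscheme fD (Coh.structureModule D.subscheme) 0 = 1 := by
    have h := lengthH_push D.subschemeι fD hfD isCoh_structureModule_of_noeth 0
    have h' := congrArg ENat.toNat h
    rw [ENat.toNat_natCast] at h'
    exact h'.symm.trans hlen
  haveI : Nonempty D.subscheme := by
    rw [← not_isEmpty_iff]
    intro he
    haveI : Subsingleton Γ(D.subscheme, ⊤) := by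
      rw [show (⊤ : D.subscheme.Opens) = ⊥ from Opens.ext (Set.ext fun z => isEmptyElim z)]
      infer_instance
    letI : D.subscheme.Over (Spec (CommRingCat.of (ResidueField R))) := ⟨fD⟩
    haveI : Subsingleton (Coh.HH D.subscheme (Coh.structureModule D.subscheme) 0) :=
      (Sheaf.H.equiv₀ (Coh.toAb (Coh.structureModule D.subscheme)) isTerminalTop).toEquiv.subsingleton_congr.2 ‹_›
    rw [show Models.hRank (ResidueField R) D.subscheme fD (Coh.structureModule D.subscheme) 0 = 0 from
      Module.finrank_zero_of_subsingleton] at hr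
    omega
  obtain ⟨hsurj, hfield⟩ := isField_of_hRank_one fD hr
  -- the intersection is finite
  haveI : Finite D.subscheme := by
    haveI : CompactSpace Γ.curve.left :=
      haveI : IsProper Γ.curve.hom := ArSurfX.isProper_curve Γ
      QuasiCompact.compactSpace_of_compactSpace Γ.curve.hom
    haveI : IsLocallyNoetherian Γ.curve.left := LocallyOfFiniteType.isLocallyNoetherian Γ.ι
    haveI : IsNoetherian Γ.curve.left := {}
    have hfin : (Γ.ι.base ⁻¹' Set.range Δ.ι.base).Finite := by
      refine finite_of_isClosed_no_spec ⟨_, (ArSurfX.isClosed_range Δ).preimage Γ.ι.continuous⟩ fun a ha b _ hab => ?_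
      by_cases hc : IsClosed ({a} : Set Γ.curve.left)
      · exact (hab.mem_closed hc (Set.mem_singleton a)).symm
      · exfalso
        obtain rfl := CurveCohLib.eq_genericPoint_of_not_isClosed Γ.dim_eq hc
        exact hX.genPtOf_notMem_of_ne Γ Δ hne (by rw [ArSurfX.support_ker]; exact ha)
    have h : (Set.range D.subschemeι).Finite := by
      refine (hfin.image Γ.ι.base).subset ?_
      rw [Scheme.IdealSheafData.range_subschemeι, hsupp]
      rintro _ ⟨hy, z, rfl⟩
      exact ⟨z, hy, rfl⟩
    haveI := h.to_subtype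
    exact Finite.of_injective (fun z => (⟨D.subschemeι z, Set.mem_range_self z⟩ : Set.range D.subschemeι))
      fun a b hab => D.subschemeι.isClosedEmbedding.injective (Subtype.mk.inj hab)
  haveI : DiscreteTopology D.subscheme := by
    refine discreteTopology_iff_isOpen_singleton.2 fun z => ?_
    rw [← isClosed_compl_iff]
    have key : ∀ y : D.subscheme, IsClosed ({y} : Set D.subscheme) := fun y => by
      have hy : D.subschemeι y ∈ Set.range Δ.ι.base ∩ Set.range Γ.ι.base := by
        rw [← hsupp, ← Scheme.IdealSheafData.range_subschemeι]; exact Set.mem_range_self y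
      obtain ⟨w, hw⟩ := hy.2
      have hwc : IsClosed ({w} : Set Γ.curve.left) := by
        by_contra hc
        haveI : CompactSpace Γ.curve.left :=
          haveI : IsProper Γ.curve.hom := ArSurfX.isProper_curve Γ
          QuasiCompact.compactSpace_of_compactSpace Γ.curve.hom
        obtain rfl := CurveCohLib.eq_genericPoint_of_not_isClosed Γ.dim_eq hc
        exact hX.genPtOf_notMem_of_ne Γ Δ hne (by
          rw [ArSurfX.support_ker, show Models.genPtOf R X Γ = D.subschemeι y from hw]
          exact hy.1)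
      have h1 := Γ.ι.isClosedEmbedding.isClosedMap _ hwc
      rw [Set.image_singleton, hw] at h1
      have h2 := h1.preimage D.subschemeι.continuous
      rwa [show D.subschemeι ⁻¹' {D.subschemeι y} = {y} from
        Set.ext fun a => ⟨fun h => D.subschemeι.isClosedEmbedding.injective h, fun h => congrArg _ h⟩] at h2
    have : ({z}ᶜ : Set D.subscheme) = ⋃ y ∈ ({z}ᶜ : Set D.subscheme), {y} :=
      (Set.biUnion_of_singleton _).symm
    rw [this]
    exact (Set.toFinite _).isClosed_biUnion fun y _ => key y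
  haveI : IsAffine D.subscheme := inferInstance
  letI := hfield.toField
  haveI : Subsingleton D.subscheme :=
    D.subscheme.isoSpec.hom.homeomorph.toEquiv.subsingleton_congr.2
      (inferInstanceAs (Subsingleton (PrimeSpectrum Γ(D.subscheme, ⊤))))
  haveI : AlgebraicGeometry.IsReduced D.subscheme := by
    haveI : AlgebraicGeometry.IsReduced (Spec Γ(D.subscheme, ⊤)) := inferInstance
    exact isReduced_of_isOpenImmersion D.subscheme.isoSpec.hom
  obtain ⟨z⟩ : Nonempty D.subscheme := inferInstance
  set x := D.subschemeι z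
  have hr1 : Set.range D.subschemeι = {x} := by
    refine Set.eq_singleton_iff_unique_mem.2 ⟨Set.mem_range_self z, ?_⟩
    rintro _ ⟨y, rfl⟩
    exact congrArg _ (Subsingleton.elim y z)
  have hxs : (D.support : Set X.left) = {x} := by
    rw [← Scheme.IdealSheafData.range_subschemeι]; exact hr1
  refine ⟨x, ?_, ?_, ?_⟩
  · rw [Set.inter_comm, ← hsupp, hxs]
  · refine (AlgSpLib.CartierRegular.eq_vanishingIdeal_support D).trans (congrArg _ (Closeds.ext ?_))
    show (D.support : Set X.left) = closure {x}
    rw [hxs, IsClosed.closure_eq]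
    rw [← hxs]; exact D.support.isClosed
  · have hev : Function.Surjective (D.subscheme.Γevaluation z) := by
      intro y
      obtain ⟨b, rfl⟩ := D.subscheme.residue_surjective z y
      letI := D.subscheme.presheaf.algebra_section_stalk (U := ⊤) ⟨z, trivial⟩
      haveI := (isAffineOpen_top D.subscheme).isLocalization_stalk ⟨z, trivial⟩
      obtain ⟨⟨a, s⟩, rfl⟩ := IsLocalization.mk'_surjective
        ((isAffineOpen_top D.subscheme).primeIdealOf ⟨z, trivial⟩).asIdeal.primeCompl b
      refine ⟨a * (s : Γ(D.subscheme, ⊤))⁻¹, ?_⟩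
      show D.subscheme.residue z _ = _
      congr 1
      rw [IsLocalization.eq_mk'_iff_mul_eq]
      show D.subscheme.presheaf.germ ⊤ z trivial _ * D.subscheme.presheaf.germ ⊤ z trivial _ = _
      rw [← map_mul, mul_assoc, inv_mul_cancel₀ (fun h0 => s.2 (by rw [h0]; exact Ideal.zero_mem _)), mul_one]
      rfl
    intro y
    obtain ⟨a, ha⟩ := hev (D.subschemeι.residueFieldMap z y)
    obtain ⟨c, rfl⟩ := hsurj a
    obtain ⟨r, rfl⟩ := residue_surjective c
    refine ⟨r, (D.subschemeι.residueFieldMap z).hom.injective ?_⟩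
    rw [← ha, ← RingHom.comp_apply (Coh.toGlobal fD), ← toGlobal_comp_residue D.subschemeι fD hfD]
    exact Scheme.Γevaluation_naturality_apply D.subschemeι z _

/-- Two exceptional components that meet fill the whole fibre. -/
theorem excCurves_meet {C X : Scheme.{u}} {f : C ⟶ Spec (CommRingCat.of (FractionRing R))}
    {p : X ⟶ Spec (CommRingCat.of R)} {g : C ⟶ X} (hg : IsPullback g f p (genIncl R))
    (hX : ArSurfX.IsSurf (Over.mk p)) (hH0 : IsIso f.appTop)
    (hconn : _root_.IsConnected (Models.specialFibreSet R (Over.mk p)))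
    {n : ℕ} (Γ : Fin n → ArSurf.VertComp R (Over.mk p)) (hΓ : Models.IsComponentList R (Over.mk p) Γ)
    (i j : Fin n) (hij : i ≠ j) (hi : Models.IsExcCurve (Γ i).ι) (hj : Models.IsExcCurve (Γ j).ι)
    (hmeet : ¬ Disjoint (Set.range ((Γ i).ι.base : (Γ i).curve.left → X))
      (Set.range ((Γ j).ι.base : (Γ j).curve.left → X))) :
    n = 2 ∧ (∀ l, Models.mult R (Over.mk p) (Γ l) = 1) ∧
      (∀ l, ∃ e : (Γ l).curve.left ≅ CohB1.ProjSpace 1 (ResidueField R),
        e.hom ≫ CohB1.ProjSpace.toSpec 1 (ResidueField R) = (Γ l).curve.hom) ∧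
      (∃ x : X, Set.range ((Γ i).ι.base : (Γ i).curve.left → X) ∩ Set.range ((Γ j).ι.base : (Γ j).curve.left → X) = {x} ∧
        (Γ i).ι.ker ⊔ (Γ j).ι.ker =
          Scheme.IdealSheafData.vanishingIdeal ⟨closure {x}, isClosed_closure⟩ ∧
        Function.Surjective ((X.residue x).hom.comp (Models.stalkHom R (Over.mk p) x))) ∧
      Models.curveGenus (FractionRing R) C f = 0 := by
  classical
  haveI : IsProper (Over.mk p).hom := hX.isProper
  choose L _ hL using fun l => ArSurfX.exists_isInverseOf
    (ArSurfX.isInvertible_idealMod (hX.isEffCartier_ker (Γ l)))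
  let A : Fin n → Fin n → ℤ := fun q r => ArSurf.inter R (Over.mk p) (L r) (Γ q)
  let w : Fin n → ℕ := fun l => Models.wdeg R (Over.mk p) (Γ l)
  let m : Fin n → ℕ := fun l => Models.mult R (Over.mk p) (Γ l)
  have hsymm : A i j = A j i := hX.inter_components_symm hΓ hL i j
  obtain ⟨hi1, hi2⟩ := inter_idealMod_of_isExcCurve (Γ i) hi
  obtain ⟨hj1, hj2⟩ := inter_idealMod_of_isExcCurve (Γ j) hj
  have hAi : A i i = -(w i : ℤ) :=
    (ArSurfX.inter_inverse (Γ i) (ArSurfX.isInvertible_idealMod hi.1) (hL i)).trans (by rw [hi2])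
  have hAj : A j j = -(w j : ℤ) :=
    (ArSurfX.inter_inverse (Γ j) (ArSurfX.isInvertible_idealMod hj.1) (hL j)).trans (by rw [hj2])
  have hne : A i j ≠ 0 := fun h => hmeet ((hX.inter_components_eq_zero_iff hΓ hL hij).1 h)
  have hpos : 0 < A i j := lt_of_le_of_ne (hX.inter_components_nonneg hΓ hL hij) (Ne.symm hne)
  have hwi : (w i : ℤ) ≤ A i j := Int.le_of_dvd hpos (wdeg_dvd_inter (Γ i) (L j))
  have hwj : (w j : ℤ) ≤ A i j := hsymm ▸ Int.le_of_dvd (hsymm ▸ hpos) (wdeg_dvd_inter (Γ j) (L i))
  let b : Fin n → ℤ := fun l => if l = i ∨ l = j then 1 else 0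
  obtain ⟨hle, hform⟩ := hX.form_nonpos hΓ hL b
  have hQ : ∑ q, ∑ r, A q r * (b q * b r) = A i i + A i j + (A j i + A j j) := by
    have hb : ∀ l, b l = (if l = i then 1 else 0) + (if l = j then 1 else 0) := fun l => by
      simp only [b]
      by_cases h1 : l = i
      · simp [h1, hij]
      · simp [h1]
    simp only [hb, mul_add, add_mul, Finset.sum_add_distrib, mul_ite, ite_mul, mul_one, mul_zero, one_mul,
      zero_mul, Finset.sum_ite_eq', Finset.mem_univ, if_true, Finset.sum_ite_irrel, Finset.sum_const_zero]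
    ring
  change ∑ q, ∑ r, A q r * (b q * b r) ≤ 0 at hle
  rw [hQ, hAi, hAj, ← hsymm] at hle
  have hedge := hform (by
    show ∑ q, ∑ r, A q r * (b q * b r) = 0
    rw [hQ, hAi, hAj, ← hsymm]; omega)
  have hbi : b i = 1 := by simp [b]
  have hbj : b j = 1 := by simp [b]
  have hm : m i = m j := by
    have h := hedge i j hne
    rw [hbi, hbj] at h
    simp only [Int.cast_one, one_div, inv_inj, Nat.cast_inj] at h
    exact h
  have huniv : ({i, j} : Finset (Fin n)) = Finset.univ := by
    by_contra hU
    obtain ⟨q, hq, r, hr, hqr⟩ := hX.connected_components hΓ hL hconn {i, j} ⟨i, Finset.mem_insert_self _ _⟩ hU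
    simp only [Finset.mem_insert, Finset.mem_singleton] at hq hr
    have h := hedge q r hqr
    have hb1 : b q = 1 := by simp only [b]; rw [if_pos hq]
    have hb0 : b r = 0 := by simp only [b]; rw [if_neg hr]
    rw [hb1, hb0, Int.cast_zero, zero_div, div_eq_zero_iff] at h
    rcases h with h | h
    · norm_num at h
    · exact (hX.mult_pos (Γ q)).ne' (by exact_mod_cast h)
  have hn : n = 2 := by
    have h := congrArg Finset.card huniv
    rw [Finset.card_pair hij, Finset.card_fin] at h
    exact h.symm
  have hgen := genus_formula hg hX hH0 hΓ hL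
  rw [← huniv, Finset.sum_pair hij] at hgen
  change 2 * (_ : ℤ) = 2 + ((m i : ℤ) * (2 * ((Models.h1 R (Over.mk p) (Γ i) : ℤ) - w i) - A i i) +
    (m j : ℤ) * (2 * ((Models.h1 R (Over.mk p) (Γ j) : ℤ) - w j) - A j j)) at hgen
  rw [hi1, hj1, hAi, hAj, ← hm] at hgen
  have hwij : (w j : ℤ) = w i := by omega
  rw [hwij] at hgen
  have hmw : m i * w i = 1 ∧ Models.curveGenus (FractionRing R) C f = 0 := by
    have h1 : 0 < m i * w i := Nat.mul_pos (hX.mult_pos (Γ i)) (wdeg_pos (Γ i))
    have h2 : (Models.curveGenus (FractionRing R) C f : ℤ) + ((m i * w i : ℕ) : ℤ) = 1 := by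
      push_cast at hgen ⊢
      linarith
    omega
  obtain ⟨hm1, hw1⟩ := mul_eq_one.1 hmw.1
  have hall : ∀ l, l = i ∨ l = j := fun l => by
    have := huniv.symm ▸ Finset.mem_univ l
    simpa using this
  have hwl : ∀ l, Models.h1 R (Over.mk p) (Γ l) = 0 ∧ w l = 1 ∧
      ArSurf.inter R (Over.mk p) (ClSub.idealMod (Γ l).ι.ker) (Γ l) = 1 := fun l => by
    have hwj1 : w j = 1 := by omega
    rcases hall l with rfl | rfl
    · exact ⟨hi1, hw1, by rw [hi2]; exact_mod_cast hw1⟩
    · exact ⟨hj1, hwj1, by rw [hj2]; exact_mod_cast hwj1⟩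
  refine ⟨hn, fun l => ?_, fun l => ?_, ?_, hmw.2⟩
  · rcases hall l with rfl | rfl
    · exact hm1
    · exact hm.symm.trans hm1
  · obtain ⟨hl1, -, hl3⟩ := hwl l
    haveI hp : IsProper ((Γ l).curve.left ↘ Spec (CommRingCat.of (ResidueField R))) :=
      ArSurfX.isProper_curve (Γ l)
    haveI := CurveCohLib.isNoetherian_of_proper (k := ResidueField R) (X := (Γ l).curve.left)
    haveI := CurveCohLib.finite_HH (k := ResidueField R) (QCoh.isCoh_structureModule' (X := (Γ l).curve.left)) 1
    have hM := PicClLib.isInvertible_pullback (Γ l).ι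
      (ArSurfX.isInvertible_idealMod (hX.isEffCartier_ker (Γ l)))
    exact CurveEmbed.exists_iso_line (ResidueField R) (Γ l).dim_eq (Module.finrank_zero_iff.1 hl1) hM
      (by rw [← ArSurfX.curveDeg_eq (ResidueField R) (Γ l).dim_eq.le (ZeroSchX.isQCoh_inv hM)]; exact hl3)
  · refine exists_point_of_inter_one hX (Γ i) (Γ j) (fun e => hij (hΓ.1 e)) (hL j) ?_
    show A i j = 1
    omega

end Groth.Agent.ModX56
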