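import Groth.Agent.ModX56.Chain
import Groth.Agent.ModX56.ExcCrit
import Groth.Agent.ModX56.Genus
import Groth.Agent.ArSurfX.Section

/-!
# Consequences of a rational point
-/

universe u

set_option linter.style.haveILetI false
set_option backward.isDefEq.respectTransparency false
set_option backward.isDefEq.respectTransparency.types false

open CategoryTheory CategoryTheory.Limits AlgebraicGeometry IsLocalRing

namespace Groth.Agent.ModX56

open Groth.Agent

variable {R : Type u} [CommRing R] [IsDomain R] [IsDiscreteValuationRing R]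
  {X : Over (Spec (CommRingCat.of R))}

/-- A closed subscheme with a field of global functions through a point with trivial residue extension
has no other constants. -/
theorem surjective_toGlobal_of_field {Z : Scheme.{u}} (i : Z ⟶ X.left) [IsClosedImmersion i]
    (hK : IsField ↑(Γ(Z, ⊤))) (z : Z)
    (hx : Function.Surjective ((X.left.residue (i z)).hom.comp (Models.stalkHom R X (i z)))) :
    Function.Surjective (Coh.toGlobal (i ≫ X.hom)) := by
  letI := hK.toField
  intro a
  have hsurj : Function.Surjective (i.residueFieldMap z) := by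
    intro y
    obtain ⟨b, rfl⟩ := Z.residue_surjective z y
    obtain ⟨c, rfl⟩ := i.stalkMap_surjective z b
    exact ⟨X.left.residue _ c, rfl⟩
  obtain ⟨y, hy⟩ := hsurj (Z.Γevaluation z a)
  obtain ⟨r, rfl⟩ := hx y
  refine ⟨r, (Z.Γevaluation z).hom.injective ?_⟩
  rw [← hy]
  exact (Scheme.Γevaluation_naturality_apply i z _).symm

/-- A `K`-point of the generic fibre extends to a section. -/
theorem exists_section {C X : Scheme.{u}} (p : X ⟶ Spec (CommRingCat.of R)) [IsProper p]
    {f : C ⟶ Spec (CommRingCat.of (FractionRing R))} {g : C ⟶ X} (hw : g ≫ p = f ≫ genIncl R)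
    (s : Spec (CommRingCat.of (FractionRing R)) ⟶ C) (hs : s ≫ f = 𝟙 _) :
    ∃ σ : Spec (CommRingCat.of R) ⟶ X, σ ≫ p = 𝟙 _ := by
  have h := (IsProper.eq_valuativeCriterion ▸ ‹IsProper p› :
    (ValuativeCriterion ⊓ @QuasiCompact ⊓ @QuasiSeparated ⊓ @LocallyOfFiniteType) p)
  have hcrit : ValuativeCriterion p := h.1.1.1
  let S : ValuativeCommSq p :=
    { R := R
      K := FractionRing R
      i₁ := s ≫ g
      i₂ := 𝟙 _
      commSq := ⟨by rw [Category.assoc, hw, ← Category.assoc, hs, Category.id_comp, Category.comp_id]⟩ }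
  haveI := ValuativeCriterion.existence hcrit S
  exact ⟨S.commSq.lift, S.commSq.fac_right⟩

/-- The conclusions at the closed point of a section. -/
theorem rational_point {C X : Scheme.{u}} {f : C ⟶ Spec (CommRingCat.of (FractionRing R))}
    {p : X ⟶ Spec (CommRingCat.of R)} {g : C ⟶ X} (hg : IsPullback g f p (genIncl R))
    (hX : ArSurfX.IsSurf (Over.mk p)) (hH0 : IsIso f.appTop)
    (hconn : _root_.IsConnected (Models.specialFibreSet R (Over.mk p)))
    {n : ℕ} {Γc : Fin n → ArSurf.VertComp R (Over.mk p)} (hΓ : Models.IsComponentList R (Over.mk p) Γc)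
    (s : Spec (CommRingCat.of (FractionRing R)) ⟶ C) (hs : s ≫ f = 𝟙 _) :
    (∃ (i : Fin n) (x : X), x ∈ Set.range ((Γc i).ι.base : (Γc i).curve.left → X) ∧ IsClosed ({x} : Set X) ∧
        Function.Surjective ((X.residue x).hom.comp (Models.stalkHom R (Over.mk p) x)) ∧
        IsRegularLocalRing (X.presheaf.stalk x ⧸
          Ideal.map (Models.stalkHom R (Over.mk p) x) (maximalIdeal R)) ∧
        Models.wdeg R (Over.mk p) (Γc i) = 1 ∧ Models.mult R (Over.mk p) (Γc i) = 1) ∧
      Models.lengthH R (Over.mk p) (ClSub.quotMod (Models.specialFibreIdeal R (Over.mk p))) 0 = 1 ∧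
      Models.lengthH R (Over.mk p) (ClSub.quotMod (Models.specialFibreIdeal R (Over.mk p))) 1 =
        Models.curveGenus (FractionRing R) C f := by
  haveI : IsProper p := hX.isProper
  haveI : IsProper (Over.mk p).hom := hX.isProper
  obtain ⟨σ, hσ⟩ := exists_section p hg.w s hs
  set x := σ.base (closedPoint R)
  have hres := ArSurfX.residue_comp_stalkHom_surjective (X := Over.mk p) σ hσ
  have hreg := hX.isRegular_fibre_at_section σ hσ
  obtain ⟨⟨i, hi, -⟩, hmult⟩ := hX.section_components hΓ σ hσ
  have hclosed : IsClosed ({x} : Set X) := by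
    haveI : IsClosedImmersion (σ ≫ p) := by rw [hσ]; infer_instance
    haveI : IsClosedImmersion σ := IsClosedImmersion.of_comp σ p
    rw [← Set.image_singleton]
    exact σ.isClosedEmbedding.isClosedMap _ (IsLocalRing.isClosed_singleton_closedPoint R)
  refine ⟨⟨i, x, hi, hclosed, hres, hreg, ?_, hmult i hi⟩, ?_⟩
  · obtain ⟨z, hz⟩ := hi
    haveI : IsProper ((Γc i).curve.left ↘ Spec (CommRingCat.of (ResidueField R))) :=
      ArSurfX.isProper_curve (Γc i)
    have hs' := surjective_toGlobal_of_field (Γc i).ι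
      (GeomField.isField_globalFunctions (ResidueField R) (Γc i).curve.left) z (hz.symm ▸ hres)
    rw [ArSurfX.toGlobal_ι_comp] at hs'
    exact hRank_zero_of_surjective (Γc i).curve.hom (Function.Surjective.of_comp hs')
  choose L _ hL using fun j => ArSurfX.exists_isInverseOf
    (ArSurfX.isInvertible_idealMod (hX.isEffCartier_ker (Γc j)))
  have hd1 : Models.multGcd R (Over.mk p) Γc = 1 :=
    Nat.dvd_one.1 (hmult i hi ▸ Finset.gcd_dvd (Finset.mem_univ i))
  have h1d : ∀ j, 1 ≤ Models.mult R (Over.mk p) (Γc j) / Models.multGcd R (Over.mk p) Γc := fun j => by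
    rw [hd1, Nat.div_one]; exact hX.mult_pos (Γc j)
  obtain ⟨c, -, hcl, -, hc⟩ := Surf.exists_chain hX hΓ hL hconn Surf.FieldH0
    (fun D Δ => Surf.fieldH0_mul hX D Δ) _ (fun _ => 1) (fun _ => le_rfl) h1d
    rfl (Surf.fieldH0_redFibre hX hΓ hconn)
  have hF := hc (Fin.last _)
  rw [hcl, hd1] at hF
  simp only [Nat.div_one] at hF
  rw [← hX.specialFibreIdeal_eq_prod hΓ] at hF
  set D := Models.specialFibreIdeal R (Over.mk p)
  have hxD : x ∈ Set.range D.subschemeι := by
    have hxs : x ∈ Models.specialFibreSet R (Over.mk p) := ArSurfX.range_subset_specialFibreSet _ hi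
    rw [Scheme.IdealSheafData.range_subschemeι]
    rw [← Surf.support_prod_one hX hΓ] at hxs
    have hle : D ≤ ∏ j, (Γc j).ι.ker := by
      simpa using Surf.prod_le_specialFibre hX hΓ (fun _ => 1) fun j => hX.mult_pos (Γc j)
    exact Scheme.IdealSheafData.support_antitone hle hxs
  obtain ⟨z, hz⟩ := hxD
  have hs' := surjective_toGlobal_of_field (X := Over.mk p) D.subschemeι hF.1 z (hz.symm ▸ hres)
  obtain ⟨fD, hfD⟩ := exists_toField (le_refl D)
  rw [toGlobal_comp_residue D.subschemeι fD hfD] at hs'
  haveI : Nonempty D.subscheme := ⟨z⟩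
  haveI : IsLocallyNoetherian (Over.mk p).left := hX.isLocallyNoetherian
  haveI : IsLocallyNoetherian D.subscheme := LocallyOfFiniteType.isLocallyNoetherian D.subschemeι
  have h0 : Models.lengthH R (Over.mk p) (ClSub.quotMod D) 0 = 1 := by
    show (Module.length R (Coh.HH (Over.mk p).left ((Scheme.Modules.pushforward D.subschemeι).obj
      (Coh.structureModule D.subscheme)) 0)).toNat = 1
    rw [lengthH_push D.subschemeι fD hfD isCoh_structureModule_of_noeth 0, ENat.toNat_natCast,
      hRank_zero_of_surjective fD (Function.Surjective.of_comp hs')]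
  refine ⟨h0, ?_⟩
  have hchi : chiR (X := Over.mk p) (ClSub.quotMod D) = 1 - (Models.curveGenus (FractionRing R) C f : ℤ) :=
    chiR_specialFibre hg hX hH0
  show Models.lengthH R (Over.mk p) (ClSub.quotMod D) 1 = _
  simp only [chiR] at hchi
  omega

end Groth.Agent.ModX56
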