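import Groth.Agent.ModX56.ExcCrit
import Groth.Agent.ModX56.SurfBridge
import Groth.Agent.ModX56.Gamma
import Groth.Agent.ArSurfX.InterSum
import Groth.Agent.CurveCohLib.SmoothCurve
import Groth.Agent.GeomReg.Basic
import Groth.Agent.ArSurfX.Frames

/-!
# Smooth proper models are minimal
-/

universe u

set_option linter.style.haveILetI false
set_option backward.isDefEq.respectTransparency false
set_option backward.isDefEq.respectTransparency.types false

open CategoryTheory CategoryTheory.Limits AlgebraicGeometry IsLocalRing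

namespace Groth.Agent.ModX56

open Groth.Agent

variable {R : Type u} [CommRing R] [IsDomain R] [IsDiscreteValuationRing R] {X : Scheme.{u}}
  (p : X ⟶ Spec (CommRingCat.of R)) [Smooth p]

include p in
theorem isRegularScheme_of_smooth : Models.IsRegularScheme X := by
  intro x
  obtain ⟨V, hV, hx, -⟩ := exists_isAffineOpen_mem_and_subset (x := x) (U := ⊤) trivial
  letI a : Algebra Γ(Spec (CommRingCat.of R), ⊤) Γ(X, V) := (p.appLE ⊤ V (by simp)).hom.toAlgebra
  haveI : Algebra.Smooth Γ(Spec (CommRingCat.of R), ⊤) Γ(X, V) :=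
    RingHom.smooth_algebraMap.1 (p.smooth_appLE (isAffineOpen_top _) hV (by simp))
  haveI : IsRegularRing Γ(Spec (CommRingCat.of R), ⊤) :=
    IsRegularRing.of_ringEquiv (Scheme.ΓSpecIso (CommRingCat.of R)).symm.commRingCatIsoToRingEquiv
  haveI := GeomReg.isRegularRing_of_smooth Γ(Spec (CommRingCat.of R), ⊤) Γ(X, V)
  haveI := IsRegularRing.isRegularLocalRing_localization (R := Γ(X, V)) (hV.primeIdealOf ⟨x, hx⟩).asIdeal
  exact IsRegularLocalRing.of_ringEquiv (SmoothReg.stalkEquiv hV hx)

/-- The closed fibre of a smooth model with connected closed fibre is irreducible. -/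
theorem isIrreducible_specialFibreSet [IsProper p] (hb : Function.Bijective p.appTop) :
    IsIrreducible (Models.specialFibreSet R (Over.mk p)) := by
  haveI := connectedSpace_closedFibre p hb
  let q := pullback.snd p (Spec.map (CommRingCat.ofHom (residue R)))
  haveI : CompactSpace ↥(pullback p (Spec.map (CommRingCat.ofHom (residue R)))) :=
    QuasiCompact.compactSpace_of_compactSpace q
  haveI := CurveCohLib.isIntegral_of_smooth_connected q
  have h := (IrreducibleSpace.isIrreducible_univ
    ↥(pullback p (Spec.map (CommRingCat.ofHom (residue R))))).image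
    (pullback.fst p (Spec.map (CommRingCat.ofHom (residue R))))
    (pullback.fst p (Spec.map (CommRingCat.ofHom (residue R)))).continuous.continuousOn
  rw [Set.image_univ, Scheme.Pullback.range_fst] at h
  have e : Set.range (Spec.map (CommRingCat.ofHom (residue R))) = ({closedPoint R} : Set (PrimeSpectrum R)) := by
    refine Set.eq_singleton_iff_unique_mem.2 ⟨?_, by rintro _ ⟨q, rfl⟩; exact ArSurfX.base_residue q⟩
    obtain ⟨b⟩ : Nonempty (Spec (CommRingCat.of (ResidueField R))) :=
      inferInstanceAs (Nonempty (PrimeSpectrum (ResidueField R)))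
    exact ⟨b, ArSurfX.base_residue b⟩
  rw [e] at h
  exact h

theorem isMinimalModel_of_smooth [IsProper p] {C : Scheme.{u}} {f : C ⟶ Spec (CommRingCat.of (FractionRing R))}
    (hC : Curve.IsSmoothProperCurve (FractionRing R) C f) (hH0 : IsIso f.appTop)
    (hX : Models.IsModel R X p C f) : Models.IsMinimalModel R X p C f := by
  have hreg : Models.IsRegularProperModel R X p C f := ⟨hX, inferInstance, isRegularScheme_of_smooth p⟩
  refine ⟨hreg, fun Γ hΓ => ?_⟩
  have hS := isSurf_of_model p hC hreg
  haveI : IsProper (Over.mk p).hom := hS.isProper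
  obtain ⟨hflat, -, -, g, hg⟩ := hX
  have hirr := isIrreducible_specialFibreSet p (bijective_appTop p hg hH0)
  have hcomp : ∀ Z ∈ Models.fibreComponents R (Over.mk p), Z = Models.specialFibreSet R (Over.mk p) :=
    fun Z hZ => Set.Subset.antisymm hZ.1.2 (hZ.2 ⟨hirr, subset_rfl⟩ hZ.1.2)
  have hΓc := hS.range_mem_fibreComponents Γ
  have hlist : Models.IsComponentList R (Over.mk p) (fun _ : Fin 1 => Γ) := by
    refine ⟨fun a b _ => Subsingleton.elim a b, ?_⟩
    rw [Set.range_const]
    exact Set.eq_of_subset_of_subset (Set.singleton_subset_iff.2 hΓc)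
      fun Z hZ => (hcomp Z hZ).trans (hcomp _ hΓc).symm
  obtain ⟨L, -, hL⟩ := ArSurfX.exists_isInverseOf (ArSurfX.isInvertible_idealMod hΓ.1)
  have h := hS.sum_mult_inter hlist (L := fun _ => L) (fun _ => hL) Γ
  rw [Fin.sum_univ_one] at h
  have h2 := (inter_idealMod_of_isExcCurve Γ hΓ).2
  have h3 := ArSurfX.inter_inverse Γ (ArSurfX.isInvertible_idealMod hΓ.1) hL
  have h4 := wdeg_pos Γ
  have h5 := hS.mult_pos Γ
  rcases mul_eq_zero.1 h with h' | h'
  · omega
  · omega

end Groth.Agent.ModX56
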