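import Mathlib.RingTheory.DiscreteValuationRing.Basic
import Mathlib.RingTheory.PrincipalIdealDomainOfPrime
import Mathlib.RingTheory.LocalRing.ResidueField.Basic
import Mathlib.FieldTheory.IsAlgClosed.AlgebraicClosure
import Mathlib.RingTheory.Algebraic.Integral
import Mathlib.RingTheory.TensorProduct.Maps
import Mathlib.RingTheory.Flat.TorsionFree
import Mathlib.RingTheory.Polynomial.Basic

/-!
# Base change of unramified extensions of discrete valuation rings
-/

set_option linter.style.haveILetI false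

universe u

open IsLocalRing Polynomial
open scoped TensorProduct

namespace Groth.Agent.ModX56

variable (R : Type u) [CommRing R] [IsDomain R] [IsDiscreteValuationRing R]

theorem injective_algebraMap_of_irreducible {R B : Type u} [CommRing R] [IsDomain R] [IsDiscreteValuationRing R]
    [CommRing B] [IsDomain B] [Algebra R B] {ϖ : R} (hϖ : Irreducible ϖ) (h : algebraMap R B ϖ ≠ 0) :
    Function.Injective (algebraMap R B) := by
  refine (injective_iff_map_eq_zero _).2 fun a ha => by_contra fun ha0 => ?_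
  obtain ⟨n, v, rfl⟩ := IsDiscreteValuationRing.eq_unit_mul_pow_irreducible ha0 hϖ
  rw [map_mul, map_pow] at ha
  rcases mul_eq_zero.1 ha with h1 | h1
  · exact (v.isUnit.map (algebraMap R B)).ne_zero h1
  · exact pow_ne_zero n h h1

theorem isDVR_tensor [IsAlgClosed (ResidueField R)] (B : Type u) [CommRing B] [IsDomain B]
    [IsDiscreteValuationRing B] [Algebra R B] (hmax : maximalIdeal B = (maximalIdeal R).map (algebraMap R B))
    (hfield : IsField (AlgebraicClosure (FractionRing R) ⊗[R] B))
    (R' : Type u) [CommRing R'] [IsDomain R'] [IsDiscreteValuationRing R'] [Algebra R R']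
    (hinj : Function.Injective (algebraMap R R')) [IsLocalHom (algebraMap R R')]
    [Module.Finite (FractionRing R) (FractionRing R ⊗[R] R')] :
    ∃ _ : IsDomain (B ⊗[R] R'), IsDiscreteValuationRing (B ⊗[R] R') := by
  let K := FractionRing R
  let K' := FractionRing R'
  let F := AlgebraicClosure K
  obtain ⟨ϖ, hϖ⟩ := IsDiscreteValuationRing.exists_irreducible R
  obtain ⟨ϖ', hϖ'⟩ := IsDiscreteValuationRing.exists_irreducible R'
  have hm : maximalIdeal R = Ideal.span {ϖ} := (IsDiscreteValuationRing.irreducible_iff_uniformizer ϖ).1 hϖ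
  have hm' : maximalIdeal R' = Ideal.span {ϖ'} := (IsDiscreteValuationRing.irreducible_iff_uniformizer ϖ').1 hϖ'
  rw [hm, Ideal.map_span, Set.image_singleton] at hmax
  have hb : Irreducible (algebraMap R B ϖ) := (IsDiscreteValuationRing.irreducible_iff_uniformizer _).2 hmax
  have hinjB := injective_algebraMap_of_irreducible hϖ hb.ne_zero
  set a := algebraMap R R' ϖ with hadef
  have ha0 : a ≠ 0 := (map_ne_zero_iff _ hinj).2 hϖ.ne_zero
  have hau : ¬ IsUnit a := fun h => hϖ.not_isUnit (isUnit_of_map_unit _ _ h)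
  obtain ⟨e, v, hav⟩ := IsDiscreteValuationRing.eq_unit_mul_pow_irreducible ha0 hϖ'
  have he : 1 ≤ e := Nat.one_le_iff_ne_zero.2 fun h0 => hau (by rw [hav, h0, pow_zero, mul_one]; exact v.isUnit)
  -- `K'` is a finite extension of `K`
  have hRK' : Function.Injective (algebraMap R K') := by
    rw [IsScalarTower.algebraMap_eq R R' K']
    exact (IsFractionRing.injective R' K').comp hinj
  letI : Algebra K K' := (IsFractionRing.lift hRK').toAlgebra
  haveI : IsScalarTower R K K' := IsScalarTower.of_algebraMap_eq fun r => (IsFractionRing.lift_algebraMap hRK' r).symm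
  let θ : K ⊗[R] R' →ₐ[K] K' :=
    Algebra.TensorProduct.lift (Algebra.ofId K K') (IsScalarTower.toAlgHom R R' K') fun _ _ => .all _ _
  have hθ : Function.Surjective θ := by
    intro y
    obtain ⟨⟨b, c⟩, hbc⟩ := IsLocalization.surj (nonZeroDivisors R') y
    obtain ⟨n, w, hc⟩ := IsDiscreteValuationRing.eq_unit_mul_pow_irreducible (nonZeroDivisors.ne_zero c.2) hϖ'
    obtain ⟨d, hd⟩ : (c : R') ∣ a ^ n := by
      rw [hc, hav, mul_pow, ← pow_mul]
      exact (Units.mul_left_dvd).2 (Dvd.dvd.mul_left (pow_dvd_pow _ (by nlinarith)) _)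
    refine ⟨(algebraMap R K (ϖ ^ n))⁻¹ ⊗ₜ (b * d), ?_⟩
    have hn : algebraMap R K' (ϖ ^ n) ≠ 0 := (map_ne_zero_iff _ hRK').2 (pow_ne_zero n hϖ.ne_zero)
    simp only at hbc
    show algebraMap K K' _ * algebraMap R' K' (b * d) = y
    rw [map_inv₀, ← IsScalarTower.algebraMap_apply R K K', map_mul, ← hbc, mul_assoc, ← map_mul, ← hd, hadef,
      ← map_pow, ← IsScalarTower.algebraMap_apply R R' K', mul_comm y, ← mul_assoc, inv_mul_cancel₀ hn, one_mul]
  haveI : Module.Finite K K' := Module.Finite.of_surjective θ.toLinearMap hθ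
  haveI : Algebra.IsAlgebraic K K' := Algebra.IsAlgebraic.of_finite K K'
  let σ : K' →ₐ[K] F := IsAlgClosed.lift
  let j : R' →ₐ[R] F := (σ.restrictScalars R).comp (IsScalarTower.toAlgHom R R' K')
  have hjinj : Function.Injective j := σ.toRingHom.injective.comp (IsFractionRing.injective R' K')
  -- `B ⊗ R'` is a domain
  haveI : Module.IsTorsionFree R B := (Module.isTorsionFree_iff_algebraMap_injective (R := R) (A := B)).2 hinjB
  haveI : Module.Flat R B := inferInstance
  let Ψ : B ⊗[R] R' →ₐ[R] F ⊗[R] B :=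
    (Algebra.TensorProduct.comm R B F).toAlgHom.comp (Algebra.TensorProduct.map (AlgHom.id R B) j)
  have hΨ : Function.Injective Ψ := (Algebra.TensorProduct.comm R B F).injective.comp
    (Module.Flat.lTensor_preserves_injective_linearMap j.toLinearMap hjinj)
  haveI hdom : IsDomain (B ⊗[R] R') := by
    haveI := hfield.isDomain
    exact hΨ.isDomain Ψ.toRingHom
  refine ⟨hdom, ?_⟩
  -- residue fields
  have halg : ∀ y : R', IsAlgebraic R y := fun y => by
    have h1 : IsAlgebraic R (algebraMap R' K' y) :=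
      (IsFractionRing.isAlgebraic_iff R K K').2 (Algebra.IsAlgebraic.isAlgebraic _)
    exact (isAlgebraic_algebraMap_iff (IsFractionRing.injective R' K')).1 h1
  let ι : ResidueField R →+* ResidueField R' := IsLocalRing.ResidueField.map (algebraMap R R')
  have hι : Function.Surjective ι := by
    letI := ι.toAlgebra
    haveI : Algebra.IsIntegral (ResidueField R) (ResidueField R') := ⟨fun x => by
      obtain ⟨y, rfl⟩ := IsLocalRing.residue_surjective x
      obtain ⟨q, hq0, hq⟩ := halg y
      have hC : ¬ IsUnit (C ϖ : R[X]) := fun h => hϖ.not_isUnit (Polynomial.isUnit_C.1 h)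
      obtain ⟨m, q', hq', rfl⟩ := WfDvdMonoid.max_power_factor' hq0 hC
      have hq'' : aeval y q' = 0 := by
        rw [map_mul, map_pow, aeval_C] at hq
        exact (mul_eq_zero.1 hq).resolve_left (pow_ne_zero m ha0)
      refine IsAlgebraic.isIntegral ⟨q'.map (residue R), fun h0 => hq' ?_, ?_⟩
      · rw [C_dvd_iff_dvd_coeff]
        intro i
        have h1 : residue R (q'.coeff i) = 0 := by rw [← coeff_map, h0, coeff_zero]
        rw [IsLocalRing.residue_eq_zero_iff, hm, Ideal.mem_span_singleton] at h1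
        exact h1
      · rw [aeval_def, eval₂_map]
        have h2 := congrArg (residue R') hq''
        rw [aeval_def, hom_eval₂, map_zero] at h2
        exact h2⟩
    exact (IsAlgClosed.algebraMap_bijective_of_isIntegral (k := ResidueField R) (K := ResidueField R')).2
  have hdec : ∀ y : R', ∃ r t, y = algebraMap R R' r + ϖ' * t := fun y => by
    obtain ⟨c, hc⟩ := hι (residue R' y)
    obtain ⟨r, rfl⟩ := IsLocalRing.residue_surjective c
    have h1 : y - algebraMap R R' r ∈ maximalIdeal R' := by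
      rw [← IsLocalRing.residue_eq_zero_iff, map_sub, sub_eq_zero]
      exact hc.symm
    rw [hm', Ideal.mem_span_singleton] at h1
    obtain ⟨t, ht⟩ := h1
    exact ⟨r, t, by rw [← ht, add_sub_cancel]⟩
  -- the maximal ideal
  let p₀ : B ⊗[R] R' := 1 ⊗ₜ ϖ'
  let e₀ : ResidueField R ≃+* ResidueField R' := RingEquiv.ofBijective ι ⟨ι.injective, hι⟩
  let kB : ResidueField R →+* ResidueField B := Ideal.Quotient.lift _ ((residue B).comp (algebraMap R B))
    fun r hr => (IsLocalRing.residue_eq_zero_iff _).2 (by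
      rw [hm, Ideal.mem_span_singleton] at hr
      rw [hmax, Ideal.mem_span_singleton]
      exact map_dvd _ hr)
  let gR : R' →ₐ[R] ResidueField B :=
    { toRingHom := (kB.comp e₀.symm.toRingHom).comp (residue R')
      commutes' := fun r => by
        show kB (e₀.symm (residue R' (algebraMap R R' r))) = _
        rw [show residue R' (algebraMap R R' r) = e₀ (residue R r) from rfl, e₀.symm_apply_apply]
        rfl }
  let ρ : B ⊗[R] R' →ₐ[R] ResidueField B :=
    Algebra.TensorProduct.lift (IsScalarTower.toAlgHom R B (ResidueField B)) gR fun _ _ => .all _ _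
  have hsplit : ∀ z, ∃ (b : B) (w : B ⊗[R] R'), z = b ⊗ₜ 1 + p₀ * w := by
    intro z
    induction z using TensorProduct.induction_on with
    | zero => exact ⟨0, 0, by simp⟩
    | add z₁ z₂ h₁ h₂ =>
      obtain ⟨b₁, w₁, rfl⟩ := h₁
      obtain ⟨b₂, w₂, rfl⟩ := h₂
      exact ⟨b₁ + b₂, w₁ + w₂, by rw [TensorProduct.add_tmul, mul_add]; abel⟩
    | tmul b y =>
      obtain ⟨r, t, rfl⟩ := hdec y
      refine ⟨r • b, b ⊗ₜ t, ?_⟩
      rw [Algebra.TensorProduct.tmul_mul_tmul, one_mul, TensorProduct.tmul_add, TensorProduct.smul_tmul,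
        Algebra.smul_def, mul_one]
  have hρp : ρ p₀ = 0 := by
    show algebraMap B (ResidueField B) 1 * kB (e₀.symm (residue R' ϖ')) = 0
    rw [(IsLocalRing.residue_eq_zero_iff ϖ').2 (hm' ▸ Ideal.mem_span_singleton_self ϖ'), map_zero, map_zero, mul_zero]
  have hap : algebraMap R R' ϖ ∈ Ideal.span {ϖ'} := by
    rw [← hm']; exact fun hu => hau hu
  have hker : RingHom.ker ρ = Ideal.span {p₀} := by
    refine le_antisymm (fun z hz => ?_) (Ideal.span_le.2 (Set.singleton_subset_iff.2 hρp))
    obtain ⟨b, w, rfl⟩ := hsplit z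
    rw [RingHom.mem_ker, map_add, map_mul, hρp, zero_mul, add_zero] at hz
    replace hz : residue B b * gR 1 = 0 := hz
    rw [map_one, mul_one, IsLocalRing.residue_eq_zero_iff, hmax, Ideal.mem_span_singleton] at hz
    obtain ⟨b', rfl⟩ := hz
    obtain ⟨d, hd⟩ := Ideal.mem_span_singleton.1 hap
    refine Ideal.add_mem _ ?_ (Ideal.mul_mem_right _ _ (Ideal.mem_span_singleton_self _))
    rw [← Algebra.smul_def, TensorProduct.smul_tmul, Algebra.smul_def, mul_one, hd,
      show b' ⊗ₜ[R] (ϖ' * d) = p₀ * (b' ⊗ₜ d) by rw [Algebra.TensorProduct.tmul_mul_tmul, one_mul]]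
    exact Ideal.mul_mem_right _ _ (Ideal.mem_span_singleton_self _)
  have hρsurj : Function.Surjective ρ := fun x => by
    obtain ⟨b, rfl⟩ := IsLocalRing.residue_surjective x
    refine ⟨b ⊗ₜ 1, ?_⟩
    show residue B b * gR 1 = _
    rw [map_one, mul_one]
  haveI hmaxI : (Ideal.span {p₀}).IsMaximal := hker ▸ RingHom.ker_isMaximal_of_surjective ρ hρsurj
  have hp0 : p₀ ≠ 0 := fun h0 => hϖ'.ne_zero (hjinj (by
    have h1 : (j ϖ') ⊗ₜ[R] (1 : B) = 0 := by
      have := congrArg Ψ h0
      rwa [map_zero] at this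
    have hincl : Function.Injective (Algebra.TensorProduct.includeLeft : F →ₐ[R] F ⊗[R] B) := by
      haveI := hfield.nontrivial
      exact (Algebra.TensorProduct.includeLeft : F →ₐ[R] F ⊗[R] B).toRingHom.injective
    rw [map_zero]
    exact hincl (h1.trans (map_zero _).symm)))
  -- every non-zero prime is the maximal ideal
  letI : Algebra B (B ⊗[R] R') := Algebra.TensorProduct.leftAlgebra
  have hprime : ∀ P : Ideal (B ⊗[R] R'), P.IsPrime → P ≠ ⊥ → P = Ideal.span {p₀} := by
    intro P hP hne
    have hBalg : ∀ z : B ⊗[R] R', IsAlgebraic B z := fun z => by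
      induction z using TensorProduct.induction_on with
      | zero => exact isAlgebraic_zero
      | add z₁ z₂ h₁ h₂ => exact h₁.add h₂
      | tmul b y =>
        obtain ⟨q, hq0, hq⟩ := halg y
        have h1 : IsAlgebraic B ((1 : B) ⊗ₜ[R] y) := by
          refine ⟨q.map (algebraMap R B), (Polynomial.map_ne_zero_iff hinjB).2 hq0, ?_⟩
          rw [aeval_map_algebraMap]
          show aeval ((Algebra.TensorProduct.includeRight : R' →ₐ[R] B ⊗[R] R') y) q = 0
          rw [aeval_algHom_apply, hq, map_zero]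
        have h2 : b ⊗ₜ[R] y = algebraMap B (B ⊗[R] R') b * ((1 : B) ⊗ₜ y) := by
          show _ = (b ⊗ₜ[R] (1 : R')) * ((1 : B) ⊗ₜ y)
          rw [Algebra.TensorProduct.tmul_mul_tmul, mul_one, one_mul]
        rw [h2]
        exact (isAlgebraic_algebraMap b).mul h1
    obtain ⟨z, hzP, hz0⟩ := Submodule.exists_mem_ne_zero_of_ne_bot hne
    obtain ⟨c, hc, w, hzw⟩ := IsAlgebraic.exists_nonzero_dvd (hBalg z) (mem_nonZeroDivisors_of_ne_zero hz0)
    have hcP : algebraMap B (B ⊗[R] R') c ∈ P := by rw [hzw]; exact P.mul_mem_right w hzP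
    obtain ⟨n, u', rfl⟩ := IsDiscreteValuationRing.eq_unit_mul_pow_irreducible hc hb
    rw [map_mul, map_pow] at hcP
    have hπP : algebraMap B (B ⊗[R] R') (algebraMap R B ϖ) ∈ P := by
      rcases hP.mem_or_mem hcP with h | h
      · exact absurd (Ideal.eq_top_of_isUnit_mem _ h (u'.isUnit.map _)) hP.ne_top
      · exact hP.mem_of_pow_mem n h
    have hpe : p₀ ^ e ∈ P := by
      have h1 : algebraMap B (B ⊗[R] R') (algebraMap R B ϖ) = (1 : B) ⊗ₜ[R] a := by
        show (algebraMap R B ϖ) ⊗ₜ[R] (1 : R') = _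
        rw [Algebra.algebraMap_eq_smul_one, TensorProduct.smul_tmul, ← Algebra.algebraMap_eq_smul_one]
      rw [h1] at hπP
      have h2 : p₀ ^ e = ((1 : B) ⊗ₜ[R] (↑v⁻¹ : R')) * ((1 : B) ⊗ₜ[R] a) := by
        rw [Algebra.TensorProduct.tmul_pow, one_pow, Algebra.TensorProduct.tmul_mul_tmul, one_mul, hav, ← mul_assoc,
          Units.inv_mul, one_mul]
      rw [h2]
      exact P.mul_mem_left _ hπP
    exact (hmaxI.eq_of_le hP.ne_top (Ideal.span_le.2 (Set.singleton_subset_iff.2 (hP.mem_of_pow_mem e hpe)))).symm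
  have hbot : Ideal.span {p₀} ≠ ⊥ := fun h => hp0 (Ideal.span_singleton_eq_bot.1 h)
  haveI : IsLocalRing (B ⊗[R] R') := IsLocalRing.of_unique_max_ideal ⟨_, hmaxI, fun M hM => by
    refine hprime M hM.isPrime fun h0 => hbot ?_
    subst h0
    exact (hM.eq_of_le hmaxI.ne_top bot_le).symm⟩
  haveI : IsPrincipalIdealRing (B ⊗[R] R') := IsPrincipalIdealRing.of_prime_ne_bot fun P hP hne =>
    ⟨⟨p₀, hprime P hP hne⟩⟩
  exact { not_a_field' := by rw [← IsLocalRing.eq_maximalIdeal hmaxI]; exact hbot }

end Groth.Agent.ModX56
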