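import Groth.Agent.ModX56.Vertical
import Groth.Agent.ArSurfX.Form

/-!
# Torsion in the Picard group of a regular model
-/

universe u

set_option linter.style.haveILetI false
set_option backward.isDefEq.respectTransparency false
set_option backward.isDefEq.respectTransparency.types false

open CategoryTheory CategoryTheory.Limits AlgebraicGeometry IsLocalRing Order TopologicalSpace
open Groth.Agent.H23.PicMul

namespace Groth.Agent.ModX56

open Groth.Agent Groth.Agent.AModX Groth.Agent.ArSurfX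

variable {R : Type u} [CommRing R] [IsDomain R] [IsDiscreteValuationRing R]

/-- An ideal sheaf whose support misses the generic fibre has trivial module there. -/
theorem nonempty_pullback_idealMod_triv {C X : Scheme.{u}} (g : C ⟶ X) [IsOpenImmersion g]
    (D : X.IdealSheafData) (h : ∀ c, g c ∉ (D.support : Set X)) :
    Nonempty ((Scheme.Modules.pullback g).obj (ClSub.idealMod D) ≅ Coh.structureModule C) := by
  have hb : ∀ V : C.Opens, IsAffineOpen V →
      Function.Bijective ((ClSub.idealModι D).app (g ''ᵁ V)) := by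
    intro V hV
    have hU : IsAffineOpen (g ''ᵁ V) := hV.image_of_isOpenImmersion g
    have htop : D.ideal ⟨g ''ᵁ V, hU⟩ = ⊤ := by
      by_contra hne
      obtain ⟨m, hm, hle⟩ := Ideal.exists_le_maximal _ hne
      let x : X := hU.fromSpec ⟨m, hm.isPrime⟩
      have hx : x ∈ g ''ᵁ V := by
        rw [← SetLike.mem_coe, ← hU.range_fromSpec]
        exact Set.mem_range_self _
      obtain ⟨c, -, hc⟩ := hx
      refine h c ?_
      rw [show g c = x from hc, SetLike.mem_coe, Scheme.IdealSheafData.mem_support_iff_of_mem (U := ⟨g ''ᵁ V, hU⟩) (by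
        rw [← SetLike.mem_coe, ← hU.range_fromSpec]; exact Set.mem_range_self _), Scheme.mem_zeroLocus_iff]
      intro a ha hmem
      have : (⟨m, hm.isPrime⟩ : PrimeSpectrum Γ(X, g ''ᵁ V)) ∈ hU.fromSpec ⁻¹ᵁ X.basicOpen a := hmem
      rw [hU.fromSpec_preimage_basicOpen] at this
      exact this (hle ha)
    refine ⟨fun a b hab => OmegaLib.idealSect_injective D _ ?_, fun r => ?_⟩
    · rw [OmegaSh.idealSect_apply, OmegaSh.idealSect_apply]
      exact hab
    · obtain ⟨z, hz⟩ := OmegaLib.exists_of_mem D ⟨g ''ᵁ V, hU⟩ r (htop ▸ Submodule.mem_top)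
      refine ⟨z, ?_⟩
      rw [OmegaSh.idealSect_apply] at hz
      exact hz
  haveI : IsIso ((Scheme.Modules.restrictFunctor g).map (ClSub.idealModι D)) :=
    QCoh.isIso_of_isBasis _ C.isBasis_affineOpens fun V hV => hb V hV
  obtain ⟨e⟩ := PicClLib.nonempty_pullback_structureModule g
  exact ⟨((Scheme.Modules.restrictFunctorIsoPullback g).app _).symm ≪≫
    asIso ((Scheme.Modules.restrictFunctor g).map (ClSub.idealModι D)) ≪≫
    (Scheme.Modules.restrictFunctorIsoPullback g).app _ ≪≫ e⟩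

variable {C X : Scheme.{u}} {p : X ⟶ Spec (CommRingCat.of R)}
  {f : C ⟶ Spec (CommRingCat.of (FractionRing R))} {g : C ⟶ X}
  (hg : IsPullback g f p (genIncl R)) (hX : IsSurf (Over.mk p))
  {n : ℕ} {Γc : Fin n → ArSurf.VertComp R (Over.mk p)} (hΓ : Models.IsComponentList R (Over.mk p) Γc)
  {L : Fin n → X.Modules} (hL : ∀ i, ClSub.IsInverseOf (L i) (ClSub.idealMod (Γc i).ι.ker))

include hg in
theorem pullCl_component (Δ : ArSurf.VertComp R (Over.mk p)) {M : X.Modules}
    (hM : ClSub.IsInverseOf M (ClSub.idealMod Δ.ι.ker)) : PicF.pullCl g (PicF.cl M) = 1 := by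
  haveI := isOpenImmersion_genericFibre p hg
  have h := congrArg (PicF.pullCl g) (cl_eq_iff.2 hM)
  rw [cl_tensor, pullCl_mul, ← one_def, pullCl_one] at h
  have h2 : PicF.pullCl g (PicF.cl (ClSub.idealMod Δ.ι.ker)) = 1 := by
    rw [one_def]
    refine cl_eq_iff.2 (nonempty_pullback_idealMod_triv g _ fun c hc => ?_)
    rw [support_ker] at hc
    have := range_subset_specialFibreSet Δ hc
    have hmem : g c ∈ Set.range g := Set.mem_range_self c
    rw [range_genericFibre p hg] at hmem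
    exact hmem this
  rwa [h2, mul_one] at h

include hX hΓ in
theorem pos_of_isSurf : 0 < n := by
  letI := hX.isIntegral
  haveI : IsProper p := hX.isProper
  haveI : CompactSpace X := QuasiCompact.compactSpace_of_compactSpace p
  obtain ⟨y, -, hyc⟩ := (isClosed_univ (X := X)).exists_closed_singleton
    ⟨genericPoint (Over.mk p).left, trivial⟩
  obtain ⟨i, -⟩ := hX.exists_mem_range hΓ (x := y) (hX.eq_closedPoint_of_isClosed hyc)
  exact i.pos

include hg hX hΓ hL in
/-- The kernel of restriction on `h`-torsion is generated by `(1/e) X_s`, `e = gcd(h, d)`. -/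
theorem existsUnique_torsion [Nonempty C] (hbij : Function.Bijective p.appTop) (h : ℕ) (hh : 0 < h)
    {M : X.Modules} (hM : PicF.IsInvertible M) (htors : Nonempty (CohB1.tensorPow M h ≅ Coh.structureModule X))
    (htriv : Nonempty ((Scheme.Modules.pullback g).obj M ≅ Coh.structureModule C)) :
    ∃! k : ℕ, k < Nat.gcd h (Models.multGcd R (Over.mk p) Γc) ∧
      Nonempty (M ≅ FGA.multiTwist L (fun i => k * (Models.mult R (Over.mk p) (Γc i) /
        Nat.gcd h (Models.multGcd R (Over.mk p) Γc)))) := by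
  classical
  set d := Models.multGcd R (Over.mk p) Γc
  set e := Nat.gcd h d
  let m : Fin n → ℕ := fun i => Models.mult R (Over.mk p) (Γc i)
  have hn := pos_of_isSurf hX hΓ
  let i₀ : Fin n := ⟨0, hn⟩
  have hepos : 0 < e := Nat.gcd_pos_of_pos_left _ hh
  have hed : ∀ i, e ∣ m i := fun i => (Nat.gcd_dvd_right h d).trans (Finset.gcd_dvd (Finset.mem_univ i))
  obtain ⟨b, ⟨eb⟩⟩ := exists_twist_of_trivial hg hX hΓ hL hM htriv
  have hiff : ∀ a a' : Fin n → ℕ, (Nonempty (FGA.multiTwist L a ≅ FGA.multiTwist L a') ↔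
      ∃ c : ℤ, ∀ i, (a i : ℤ) - (a' i : ℤ) = c * (m i : ℤ)) :=
    fun a a' => multiTwist_iso_iff hX hbij hΓ hL a a'
  obtain ⟨c, hc⟩ := (hiff (fun i => h * b i) 0).1 (cl_eq_iff.1 (by
    rw [cl_multiTwist, cl_multiTwist]
    simp only [Pi.zero_apply, pow_zero, Finset.prod_const_one]
    rw [← show PicF.cl M ^ h = 1 by rw [← cl_tensorPow, cl_eq_iff.2 htors]; rfl,
      cl_eq_iff.2 ⟨eb⟩, cl_multiTwist, ← Finset.prod_pow]
    exact Finset.prod_congr rfl fun i _ => by rw [← pow_mul, mul_comm]))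
  simp only [Pi.zero_apply, Nat.cast_zero, sub_zero, Nat.cast_mul] at hc
  have hc0 : 0 ≤ c := by
    have hm : (0 : ℤ) < m i₀ := by exact_mod_cast hX.mult_pos (Γc i₀)
    have h1 : 0 ≤ c * (m i₀ : ℤ) := hc i₀ ▸ mul_nonneg (Int.natCast_nonneg _) (Int.natCast_nonneg _)
    by_contra hneg
    exact absurd h1 (not_le.2 (mul_neg_of_neg_of_pos (not_le.1 hneg) hm))
  lift c to ℕ using hc0
  have hc' : ∀ i, h * b i = c * m i := fun i => by exact_mod_cast hc i
  have hcd : h ∣ c * d := by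
    rw [show c * d = Finset.univ.gcd fun i => c * m i by
      rw [Finset.gcd_mul_left, normalize_eq]; rfl]
    exact Finset.dvd_gcd fun i _ => ⟨b i, (hc' i).symm⟩
  obtain ⟨h', d', hcop, hh', hd'⟩ := Nat.exists_coprime h d
  obtain ⟨k₀, rfl⟩ : h' ∣ c := by
    refine hcop.dvd_of_dvd_mul_right (Nat.dvd_of_mul_dvd_mul_right hepos ?_)
    rwa [← hh', mul_assoc, ← hd']
  have hb : ∀ i, b i = k₀ * (m i / e) := fun i => by
    obtain ⟨q, hq⟩ := hed i
    rw [hq, Nat.mul_div_cancel_left q hepos]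
    have := hc' i
    rw [hh', hq] at this
    have hh'' : 0 < h' * e := hh' ▸ hh
    exact Nat.eq_of_mul_eq_mul_left hh'' (by linarith)
  refine ⟨k₀ % e, ⟨Nat.mod_lt _ hepos, ?_⟩, ?_⟩
  · obtain ⟨φ⟩ := (hiff b fun i => k₀ % e * (m i / e)).2 ⟨((k₀ / e : ℕ) : ℤ), fun i => by
      rw [hb i]
      have h1 := Nat.div_add_mod k₀ e
      have h2 := Nat.mul_div_cancel' (hed i)
      rw [Nat.cast_mul, Nat.cast_mul]
      have h1' : (e : ℤ) * ((k₀ / e : ℕ) : ℤ) + ((k₀ % e : ℕ) : ℤ) = (k₀ : ℤ) := by exact_mod_cast h1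
      have h2' : (e : ℤ) * ((m i / e : ℕ) : ℤ) = (m i : ℤ) := by exact_mod_cast h2
      linear_combination ((k₀ / e : ℕ) : ℤ) * h2' - ((m i / e : ℕ) : ℤ) * h1'⟩
    exact ⟨eb ≪≫ φ⟩
  · rintro k ⟨hk, ⟨φ⟩⟩
    obtain ⟨c', hc''⟩ := (hiff (fun i => k * (m i / e)) b).1 ⟨φ.symm ≪≫ eb⟩
    have := hc'' i₀
    rw [hb i₀] at this
    obtain ⟨q, hq⟩ := hed i₀
    rw [hq, Nat.mul_div_cancel_left q hepos] at this
    push_cast at this
    have hq0 : (q : ℤ) ≠ 0 := by
      have := hX.mult_pos (Γc i₀)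
      intro h0
      rw [show q = 0 by exact_mod_cast h0, mul_zero] at hq
      exact this.ne' hq
    have hdiff : (k : ℤ) - k₀ = c' * e := mul_right_cancel₀ hq0 (by linear_combination this)
    have hmod : (k : ℤ) % e = (k₀ : ℤ) % e := by
      rw [show (k : ℤ) = k₀ + c' * e by linarith, Int.add_mul_emod_self_right]
    have : k % e = k₀ % e := by exact_mod_cast hmod
    rwa [Nat.mod_eq_of_lt hk] at this

include hg hX hΓ hL in
theorem injective_torsion [Nonempty C] (hbij : Function.Bijective p.appTop) (h : ℕ) (hh : 0 < h)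
    (hcop : Nat.Coprime h (Models.multGcd R (Over.mk p) Γc))
    {M : X.Modules} (hM : PicF.IsInvertible M) (htors : Nonempty (CohB1.tensorPow M h ≅ Coh.structureModule X))
    (htriv : Nonempty ((Scheme.Modules.pullback g).obj M ≅ Coh.structureModule C)) :
    Nonempty (M ≅ Coh.structureModule X) := by
  obtain ⟨k, ⟨hk, ⟨φ⟩⟩, -⟩ := existsUnique_torsion hg hX hΓ hL hbij h hh hM htors htriv
  rw [Nat.Coprime.gcd_eq_one hcop, Nat.lt_one_iff] at hk
  refine cl_eq_iff.1 ?_
  rw [cl_eq_iff.2 ⟨φ⟩, cl_multiTwist, hk]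
  simp only [zero_mul, pow_zero, Finset.prod_const_one]
  rfl

include hX hL in
/-- Twists by components are invertible, with additive intersection numbers. -/
theorem isInvertible_multiTwist (a : Fin n → ℕ) : PicF.IsInvertible (FGA.multiTwist L a) ∧
    ∀ Δ : ArSurf.VertComp R (Over.mk p), ArSurf.inter R (Over.mk p) (FGA.multiTwist L a) Δ =
      ∑ j, (a j : ℤ) * ArSurf.inter R (Over.mk p) (L j) Δ := by
  haveI : IsProper (Over.mk p).hom := hX.isProper
  have hD := isEffCartier_prod Finset.univ (fun j => (Γc j).ι.ker ^ a j)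
    fun j _ => isEffCartier_pow (hX.isEffCartier_ker (Γc j)) _
  have h1 := cl_multiTwist_mul_idealMod hX hL a
  have hinv : PicF.IsInvertible (FGA.multiTwist L a) :=
    isInvertible_of_isInverseOf (isInvertible_idealMod hD) (cl_eq_iff.1 h1)
  refine ⟨hinv, fun Δ => ?_⟩
  obtain ⟨T, hT, hTi, hTv⟩ := exists_inverse_prod Δ Finset.univ (fun j => (Γc j).ι.ker)
    (fun j => hX.isEffCartier_ker (Γc j)) L hL a
  obtain ⟨φ⟩ := cl_eq_iff.1 ((isUnit_cl (isInvertible_idealMod hD)).mul_right_cancel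
    ((show PicF.cl T * PicF.cl (ClSub.idealMod (∏ j, (Γc j).ι.ker ^ a j)) = 1 from cl_eq_iff.2 hTi).trans h1.symm))
  rw [← inter_congr Δ hT φ, hTv]

include hg hL in
/-- Twists by components are trivial on the generic fibre. -/
theorem pullCl_multiTwist (a : Fin n → ℕ) : PicF.pullCl g (PicF.cl (FGA.multiTwist L a)) = 1 := by
  rw [cl_multiTwist]
  show (pullHom g) _ = 1
  rw [map_prod]
  refine Finset.prod_eq_one fun j _ => ?_
  rw [map_pow, show (pullHom g) (PicF.cl (L j)) = 1 from pullCl_component hg (Γc j) (hL j), one_pow]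

include hX hΓ hL in
/-- Multiples of the special fibre are trivial. -/
theorem prod_pow_mult (hbij : Function.Bijective p.appTop) (k : ℕ) :
    ∏ i, PicF.cl (L i) ^ (k * Models.mult R (Over.mk p) (Γc i)) = 1 := by
  have h := (multiTwist_iso_iff hX hbij hΓ hL (fun i => k * Models.mult R (Over.mk p) (Γc i)) 0).2
    ⟨(k : ℤ), fun i => by simp⟩
  rw [← cl_eq_iff, cl_multiTwist, cl_multiTwist] at h
  simpa using h

include hg hX hL in
/-- Modules of degree zero with prescribed generic fibre exist as soon as the degree vector is vertical. -/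
theorem exists_deg_zero {N : C.Modules} {M : X.Modules} (hM : PicF.IsInvertible M)
    (hMN : Nonempty ((Scheme.Modules.pullback g).obj M ≅ N)) (v : Fin n → ℤ)
    (hv : ∀ i, ArSurf.inter R (Over.mk p) M (Γc i) = ∑ j, ArSurf.inter R (Over.mk p) (L j) (Γc i) * v j) :
    ∃ M' : X.Modules, PicF.IsInvertible M' ∧ Nonempty ((Scheme.Modules.pullback g).obj M' ≅ N) ∧
      ∀ i, ArSurf.inter R (Over.mk p) M' (Γc i) = 0 := by
  haveI : IsProper (Over.mk p).hom := hX.isProper
  let vp : Fin n → ℕ := fun j => (v j).toNat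
  let vn : Fin n → ℕ := fun j => (-v j).toNat
  have htw := isInvertible_multiTwist hX hL
  obtain ⟨Tp, hTp, hTpe⟩ := exists_isInverseOf (htw vp).1
  have h12 : PicF.IsInvertible (CohB1.tensorMod M (FGA.multiTwist L vn)) := isInvertible_tensor hM (htw vn).1
  refine ⟨CohB1.tensorMod (CohB1.tensorMod M (FGA.multiTwist L vn)) Tp, isInvertible_tensor h12 hTp,
    cl_eq_iff.1 ?_, fun i => ?_⟩
  · show PicF.pullCl g (PicF.cl _) = _
    have h1 : PicF.pullCl g (PicF.cl Tp) = 1 := by
      have h' := congrArg (PicF.pullCl g) (cl_eq_iff.2 hTpe)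
      rw [cl_tensor, pullCl_mul, pullCl_multiTwist hg hL, mul_one, ← one_def, pullCl_one] at h'
      exact h'
    rw [cl_tensor, cl_tensor, pullCl_mul, pullCl_mul, h1, pullCl_multiTwist hg hL, mul_one, mul_one]
    exact cl_eq_iff.2 hMN
  · rw [inter_tensor (Γc i) h12 hTp, inter_tensor (Γc i) hM (htw vn).1,
      inter_inverse (Γc i) (htw vp).1 hTpe, (htw vn).2, (htw vp).2, hv i, ← Finset.sum_add_distrib,
      ← sub_eq_add_neg, ← Finset.sum_sub_distrib]
    refine Finset.sum_eq_zero fun j _ => ?_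
    have : v j = (vp j : ℤ) - vn j := by simp only [vp, vn]; omega
    rw [this]
    ring

include hg hX hΓ hL in
/-- A degree zero module trivial on the generic fibre is a multiple of `(1/d) X_s`. -/
theorem exists_eq_of_deg_zero [Nonempty C] (hconn : _root_.IsConnected (Models.specialFibreSet R (Over.mk p)))
    {M : X.Modules} (hM : PicF.IsInvertible M)
    (htriv : Nonempty ((Scheme.Modules.pullback g).obj M ≅ Coh.structureModule C))
    (hdeg : ∀ i, ArSurf.inter R (Over.mk p) M (Γc i) = 0) :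
    ∃ c : ℕ, PicF.cl M =
      ∏ i, PicF.cl (L i) ^ (c * (Models.mult R (Over.mk p) (Γc i) / Models.multGcd R (Over.mk p) Γc)) := by
  classical
  haveI : IsProper (Over.mk p).hom := hX.isProper
  have hn := pos_of_isSurf hX hΓ
  let i₀ : Fin n := ⟨0, hn⟩
  let m : Fin n → ℕ := fun i => Models.mult R (Over.mk p) (Γc i)
  obtain ⟨b, ⟨eb⟩⟩ := exists_twist_of_trivial hg hX hΓ hL hM htriv
  have hbdeg : ∀ i, ∑ j, (b j : ℤ) * ArSurf.inter R (Over.mk p) (L j) (Γc i) = 0 := fun i => by
    rw [← (isInvertible_multiTwist hX hL b).2, ← inter_congr (Γc i) hM eb, hdeg i]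
  -- `b` is proportional to the multiplicities
  obtain ⟨-, hform⟩ := hX.form_nonpos hΓ hL (fun j => (b j : ℤ))
  have hQ : ∑ i, ∑ j, ArSurf.inter R (Over.mk p) (L j) (Γc i) * ((b i : ℤ) * (b j : ℤ)) = 0 :=
    Finset.sum_eq_zero fun i _ => by
      calc _ = (b i : ℤ) * ∑ j, (b j : ℤ) * ArSurf.inter R (Over.mk p) (L j) (Γc i) := by
            rw [Finset.mul_sum]; exact Finset.sum_congr rfl fun j _ => by ring
        _ = 0 := by rw [hbdeg i, mul_zero]
  have hedge := hform hQ
  have hprop : ∀ i, b i * m i₀ = b i₀ * m i := by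
    intro i
    let I := Finset.univ.filter fun i : Fin n => b i * m i₀ = b i₀ * m i
    suffices hI : I = Finset.univ by exact (Finset.mem_filter.1 (hI ▸ Finset.mem_univ i : i ∈ I)).2
    by_contra hne
    obtain ⟨i, hi, j, hj, hij⟩ := hX.connected_components hΓ hL hconn I
      ⟨i₀, Finset.mem_filter.2 ⟨Finset.mem_univ _, rfl⟩⟩ hne
    refine hj (Finset.mem_filter.2 ⟨Finset.mem_univ _, ?_⟩)
    have h1 := hedge i j hij
    have h2 := (Finset.mem_filter.1 hi).2
    have hmi : (m i : ℚ) ≠ 0 := Nat.cast_ne_zero.2 (hX.mult_pos (Γc i)).ne'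
    have hmj : (m j : ℚ) ≠ 0 := Nat.cast_ne_zero.2 (hX.mult_pos (Γc j)).ne'
    rw [div_eq_div_iff hmi hmj] at h1
    have h1' : b i * m j = b j * m i := by exact_mod_cast h1
    refine Nat.eq_of_mul_eq_mul_right (hX.mult_pos (Γc i)) ?_
    calc b j * m i₀ * m i = (b j * m i) * m i₀ := by ring
      _ = (b i * m i₀) * m j := by rw [← h1']; ring
      _ = b i₀ * m j * m i := by rw [h2]; ring
  set d := Models.multGcd R (Over.mk p) Γc
  have hdm : ∀ i, d ∣ m i := fun i => Finset.gcd_dvd (Finset.mem_univ i)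
  have hdpos : 0 < d := Nat.pos_of_dvd_of_pos (hdm i₀) (hX.mult_pos (Γc i₀))
  obtain ⟨c, hc⟩ : m i₀ ∣ b i₀ * d := by
    rw [show b i₀ * d = Finset.univ.gcd fun i => b i₀ * m i by rw [Finset.gcd_mul_left, normalize_eq]; rfl]
    exact Finset.dvd_gcd fun i _ => ⟨b i, by rw [← hprop i, mul_comm]⟩
  refine ⟨c, ?_⟩
  rw [cl_eq_iff.2 ⟨eb⟩, cl_multiTwist]
  refine Finset.prod_congr rfl fun i _ => congrArg _ ?_
  obtain ⟨q, hq⟩ := hdm i
  show b i = c * (m i / d)
  rw [hq, Nat.mul_div_cancel_left q hdpos]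
  refine Nat.eq_of_mul_eq_mul_right (hX.mult_pos (Γc i₀)) ?_
  calc b i * m i₀ = b i₀ * m i := hprop i
    _ = b i₀ * d * q := by rw [hq]; ring
    _ = c * q * m i₀ := by rw [hc]; ring

include hg hX hΓ hL in
/-- Degree zero and trivial on the generic fibre: killed by `d`. -/
theorem cl_pow_multGcd [Nonempty C] (hbij : Function.Bijective p.appTop)
    (hconn : _root_.IsConnected (Models.specialFibreSet R (Over.mk p)))
    {M : X.Modules} (hM : PicF.IsInvertible M)
    (htriv : Nonempty ((Scheme.Modules.pullback g).obj M ≅ Coh.structureModule C))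
    (hdeg : ∀ i, ArSurf.inter R (Over.mk p) M (Γc i) = 0) :
    PicF.cl M ^ Models.multGcd R (Over.mk p) Γc = 1 := by
  obtain ⟨c, hc⟩ := exists_eq_of_deg_zero hg hX hΓ hL hconn hM htriv hdeg
  rw [hc, ← Finset.prod_pow, ← prod_pow_mult hX hΓ hL hbij c]
  refine Finset.prod_congr rfl fun i _ => ?_
  rw [← pow_mul, mul_assoc,
    Nat.div_mul_cancel (show Models.multGcd R (Over.mk p) Γc ∣ _ from Finset.gcd_dvd (Finset.mem_univ i))]

include hg hX hΓ hL in
theorem exists_torsion_lift [Nonempty C] (hbij : Function.Bijective p.appTop)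
    (hconn : _root_.IsConnected (Models.specialFibreSet R (Over.mk p))) (h : ℕ)
    (hcop : Nat.Coprime h (Models.multGcd R (Over.mk p) Γc))
    {N : C.Modules} (hNt : Nonempty (CohB1.tensorPow N h ≅ Coh.structureModule C))
    {M : X.Modules} (hM : PicF.IsInvertible M) (hMN : Nonempty ((Scheme.Modules.pullback g).obj M ≅ N))
    (v : Fin n → ℤ)
    (hv : ∀ i, ArSurf.inter R (Over.mk p) M (Γc i) = ∑ j, ArSurf.inter R (Over.mk p) (L j) (Γc i) * v j) :
    ∃ M' : X.Modules, PicF.IsInvertible M' ∧ Nonempty (CohB1.tensorPow M' h ≅ Coh.structureModule X) ∧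
      Nonempty ((Scheme.Modules.pullback g).obj M' ≅ N) := by
  haveI : IsProper (Over.mk p).hom := hX.isProper
  obtain ⟨M₁, hM₁, hM₁N, hdeg⟩ := exists_deg_zero hg hX hL hM hMN v hv
  have hpullM₁ : PicF.pullCl g (PicF.cl M₁) = PicF.cl N := cl_eq_iff.2 hM₁N
  obtain ⟨c, hc⟩ := exists_eq_of_deg_zero hg hX hΓ hL hconn (M := CohB1.tensorPow M₁ h)
    (isInvertible_tensorPow hM₁ h) (cl_eq_iff.1 (by
      show PicF.pullCl g (PicF.cl (CohB1.tensorPow M₁ h)) = _
      rw [cl_tensorPow, pullCl_pow, hpullM₁, ← cl_tensorPow]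
      exact cl_eq_iff.2 hNt)) fun i => by rw [inter_tensorPow (Γc i) hM₁, hdeg i, mul_zero]
  let m : Fin n → ℕ := fun i => Models.mult R (Over.mk p) (Γc i)
  set d := Models.multGcd R (Over.mk p) Γc
  have hdm : ∀ i, d ∣ m i := fun i => Finset.gcd_dvd (Finset.mem_univ i)
  have hdpos : 0 < d := Nat.pos_of_dvd_of_pos (hdm ⟨0, pos_of_isSurf hX hΓ⟩) (hX.mult_pos _)
  -- solve `h t + c ≡ 0 (mod d)`
  obtain ⟨t, htd⟩ : ∃ t : ℕ, d ∣ h * t + c := by
    have hb := Int.gcd_eq_gcd_ab (h : ℤ) d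
    rw [show Int.gcd (h : ℤ) d = 1 from hcop] at hb
    refine ⟨((-(Int.gcdA h d) * c) % (d : ℤ)).toNat, ?_⟩
    rw [← Int.natCast_dvd_natCast]
    push_cast [Int.toNat_of_nonneg (Int.emod_nonneg _ (by exact_mod_cast hdpos.ne' : (d : ℤ) ≠ 0))]
    rw [Int.emod_def]
    refine ⟨(c : ℤ) * Int.gcdB h d - h * ((-(Int.gcdA h d) * c) / (d : ℤ)), ?_⟩
    push_cast at hb
    linear_combination (c : ℤ) * hb
  obtain ⟨s, hs⟩ := htd
  refine ⟨CohB1.tensorMod M₁ (FGA.multiTwist L fun i => t * (m i / d)),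
    isInvertible_tensor hM₁ (isInvertible_multiTwist hX hL _).1, cl_eq_iff.1 ?_, cl_eq_iff.1 ?_⟩
  · rw [cl_tensorPow, cl_tensor, mul_pow, ← cl_tensorPow, hc, cl_multiTwist,
      ← Finset.prod_pow, ← Finset.prod_mul_distrib, ← one_def, ← prod_pow_mult hX hΓ hL hbij s]
    refine Finset.prod_congr rfl fun i _ => ?_
    rw [← pow_mul, ← pow_add]
    congr 1
    calc c * (m i / d) + t * (m i / d) * h = (h * t + c) * (m i / d) := by ring
      _ = s * (d * (m i / d)) := by rw [hs]; ring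
      _ = s * m i := by rw [Nat.mul_div_cancel' (hdm i)]
  · show PicF.pullCl g (PicF.cl _) = _
    rw [cl_tensor, pullCl_mul, hpullM₁, pullCl_multiTwist hg hL, mul_one]

include hg hX hΓ hL in
/-- The obstruction to lifting an `h`-torsion class. -/
theorem torsion_lift_iff [Nonempty C] (hbij : Function.Bijective p.appTop) (h : ℕ)
    {N : C.Modules} (hNt : Nonempty (CohB1.tensorPow N h ≅ Coh.structureModule C))
    {M : X.Modules} (hM : PicF.IsInvertible M) (hMN : Nonempty ((Scheme.Modules.pullback g).obj M ≅ N))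
    (a b : Fin n → ℕ)
    (hab : Nonempty (CohB1.tensorMod (CohB1.tensorPow M h) (FGA.multiTwist L a) ≅ FGA.multiTwist L b)) :
    (∃ M' : X.Modules, PicF.IsInvertible M' ∧ Nonempty (CohB1.tensorPow M' h ≅ Coh.structureModule X) ∧
        Nonempty ((Scheme.Modules.pullback g).obj M' ≅ N)) ↔
      ∃ (c : Fin n → ℤ) (e : ℤ),
        ∀ i, ((b i : ℤ) - (a i : ℤ)) = (h : ℤ) * c i + e * (Models.mult R (Over.mk p) (Γc i) : ℤ) := by
  have htw := isInvertible_multiTwist hX hL
  have hiff := multiTwist_iso_iff hX hbij hΓ hL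
  have hab' : PicF.cl M ^ h * ∏ i, PicF.cl (L i) ^ a i = ∏ i, PicF.cl (L i) ^ b i := by
    rw [← cl_multiTwist, ← cl_multiTwist, ← cl_tensorPow, ← cl_tensor]
    exact cl_eq_iff.2 hab
  constructor
  · rintro ⟨M', hM', hM't, hM'N⟩
    obtain ⟨Mi, hMi, hMie⟩ := exists_isInverseOf hM'
    have hpi : PicF.pullCl g (PicF.cl Mi) * PicF.cl N = 1 := by
      have h' := congrArg (PicF.pullCl g) (cl_eq_iff.2 hMie)
      rw [cl_tensor, pullCl_mul, show PicF.pullCl g (PicF.cl M') = PicF.cl N from cl_eq_iff.2 hM'N,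
        ← one_def, pullCl_one] at h'
      exact h'
    obtain ⟨c, hc⟩ := exists_twist_of_trivial hg hX hΓ hL (M := CohB1.tensorMod Mi M)
      (isInvertible_tensor hMi hM) (cl_eq_iff.1 (by
        show PicF.pullCl g (PicF.cl _) = _
        rw [cl_tensor, pullCl_mul, show PicF.pullCl g (PicF.cl M) = PicF.cl N from cl_eq_iff.2 hMN, hpi, one_def]))
    have hMh : PicF.cl M ^ h = ∏ i, PicF.cl (L i) ^ (h * c i) := by
      have h1 : (PicF.cl Mi * PicF.cl M) ^ h = ∏ i, PicF.cl (L i) ^ (h * c i) := by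
        rw [← cl_tensor, cl_eq_iff.2 hc, cl_multiTwist, ← Finset.prod_pow]
        exact Finset.prod_congr rfl fun i _ => by rw [← pow_mul, mul_comm]
      have h2 : PicF.cl Mi ^ h = 1 := by
        have h3 : PicF.cl M' ^ h = 1 := by rw [← cl_tensorPow, cl_eq_iff.2 hM't]; rfl
        have h4 : (PicF.cl Mi * PicF.cl M') ^ h = 1 := by
          rw [← cl_tensor, cl_eq_iff.2 hMie, ← one_def, one_pow]
        rwa [mul_pow, h3, mul_one] at h4
      rwa [mul_pow, h2, one_mul] at h1
    rw [hMh, ← Finset.prod_mul_distrib] at hab'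
    simp only [← pow_add] at hab'
    obtain ⟨e, he⟩ := (hiff (fun i => h * c i + a i) b).1 (cl_eq_iff.1 (by rw [cl_multiTwist, cl_multiTwist]; exact hab'))
    exact ⟨fun i => (c i : ℤ), -e, fun i => by have := he i; push_cast at this; linarith⟩
  · rintro ⟨c, e, hce⟩
    let cp : Fin n → ℕ := fun i => (c i).toNat
    let cn : Fin n → ℕ := fun i => (-c i).toNat
    obtain ⟨T, hT, hTe⟩ := exists_isInverseOf (htw cp).1
    refine ⟨CohB1.tensorMod (CohB1.tensorMod M (FGA.multiTwist L cn)) T,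
      isInvertible_tensor (isInvertible_tensor hM (htw cn).1) hT, cl_eq_iff.1 ?_, cl_eq_iff.1 ?_⟩
    · rw [← one_def, cl_tensorPow, cl_tensor, cl_tensor, cl_multiTwist]
      have hTc : PicF.cl T * ∏ i, PicF.cl (L i) ^ cp i = 1 := by
        rw [← cl_multiTwist, ← cl_tensor, one_def]
        exact cl_eq_iff.2 hTe
      have hU : IsUnit ((∏ i, PicF.cl (L i) ^ cp i) ^ h * ∏ i, PicF.cl (L i) ^ a i) :=
        ((IsUnit.of_mul_eq_one _ (mul_comm _ _ |>.trans hTc)).pow h).mul
          (cl_multiTwist L a ▸ isUnit_cl (htw a).1)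
      refine hU.mul_right_cancel ?_
      calc (PicF.cl M * (∏ i, PicF.cl (L i) ^ cn i) * PicF.cl T) ^ h *
            ((∏ i, PicF.cl (L i) ^ cp i) ^ h * ∏ i, PicF.cl (L i) ^ a i) =
            (PicF.cl T * ∏ i, PicF.cl (L i) ^ cp i) ^ h *
              ((∏ i, PicF.cl (L i) ^ cn i) ^ h * (PicF.cl M ^ h * ∏ i, PicF.cl (L i) ^ a i)) := by
            simp only [mul_pow]; ac_rfl
        _ = ∏ i, PicF.cl (L i) ^ (cn i * h + b i) := by
            rw [hTc, one_pow, one_mul, hab', ← Finset.prod_pow, ← Finset.prod_mul_distrib]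
            exact Finset.prod_congr rfl fun i _ => by rw [← pow_mul, ← pow_add]
        _ = ∏ i, PicF.cl (L i) ^ (cp i * h + a i) := by
            rw [← cl_multiTwist, ← cl_multiTwist]
            refine cl_eq_iff.2 ((hiff _ _).2 ⟨e, fun i => ?_⟩)
            have h1 := hce i
            have h2 : c i = (cp i : ℤ) - cn i := by simp only [cp, cn]; omega
            rw [h2] at h1
            push_cast
            linear_combination h1
        _ = 1 * ((∏ i, PicF.cl (L i) ^ cp i) ^ h * ∏ i, PicF.cl (L i) ^ a i) := by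
            rw [one_mul, ← Finset.prod_pow, ← Finset.prod_mul_distrib]
            exact Finset.prod_congr rfl fun i _ => by rw [← pow_mul, ← pow_add]
    · show PicF.pullCl g (PicF.cl _) = _
      have h1 : PicF.pullCl g (PicF.cl T) = 1 := by
        have h' := congrArg (PicF.pullCl g) (cl_eq_iff.2 hTe)
        rw [cl_tensor, pullCl_mul, pullCl_multiTwist hg hL, mul_one, ← one_def, pullCl_one] at h'
        exact h'
      rw [cl_tensor, cl_tensor, pullCl_mul, pullCl_mul, h1, pullCl_multiTwist hg hL, mul_one, mul_one]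
      exact cl_eq_iff.2 hMN

end Groth.Agent.ModX56
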