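import Groth.Agent.ArSurfX.Fibre

/-!
# Vertical divisors on regular models which need not be proper

The statements of `ArSurfX` on effective Cartier divisors supported on the special fibre only use that the
generic points of the components have one-dimensional local rings; this file records them in that generality.
-/

universe u

set_option linter.style.haveILetI false
set_option backward.isDefEq.respectTransparency false
set_option backward.isDefEq.respectTransparency.types false

open CategoryTheory CategoryTheory.Limits AlgebraicGeometry IsLocalRing Order TopologicalSpace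

namespace Groth.Agent.ModX56

open Groth.Agent Groth.Agent.AModX Groth.Agent.ArSurfX

/-- A regular integral flat scheme over a discrete valuation ring whose vertical components have
codimension one. -/
structure IsVSurf {R : Type u} [CommRing R] [IsDomain R] [IsDiscreteValuationRing R]
    (X : Over (Spec (CommRingCat.of R))) : Prop where
  isIntegral : IsIntegral X.left
  flat : Flat X.hom
  isLocallyNoetherian : IsLocallyNoetherian X.left
  regular : ∀ x : X.left, IsRegularLocalRing (X.left.presheaf.stalk x)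
  coheight_genPtOf : ∀ Γ : ArSurf.VertComp R X, coheight (Models.genPtOf R X Γ) = 1

namespace IsVSurf

variable {R : Type u} [CommRing R] [IsDomain R] [IsDiscreteValuationRing R]
  {X : Over (Spec (CommRingCat.of R))} (hX : IsVSurf X)
include hX

theorem isDomain_stalk (x : X.left) : IsDomain (X.left.presheaf.stalk x) :=
  haveI := hX.regular x
  (RegUFD.ufd _).1

theorem ufd_stalk (x : X.left) :
    IsDomain (X.left.presheaf.stalk x) ∧ UniqueFactorizationMonoid (X.left.presheaf.stalk x) :=
  haveI := hX.regular x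
  RegUFD.ufd _

theorem apply_genericPoint :
    letI := hX.isIntegral
    (X.hom.base (genericPoint X.left)).asIdeal = ⊥ := by
  letI := hX.isIntegral
  haveI := hX.flat
  have hgen : GeneralizingMap X.hom.base := Flat.generalizingMap X.hom
  obtain ⟨z, hz, hz'⟩ := hgen (b := (⟨⊥, Ideal.isPrime_bot⟩ : PrimeSpectrum R)) (a := genericPoint X.left)
    ((PrimeSpectrum.le_iff_specializes (⟨⊥, Ideal.isPrime_bot⟩ : PrimeSpectrum R) _).1 bot_le)
  have : genericPoint X.left = z := ((genericPoint_specializes z).antisymm hz).eq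
  rw [this, hz']

theorem genericPoint_notMem :
    letI := hX.isIntegral
    X.hom.base (genericPoint X.left) ≠ closedPoint R := by
  intro h
  have h1 := hX.apply_genericPoint
  rw [h] at h1
  exact IsDiscreteValuationRing.not_a_field R h1

theorem coheight_pos {x : X.left} (hx : X.hom.base x = closedPoint R) : 1 ≤ coheight x := by
  letI := hX.isIntegral
  rw [Order.one_le_iff_pos, Order.coheight_pos, not_isMax_iff]
  refine ⟨genericPoint X.left, lt_iff_le_not_ge.2 ⟨genericPoint_specializes x, fun h => ?_⟩⟩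
  exact hX.genericPoint_notMem ((((genericPoint_specializes x).antisymm h).eq).symm ▸ hx)

theorem dim_stalk_genPtOf (Γ : ArSurf.VertComp R X) :
    ringKrullDim (X.left.presheaf.stalk (Models.genPtOf R X Γ)) = 1 := by
  rw [ringKrullDim_stalk_eq_coheight, hX.coheight_genPtOf Γ]
  rfl

theorem isEffCartier_ker (Γ : ArSurf.VertComp R X) : BlowUp.IsEffCartierIdeal Γ.ι.ker := by
  haveI := hX.isLocallyNoetherian
  obtain ⟨hint, he⟩ := H23.P1Graph.image_integral Γ.ι
  refine DivX.isEffCartier_of_codim_one _ ?_ fun x _ => hX.ufd_stalk x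
  rw [he]
  exact hX.dim_stalk_genPtOf Γ

theorem eq_of_specializes_genPtOf (Γ : ArSurf.VertComp R X) {z : X.left}
    (hz : X.hom.base z = closedPoint R) (h : z ⤳ Models.genPtOf R X Γ) : z = Models.genPtOf R X Γ := by
  by_contra hne
  have hlt : Models.genPtOf R X Γ < z :=
    lt_iff_le_not_ge.2 ⟨h, fun h' => hne (h.antisymm h').eq⟩
  have h1 := Order.coheight_add_one_le hlt
  have h2 := hX.coheight_pos hz
  rw [hX.coheight_genPtOf Γ] at h1
  have := (add_le_add h2 le_rfl).trans h1
  norm_num at this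

theorem exists_mem_range {n : ℕ} {Γ : Fin n → ArSurf.VertComp R X} (hΓ : Models.IsComponentList R X Γ)
    {x : X.left} (hx : X.hom.base x = closedPoint R) : ∃ i, x ∈ Set.range (Γ i).ι.base := by
  obtain ⟨Z, hxZ, hZ⟩ : ∃ Z, x ∈ Z ∧ Z ∈ Models.fibreComponents R X := by
    obtain ⟨t, hxt, htm⟩ := zorn_subset_nonempty
      {S : Set X.left | IsIrreducible S ∧ S ⊆ Models.specialFibreSet R X} (fun c hc hch hne => by
        refine ⟨⋃₀ c, ⟨⟨?_, fun u v hu hv => ?_⟩, Set.sUnion_subset fun s hs => (hc hs).2⟩,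
          fun s hs => Set.subset_sUnion_of_mem hs⟩
        · obtain ⟨s, hs⟩ := hne
          exact (hc hs).1.1.mono (Set.subset_sUnion_of_mem hs)
        · rintro ⟨a, ⟨s, hs, has⟩, hau⟩ ⟨b, ⟨t, ht, hbt⟩, hbv⟩
          obtain ⟨w, hw, hsw, htw⟩ := hch.directedOn s hs t ht
          obtain ⟨y, hy, hyuv⟩ := (hc hw).1.2 u v hu hv ⟨a, hsw has, hau⟩ ⟨b, htw hbt, hbv⟩
          exact ⟨y, ⟨w, hw, hy⟩, hyuv⟩)
      {x} ⟨isIrreducible_singleton, Set.singleton_subset_iff.2 hx⟩
    exact ⟨t, hxt rfl, htm⟩
  rw [← hΓ.2] at hZ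
  obtain ⟨i, rfl⟩ := hZ
  exact ⟨i, hxZ⟩

theorem stalkHom_ne_zero (x : X.left) {r : R} (hr : r ≠ 0) : Models.stalkHom R X x r ≠ 0 := by
  letI := hX.isIntegral
  intro e
  have h1 : IsUnit (Models.stalkHom R X (genericPoint X.left) r) := by
    rw [isUnit_stalkHom_iff, hX.apply_genericPoint]
    exact fun h => hr (Ideal.mem_bot.1 h)
  have h2 : Models.stalkHom R X (genericPoint X.left) r =
      X.left.presheaf.stalkSpecializes (genericPoint_specializes x) (Models.stalkHom R X x r) :=
    (TopCat.Presheaf.germ_stalkSpecializes_apply X.left.presheaf _ _ _).symm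
  rw [h2, e, map_zero] at h1
  exact not_isUnit_zero h1

theorem isGen_specialFibreIdeal {ϖ : R} (hϖ : Irreducible ϖ) (U : X.left.affineOpens) :
    IsGen (Models.specialFibreIdeal R X) U (resR (le_top : U.1 ≤ ⊤) (Coh.toGlobal X.hom ϖ)) := by
  refine ⟨?_, specialFibreIdeal_ideal hϖ U⟩
  rw [← MeroX.regSub_eq_nonZeroDivisors U.2]
  intro x
  haveI := hX.isDomain_stalk x.1
  rw [germ_res_toGlobal U.1 x.2 ϖ]
  exact mem_nonZeroDivisors_of_ne_zero (hX.stalkHom_ne_zero x.1 hϖ.ne_zero)

theorem isEffCartier_specialFibreIdeal : BlowUp.IsEffCartierIdeal (Models.specialFibreIdeal R X) := fun x => by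
  obtain ⟨ϖ, hϖ⟩ := IsDiscreteValuationRing.exists_irreducible R
  obtain ⟨_, ⟨U, hU, rfl⟩, hxU, -⟩ :=
    X.left.isBasis_affineOpens.exists_subset_of_mem_open (Set.mem_univ x) isOpen_univ
  exact ⟨⟨U, hU⟩, hxU, _, (hX.isGen_specialFibreIdeal hϖ ⟨U, hU⟩).1, (hX.isGen_specialFibreIdeal hϖ ⟨U, hU⟩).2⟩

theorem le_of_stk_codim_one {I J : X.left.IdealSheafData} (hI : BlowUp.IsEffCartierIdeal I)
    (hJ : BlowUp.IsEffCartierIdeal J)
    (h : ∀ (z : X.left) (U : X.left.affineOpens) (hz : z ∈ U.1),
      coheight z ≤ 1 → CDivEq.stk I U hz ≤ CDivEq.stk J U hz) : I ≤ J := by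
  refine fun U => CDivEq.le_of_stk I J U fun x hx => ?_
  obtain ⟨W, hxW, a₀, b₀, ha₀, hb₀⟩ := exists_isGen₂ hI hJ x
  rw [CDivEq.stk_congr I U W hx hxW, CDivEq.stk_congr J U W hx hxW]
  obtain ⟨hdom, hufd⟩ := hX.ufd_stalk x
  letI := UniqueFactorizationMonoid.toGCDMonoid (X.left.presheaf.stalk x)
  set a := X.left.presheaf.germ W.1 x hxW a₀
  set b := X.left.presheaf.germ W.1 x hxW b₀
  have hb : b ≠ 0 := nonZeroDivisors.ne_zero (hb₀.germ_nzd hxW)
  show (I.ideal W).map _ ≤ (J.ideal W).map _
  rw [ha₀.2, hb₀.2, Ideal.map_span, Ideal.map_span, Set.image_singleton, Set.image_singleton,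
    Ideal.span_singleton_le_span_singleton]
  show b ∣ a
  obtain ⟨a', b', c, hrp, hea, heb⟩ : ∃ a' b' c, IsRelPrime a' b' ∧ c * a' = a ∧ c * b' = b :=
    UniqueFactorizationMonoid.exists_reduced_factors' a b hb
  rw [← heb] at hb
  by_cases hb' : IsUnit b'
  · rw [← hea, ← heb]
    exact mul_dvd_mul_left c hb'.dvd
  exfalso
  obtain ⟨p, hp, hpb⟩ := WfDvdMonoid.exists_irreducible_factor hb' (right_ne_zero_of_mul hb)
  have hp' : Prime p := UniqueFactorizationMonoid.irreducible_iff_prime.1 hp
  haveI : IsNoetherianRing (X.left.presheaf.stalk x) := by haveI := hX.regular x; infer_instance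
  haveI hQ : (Ideal.span {p}).IsPrime := (Ideal.span_singleton_prime hp.ne_zero).2 hp'
  obtain ⟨y, hyx, hyQ⟩ := H23.StalkPrimes.exists_point (Ideal.span {p})
  have hy1 : coheight y ≤ 1 := by
    rw [← CDiv6.height_primeOf hyx, hyQ]
    exact Ideal.height_le_one_of_isPrincipal_of_mem_minimalPrimes (Ideal.span {p}) _
      (by rw [Ideal.minimalPrimes_eq_subsingleton_self]; rfl)
  have hyW : y ∈ W.1 := hyx.mem_open W.1.isOpen hxW
  have hle := h y W hyW hy1
  set s := (X.left.presheaf.stalkSpecializes hyx).hom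
  have hs : ∀ c₀ : Γ(X.left, W.1), X.left.presheaf.germ W.1 y hyW c₀ = s (X.left.presheaf.germ W.1 x hxW c₀) :=
    fun c₀ => (TopCat.Presheaf.germ_stalkSpecializes_apply X.left.presheaf _ _ _).symm
  change (I.ideal W).map _ ≤ (J.ideal W).map _ at hle
  rw [ha₀.2, hb₀.2, Ideal.map_span, Ideal.map_span, Set.image_singleton, Set.image_singleton,
    Ideal.span_singleton_le_span_singleton] at hle
  obtain ⟨d, hd⟩ := hle
  have hsc : s c ≠ 0 := by
    intro e
    have := nonZeroDivisors.ne_zero (hb₀.germ_nzd hyW) (M₀ := X.left.presheaf.stalk y)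
    rw [hs, show X.left.presheaf.germ W.1 x hxW b₀ = c * b' from heb.symm, map_mul, e, zero_mul] at this
    exact this rfl
  haveI := hX.isDomain_stalk y
  change X.left.presheaf.germ W.1 y hyW a₀ = X.left.presheaf.germ W.1 y hyW b₀ * d at hd
  rw [hs, hs, show X.left.presheaf.germ W.1 x hxW a₀ = c * a' from hea.symm,
    show X.left.presheaf.germ W.1 x hxW b₀ = c * b' from heb.symm, map_mul, map_mul, mul_assoc] at hd
  have hd' := mul_left_cancel₀ hsc hd
  have hb'Q : ¬ IsUnit (s b') :=
    (CDiv6.mem_primeOf hyx b').1 (hyQ ▸ Ideal.mem_span_singleton.2 hpb)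
  have ha'Q : a' ∈ (CDiv6.primeOf hyx).asIdeal := (CDiv6.mem_primeOf hyx a').2 fun hu => hb'Q
    (isUnit_of_mul_isUnit_left (show IsUnit (s b' * d) from hd' ▸ hu))
  rw [hyQ, Ideal.mem_span_singleton] at ha'Q
  exact hp.not_isUnit (hrp ha'Q hpb)

theorem eq_of_stk_codim_one {I J : X.left.IdealSheafData} (hI : BlowUp.IsEffCartierIdeal I)
    (hJ : BlowUp.IsEffCartierIdeal J)
    (h : ∀ (z : X.left) (U : X.left.affineOpens) (hz : z ∈ U.1),
      coheight z ≤ 1 → CDivEq.stk I U hz = CDivEq.stk J U hz) : I = J :=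
  le_antisymm (hX.le_of_stk_codim_one hI hJ fun z U hz h1 => (h z U hz h1).le)
    (hX.le_of_stk_codim_one hJ hI fun z U hz h1 => (h z U hz h1).ge)

theorem stk_ker_genPtOf (Γ : ArSurf.VertComp R X) (U : X.left.affineOpens)
    (hξ : Models.genPtOf R X Γ ∈ U.1) :
    CDivEq.stk Γ.ι.ker U hξ = maximalIdeal (X.left.presheaf.stalk (Models.genPtOf R X Γ)) := by
  set ξ := Models.genPtOf R X Γ
  set q := U.2.primeIdealOf ⟨ξ, hξ⟩
  have hI : Γ.ι.ker.ideal U = q.asIdeal := by
    rw [ker_eq_vanishingIdeal, Scheme.IdealSheafData.vanishingIdeal_ideal]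
    have hpre : U.2.fromSpec ⁻¹' Set.range Γ.ι.base = closure {q} := by
      rw [← closure_genPtOf, U.2.fromSpec.isOpenEmbedding.isOpenMap.preimage_closure_eq_closure_preimage
        U.2.fromSpec.continuous]
      congr 1
      ext p
      constructor
      · intro hp
        exact U.2.fromSpec.isOpenEmbedding.injective (hp.trans (U.2.fromSpec_primeIdealOf ⟨ξ, hξ⟩).symm)
      · rintro rfl
        exact U.2.fromSpec_primeIdealOf _
    change PrimeSpectrum.vanishingIdeal (U.2.fromSpec ⁻¹' Set.range Γ.ι.base) = _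
    rw [hpre, PrimeSpectrum.vanishingIdeal_closure, PrimeSpectrum.vanishingIdeal_singleton]
  letI := X.left.presheaf.algebra_section_stalk (U := U.1) ⟨ξ, hξ⟩
  haveI := U.2.isLocalization_stalk ⟨ξ, hξ⟩
  show (Γ.ι.ker.ideal U).map _ = _
  rw [hI]
  exact IsLocalization.AtPrime.map_eq_maximalIdeal q.asIdeal (X.left.presheaf.stalk ξ)

theorem isDVR_genPtOf (Γ : ArSurf.VertComp R X) :
    ∃ _ : IsDomain (X.left.presheaf.stalk (Models.genPtOf R X Γ)),
      IsDiscreteValuationRing (X.left.presheaf.stalk (Models.genPtOf R X Γ)) := by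
  haveI := hX.regular (Models.genPtOf R X Γ)
  haveI := hX.isDomain_stalk (Models.genPtOf R X Γ)
  haveI := DimFormula.isPrincipalIdealRing_of_regular_dim_le_one (R := X.left.presheaf.stalk (Models.genPtOf R X Γ))
    (hX.dim_stalk_genPtOf Γ).le
  refine ⟨inferInstance, { not_a_field' := fun h => ?_ }⟩
  have h2 := hX.dim_stalk_genPtOf Γ
  rw [ringKrullDim_eq_zero_of_isField (IsLocalRing.isField_iff_maximalIdeal_eq.2 h)] at h2
  exact zero_ne_one h2

theorem map_maximalIdeal_eq_pow_mult (Γ : ArSurf.VertComp R X) :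
    Ideal.map (Models.stalkHom R X (Models.genPtOf R X Γ)) (maximalIdeal R) =
      maximalIdeal (X.left.presheaf.stalk (Models.genPtOf R X Γ)) ^ Models.mult R X Γ := by
  obtain ⟨ϖ, hϖ⟩ := IsDiscreteValuationRing.exists_irreducible R
  set A := X.left.presheaf.stalk (Models.genPtOf R X Γ)
  obtain ⟨_, _⟩ := hX.isDVR_genPtOf Γ
  obtain ⟨π, hπ⟩ := IsDiscreteValuationRing.exists_irreducible A
  have ht : Models.stalkHom R X (Models.genPtOf R X Γ) ϖ ≠ 0 := hX.stalkHom_ne_zero _ hϖ.ne_zero
  obtain ⟨n, hn⟩ := IsDiscreteValuationRing.associated_pow_irreducible ht hπ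
  have hI : Ideal.map (Models.stalkHom R X (Models.genPtOf R X Γ)) (maximalIdeal R) = maximalIdeal A ^ n := by
    rw [hϖ.maximalIdeal_eq, Ideal.map_span, Set.image_singleton, hπ.maximalIdeal_eq,
      Ideal.span_singleton_pow, Ideal.span_singleton_eq_span_singleton]
    exact hn
  suffices Models.mult R X Γ = n by rw [this]; exact hI
  unfold Models.mult
  rw [hI, IsDiscreteValuationRing.length_quotient_pow_maximalIdeal]
  rfl

theorem mult_pos (Γ : ArSurf.VertComp R X) : 0 < Models.mult R X Γ := by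
  by_contra h
  have h0 := hX.map_maximalIdeal_eq_pow_mult Γ
  rw [Nat.le_zero.1 (not_lt.1 h), pow_zero, Ideal.one_eq_top] at h0
  have hle : Ideal.map (Models.stalkHom R X (Models.genPtOf R X Γ)) (maximalIdeal R) ≤
      maximalIdeal (X.left.presheaf.stalk (Models.genPtOf R X Γ)) := by
    rw [Ideal.map_le_iff_le_comap]
    intro r hr
    rw [Ideal.mem_comap, IsLocalRing.mem_maximalIdeal]
    exact fun hu => (isUnit_stalkHom_iff _ _).1 hu (by rw [show Models.genPtOf R X Γ = Γ.ι.base (genericPoint Γ.curve.left) from rfl, comp_apply_eq_closedPoint]; exact hr)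
  rw [h0] at hle
  exact (maximalIdeal.isMaximal _).ne_top (top_le_iff.1 hle)

theorem specialFibreIdeal_eq_prod {n : ℕ} {Γ : Fin n → ArSurf.VertComp R X}
    (hΓ : Models.IsComponentList R X Γ) :
    Models.specialFibreIdeal R X = ∏ i, (Γ i).ι.ker ^ Models.mult R X (Γ i) := by
  classical
  obtain ⟨ϖ, hϖ⟩ := IsDiscreteValuationRing.exists_irreducible R
  refine hX.eq_of_stk_codim_one hX.isEffCartier_specialFibreIdeal
    (isEffCartier_prod _ _ fun i _ => isEffCartier_pow (hX.isEffCartier_ker (Γ i)) _) fun z U hz hz1 => ?_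
  rw [stk_prod_pow]
  have hL : CDivEq.stk (Models.specialFibreIdeal R X) U hz =
      Ideal.map (Models.stalkHom R X z) (maximalIdeal R) := by
    rw [CDivEq.stk, specialFibreIdeal_ideal hϖ U, Ideal.map_span, Set.image_singleton, hϖ.maximalIdeal_eq,
      Ideal.map_span, Set.image_singleton]
    exact congrArg (fun a => Ideal.span {a}) (germ_res_toGlobal U.1 hz ϖ)
  have htop : ∀ i, z ∉ Set.range (Γ i).ι.base → CDivEq.stk (Γ i).ι.ker U hz = ⊤ := fun i hi => by
    by_contra hne
    refine hi ?_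
    rw [← support_ker]
    exact (CDivEq.mem_support_iff _ U hz).2 hne
  by_cases hs : X.hom.base z = closedPoint R
  · obtain ⟨i, hi⟩ := hX.exists_mem_range hΓ hs
    have hzi : z = Models.genPtOf R X (Γ i) := by
      have h1 : Models.genPtOf R X (Γ i) ⤳ z := by
        rw [specializes_iff_mem_closure, closure_genPtOf]; exact hi
      by_contra hne
      have hlt : z < Models.genPtOf R X (Γ i) := lt_iff_le_not_ge.2 ⟨h1, fun h => hne (h.antisymm h1).symm⟩
      have h2 := (Order.coheight_add_one_le hlt).trans hz1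
      rw [hX.coheight_genPtOf (Γ i)] at h2
      norm_num at h2
    subst hzi
    rw [Finset.prod_eq_single_of_mem i (Finset.mem_univ i) fun j _ hj => ?_]
    · rw [hL, hX.stk_ker_genPtOf, hX.map_maximalIdeal_eq_pow_mult]
    · have hji : Models.genPtOf R X (Γ i) ∉ Set.range (Γ j).ι.base := fun hmem => by
        have h1 : Models.genPtOf R X (Γ j) ⤳ Models.genPtOf R X (Γ i) := by
          rw [specializes_iff_mem_closure, closure_genPtOf]; exact hmem
        have := hX.eq_of_specializes_genPtOf (Γ i) (comp_apply_eq_closedPoint (Γ j) _) h1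
        refine hj (hΓ.1 ?_)
        show Set.range (Γ j).ι.base = Set.range (Γ i).ι.base
        rw [← closure_genPtOf (Γ j), ← closure_genPtOf (Γ i), show Models.genPtOf R X (Γ j) = Models.genPtOf R X (Γ i) from this]
      rw [htop j hji, ← Ideal.one_eq_top, one_pow]
  · rw [hL, Finset.prod_eq_one fun i _ => by
      rw [htop i fun h => hs (range_subset_specialFibreSet (Γ i) h), ← Ideal.one_eq_top, one_pow]]
    rw [Ideal.one_eq_top, hϖ.maximalIdeal_eq, Ideal.map_span, Set.image_singleton, Ideal.span_singleton_eq_top,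
      isUnit_stalkHom_iff]
    intro hmem
    refine hs (PrimeSpectrum.ext (IsLocalRing.eq_maximalIdeal ((X.hom.base z).2.isMaximal fun e => ?_)))
    rw [e] at hmem
    exact hϖ.ne_zero (Ideal.mem_bot.1 hmem)

end IsVSurf

end Groth.Agent.ModX56
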