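import Groth.Agent.ArSurfX.Inter
import Groth.Agent.GeomField.GlobalFunctions
import Groth.Agent.S0002

/-!
# Degrees are divisible by the degree of the field of constants
-/

universe u

set_option linter.style.haveILetI false
set_option backward.isDefEq.respectTransparency false
set_option backward.isDefEq.respectTransparency.types false

open CategoryTheory CategoryTheory.Limits AlgebraicGeometry IsLocalRing

namespace Groth.Agent.ModX56

open Groth.Agent

attribute [local instance] GeomField.globalAlgebra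

variable (k : Type u) [Field k] (Y : Scheme.{u}) [Y.Over (Spec (CommRingCat.of k))]
  [IsProper (Y ↘ Spec (CommRingCat.of k))] [IsIntegral Y]

/-- All cohomology dimensions over `k` are divisible by `[H⁰(Y, O) : k]`. -/
theorem finrank_dvd_finrank_HH (M : Y.Modules) (n : ℕ) :
    Module.finrank k (Coh.HH Y (Coh.structureModule Y) 0) ∣ Module.finrank k (Coh.HH Y M n) := by
  rw [GeomField.finrank_HH_zero k Y]
  letI := (GeomField.isField_globalFunctions k Y).toField
  letI iM : Module Γ(Y, ⊤) (Coh.HH Y M n) := inferInstanceAs (Module (Coh.Γtop Y) (Coh.HH Y M n))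
  haveI : IsScalarTower k Γ(Y, ⊤) (Coh.HH Y M n) := .of_algebraMap_smul fun c x => rfl
  exact ⟨_, (Module.finrank_mul_finrank k Γ(Y, ⊤) (Coh.HH Y M n)).symm⟩

theorem finrank_HH_zero_pos : 0 < Module.finrank k (Coh.HH Y (Coh.structureModule Y) 0) := by
  haveI : IsLocallyNoetherian Y := LocallyOfFiniteType.isLocallyNoetherian (Y ↘ Spec (CommRingCat.of k))
  haveI := S0002.result k Y (Coh.structureModule Y) QCoh.isCoh_structureModule' 0
  have h1 : Nontrivial (Coh.HH Y (Coh.structureModule Y) 0) := by
    haveI : Nonempty (⊤ : Y.Opens) := ⟨⟨genericPoint Y, trivial⟩⟩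
    exact (Sheaf.H.equiv₀ (Coh.toAb (Coh.structureModule Y)) isTerminalTop).toEquiv.nontrivial_congr.2
      (inferInstanceAs (Nontrivial Γ(Y, ⊤)))
  exact Module.finrank_pos

theorem finrank_dvd_curveDeg (M : Y.Modules) :
    (Module.finrank k (Coh.HH Y (Coh.structureModule Y) 0) : ℤ) ∣ ArSurf.curveDeg k Y M := by
  unfold ArSurf.curveDeg FGA.eulerCharLE
  refine Int.dvd_sub ?_ ?_ <;>
  exact Finset.dvd_sum fun i _ => Dvd.dvd.mul_left (Int.natCast_dvd_natCast.2 (finrank_dvd_finrank_HH k Y _ i)) _

variable {R : Type u} [CommRing R] [IsDomain R] [IsDiscreteValuationRing R]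
  {X : Over (Spec (CommRingCat.of R))}

theorem wdeg_dvd_inter [IsProper X.hom] (Γ : ArSurf.VertComp R X) (L : X.left.Modules) :
    (Models.wdeg R X Γ : ℤ) ∣ ArSurf.inter R X L Γ := by
  haveI : IsProper (Γ.curve.left ↘ Spec (CommRingCat.of (ResidueField R))) := ArSurfX.isProper_curve Γ
  exact finrank_dvd_curveDeg (ResidueField R) Γ.curve.left _

theorem wdeg_pos [IsProper X.hom] (Γ : ArSurf.VertComp R X) : 0 < Models.wdeg R X Γ := by
  haveI : IsProper (Γ.curve.left ↘ Spec (CommRingCat.of (ResidueField R))) := ArSurfX.isProper_curve Γ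
  exact finrank_HH_zero_pos (ResidueField R) Γ.curve.left

theorem wdeg_dvd_h1 [IsProper X.hom] (Γ : ArSurf.VertComp R X) : Models.wdeg R X Γ ∣ Models.h1 R X Γ := by
  haveI : IsProper (Γ.curve.left ↘ Spec (CommRingCat.of (ResidueField R))) := ArSurfX.isProper_curve Γ
  exact finrank_dvd_finrank_HH (ResidueField R) Γ.curve.left _ 1

end Groth.Agent.ModX56
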